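import Cfsg.Agent.Lib.Recog.CoOneType.System
import Cfsg.Agent.Lib.PGroups.ExtraspecialOut
import Cfsg.Agent.Lib.Classical.Quad.OmegaIndex

/-!
The coordinates exist as soon as `Q` is extraspecial of order `2 ^ 9` and `C(z)/Q` has order 174182400
(owner: helper12; after the Suzuki-type file of helper20).
-/

set_option autoImplicit false
set_option linter.unusedSectionVars false
set_option linter.style.haveILetI false
set_option maxRecDepth 100000

namespace CfsgLib.Recog.CoOneType

open Cfsg CfsgLib.ThreeTrans Matrix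

local notation "Ix" => (Fin 4 ⊕ Fin 4)
local notation "R8" => Cfsg.quadFormPlus 4 (ZMod 2)

theorem card_iso_eight : Nat.card ↥(Cfsg.isometryGroup (ZMod 2) R8) = 2 * 174182400 := by
  rw [← CfsgLib.Classical.Quad.coe_qPlus, Nat.card_congr (CfsgLib.Classical.Quad.oEquiv _).toEquiv,
    CfsgLib.Classical.Quad.card_OQ_qPlus (ZMod.card 2) 3]
  norm_num [Finset.prod_range_succ]

theorem card_omega_eight : Nat.card ↥(Cfsg.Omega (ZMod 2) R8) = 174182400 := by
  have h1 := (Cfsg.Omega (ZMod 2) R8).card_mul_index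
  rw [card_iso_eight, ← CfsgLib.Classical.Quad.coe_qPlus,
    CfsgLib.Classical.Quad.index_Omega (CfsgLib.Classical.Quad.qPlus_nondeg 4) (Or.inr (by simp)) (by simp),
    CfsgLib.Classical.Quad.card_sqClass_of_two_eq_zero (by rfl), CfsgLib.Classical.Quad.coe_qPlus] at h1
  omega

/-- Position of a coordinate. -/
def idx : Ix → Nat
  | .inl i => 2 * i.1
  | .inr i => 2 * i.1 + 1

/-- One coordinate as a number. -/
def eterm (v : Ix → ZMod 2) (i : Ix) : Nat := if v i = 1 then 2 ^ idx i else 0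

/-- The number of a vector. -/
def enc (v : Ix → ZMod 2) : Nat :=
  eterm v (.inl 0) ^^^ (eterm v (.inr 0) ^^^ (eterm v (.inl 1) ^^^ (eterm v (.inr 1) ^^^
    (eterm v (.inl 2) ^^^ (eterm v (.inr 2) ^^^ (eterm v (.inl 3) ^^^ eterm v (.inr 3)))))))

/-- The vector of a number. -/
def vec (n : Nat) : Ix → ZMod 2 := fun i => if n.testBit (idx i) then 1 else 0

/-- The matrix of a map. -/
def matOf (A : List Nat) : Matrix Ix Ix (ZMod 2) :=
  fun i j => if (A.getD (idx j) 0).testBit (idx i) then 1 else 0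

theorem eterm_add (v w : Ix → ZMod 2) (i : Ix) : eterm (v + w) i = eterm v i ^^^ eterm w i := by
  unfold eterm
  have h : ∀ a b : ZMod 2, (a = 1 ∨ a = 0) ∧ (b = 1 ∨ b = 0) := by decide
  rw [Pi.add_apply]
  rcases (h (v i) (w i)).1 with e1 | e1 <;> rcases (h (v i) (w i)).2 with e2 | e2 <;> rw [e1, e2] <;>
    simp [show (1 : ZMod 2) + 1 = 0 from rfl]

theorem enc_add (v w : Ix → ZMod 2) : enc (v + w) = enc v ^^^ enc w := by
  simp only [enc, eterm_add]
  ac_rfl

theorem enc_facts : ∀ v : Ix → ZMod 2, enc v < 256 ∧ (qb (enc v) = true ↔ R8 v = 1) ∧ (enc v = 0 ↔ v = 0) ∧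
    vec (enc v) = v := by
  decide +kernel

theorem enc_vec : ∀ n < 256, enc (vec n) = n := by decide +kernel

theorem vec_xor (a b : Nat) : vec (a ^^^ b) = vec a + vec b := by
  funext i
  simp only [vec, Pi.add_apply, Nat.testBit_xor]
  cases a.testBit (idx i) <;> cases b.testBit (idx i) <;> decide +kernel

theorem vec_two_pow (j : Ix) : vec (2 ^ idx j) = Pi.single j 1 := by
  revert j
  decide +kernel

set_option maxHeartbeats 1600000 in
theorem enc_mulVec {A : List Nat} (hA : ∀ k < 8, A.getD k 0 < 256) (hl : A.length = 8) (v : Ix → ZMod 2) :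
    enc (matOf A *ᵥ v) = app A (enc v) := by
  have hadd : ∀ a < 256, ∀ b < 256, (fun n => enc (matOf A *ᵥ vec n)) (a ^^^ b) =
      (fun n => enc (matOf A *ᵥ vec n)) a ^^^ (fun n => enc (matOf A *ᵥ vec n)) b := fun a _ b _ => by
    simp only [vec_xor, mulVec_add, enc_add]
  have hcol : ∀ j : Ix, enc (matOf A *ᵥ vec (2 ^ idx j)) = A.getD (idx j) 0 := fun j => by
    rw [vec_two_pow, mulVec_single_one]
    refine Eq.trans (congrArg enc ?_) (enc_vec _ (hA _ (by
      rcases j with j | j <;> simp only [idx] <;> omega)))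
    rfl
  have e := additive_eq (fun n => enc (matOf A *ᵥ vec n)) hadd (enc v) (enc_facts v).1
  simp only [(enc_facts v).2.2.2] at e
  rw [e]
  have h0 := hcol (.inl 0); have h1 := hcol (.inr 0); have h2 := hcol (.inl 1); have h3 := hcol (.inr 1)
  have h4 := hcol (.inl 2); have h5 := hcol (.inr 2); have h6 := hcol (.inl 3); have h7 := hcol (.inr 3)
  simp only [idx, Fin.val_zero, Fin.val_one, Fin.val_two, show ((3 : Fin 4) : Nat) = 3 from rfl, Nat.reduceMul,
    Nat.reduceAdd, Nat.reducePow] at h0 h1 h2 h3 h4 h5 h6 h7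
  rw [h0, h1, h2, h3, h4, h5, h6, h7]
  congr 1
  match A, hl with
  | [a0, a1, a2, a3, a4, a5, a6, a7], _ => rfl

/-- A reflection as a function. -/
def rf (d n : Nat) : Nat := n ^^^ (bif bb n d then d else 0)

theorem refl_entry {d : Nat} (hd : d < 256) : ∀ k < 8, (refl d).getD k 0 < 256 := by
  intro k hk
  have hb : (bif bb (2 ^ k) d then d else 0) < 256 := by cases bb (2 ^ k) d <;> simp [hd]
  interval_cases k <;> simp only [refl, one, List.map_cons, List.getD_cons_succ, List.getD_cons_zero] <;>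
    exact lt_xor (by norm_num) hb

theorem app_refl {d n : Nat} (hn : n < 256) : app (refl d) n = rf d n := by
  have hadd : ∀ a < 256, ∀ b < 256, rf d (a ^^^ b) = rf d a ^^^ rf d b := fun a _ b _ => by
    simp only [rf, bb_xor_left]
    cases bb a d <;> cases bb b d <;> simp [Nat.xor_comm, Nat.xor_left_comm, Nat.xor_assoc]
  rw [additive_eq _ hadd n hn]
  rfl

theorem rf_lt {d n : Nat} (hd : d < 256) (hn : n < 256) : rf d n < 256 := by
  unfold rf
  refine lt_xor hn ?_
  cases bb n d <;> simp [hd]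

theorem qb_xor (n d : Nat) : qb (n ^^^ d) = (bb n d ^^ (qb n ^^ qb d)) := by
  unfold bb
  generalize qb (n ^^^ d) = a
  generalize qb n = b
  generalize qb d = c
  cases a <;> cases b <;> cases c <;> rfl

theorem rf_qb {d : Nat} (hq : qb d = true) (n : Nat) : qb (rf d n) = qb n := by
  unfold rf
  cases h : bb n d
  · simp
  · rw [show (bif true then d else 0) = d from rfl, qb_xor, h, hq]
    cases qb n <;> rfl

theorem rf_rf {d : Nat} (hd : d < 256) (n : Nat) : rf d (rf d n) = n := by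
  unfold rf
  cases h : bb n d <;>
    simp [h, bb_xor_left, bb_self d hd, bb_zero, Nat.xor_assoc]

theorem rf_braid {d e : Nat} (hd : d < 256) (he : e < 256) (h : bb d e = true) (n : Nat) :
    rf d (rf e (rf d n)) = rf (d ^^^ e) n := by
  unfold rf
  have hh : bb e d = true := by rw [bb_comm]; exact h
  have h1 := bb_self d hd
  have h2 := bb_self e he
  cases a : bb n d <;> cases b : bb n e <;>
    simp [a, b, h, hh, h1, h2, bb_xor_left, bb_xor_right, Nat.xor_comm, Nat.xor_left_comm, Nat.xor_assoc]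

theorem vec_inj {v w : Ix → ZMod 2} (e : enc v = enc w) : v = w := by
  rw [← (enc_facts v).2.2.2, e, (enc_facts w).2.2.2]

/-- The product of two reflections in vectors that are not orthogonal. -/
theorem matPair {d e : Nat} (hd : d < 256) (he : e < 256) (h1 : qb d = true) (h2 : qb e = true)
    (h3 : bb d e = true) :
    (matOf (refl d) * matOf (refl e)) * (matOf (refl d) * matOf (refl e)) * (matOf (refl d) * matOf (refl e)) = 1 ∧
      ∀ v : Ix → ZMod 2, enc ((matOf (refl d) * matOf (refl e)) *ᵥ v) = app (comp (refl d) (refl e)) (enc v) ∧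
        R8 ((matOf (refl d) * matOf (refl e)) *ᵥ v) = R8 v := by
  have hv : ∀ v : Ix → ZMod 2, enc ((matOf (refl d) * matOf (refl e)) *ᵥ v) = rf d (rf e (enc v)) := fun v => by
    rw [← mulVec_mulVec, enc_mulVec (refl_entry hd) (length_refl d), enc_mulVec (refl_entry he) (length_refl e),
      app_refl (enc_facts v).1, app_refl (rf_lt he (enc_facts v).1)]
  refine ⟨?_, fun v => ⟨?_, ?_⟩⟩
  · refine Matrix.ext_of_mulVec_single fun j => vec_inj ?_
    rw [one_mulVec, ← mulVec_mulVec, ← mulVec_mulVec, hv, hv, hv]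
    generalize enc (Pi.single j (1 : ZMod 2)) = n
    rw [rf_braid hd he h3, rf_braid he hd (by rw [bb_comm]; exact h3), Nat.xor_comm e d,
      rf_rf (lt_xor hd he)]
  · rw [hv, app_comp (length_refl e), app_refl (n := enc v) (enc_facts v).1,
      app_refl (rf_lt he (enc_facts v).1)]
  · have hz : ∀ a b : ZMod 2, (a = 1 ↔ b = 1) → a = b := by decide
    refine hz _ _ ?_
    rw [← (enc_facts _).2.1, ← (enc_facts _).2.1, hv, rf_qb h1, rf_qb h2]

theorem anisTwo : ∀ z₁ z₂ : ZMod 2, z₁ ^ 2 + 1 * z₁ * z₂ + 1 * z₂ ^ 2 = 0 → z₁ = 0 ∧ z₂ = 0 := by decide +kernel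

/-- The hypotheses. -/
structure Hyp {G : Type*} [Group G] (z : G) (Q : Subgroup G) : Prop where
  large : LargeData z Q
  card : Nat.card Q = 512
  cardC : Nat.card (Subgroup.centralizer ({z} : Set G)) = 2 ^ 9 * 174182400

variable {G : Type*} [Group G] [Finite G] {z : G} {Q : Subgroup G} (h : Hyp z Q)
include h

theorem Hyp.exists_sys : ∃ p : G → Nat, Sys z Q p := by
  classical
  haveI : Fact (Nat.Prime 2) := ⟨Nat.prime_two⟩
  have hE := h.large.hE
  set C := Subgroup.centralizer ({z} : Set G) with hC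
  have hcz : ∀ c : C, Commute (c : G) z := fun c => mem_centralizer_singleton_iff'.1 c.2
  let act : C →* MulAut Q := MonoidHom.mk' (fun c =>
    { toFun := fun a => ⟨c * a * (c : G)⁻¹, h.large.conj_mem (hcz c) a.2⟩
      invFun := fun a => ⟨(c : G)⁻¹ * a * c, by
        have := h.large.conj_mem (hcz c).inv_left a.2
        rwa [inv_inv] at this⟩
      left_inv := fun a => Subtype.ext (by simp [mul_assoc])
      right_inv := fun a => Subtype.ext (by simp [mul_assoc])
      map_mul' := fun a b => Subtype.ext (by simp [mul_assoc]) })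
    (fun c d => MulEquiv.ext fun a => Subtype.ext (by simp [mul_assoc]))
  have hact : ∀ (c : C) (a : Q), ((act c a : Q) : G) = c * a * (c : G)⁻¹ := fun c a => rfl
  have hconj : ∀ (b a : Q), b * a * b⁻¹ * a⁻¹ ∈ Subgroup.center Q := fun b a =>
    CfsgLib.PGroups.IsExtraspecial.comm_mem hE b a
  -- kernel and image for any coordinates
  have key : ∀ {ι : Type} [Fintype ι] [DecidableEq ι] (R : (ι → ZMod 2) → ZMod 2)
      (Co : CfsgLib.PGroups.ExtraspecialOut.Coords Q R), ∃ ψ : C →* Matrix.GeneralLinearGroup ι (ZMod 2),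
      ψ.range ≤ Cfsg.isometryGroup (ZMod 2) R ∧ Nat.card ψ.range = 174182400 ∧
      ∀ (c : C) (a : Q), (ψ c : Matrix ι ι (ZMod 2)) *ᵥ Co.π a = Co.π (act c a) := by
    intro ι _ _ R Co
    obtain ⟨Φ, hΦ⟩ := Co.exists_hom hE
    refine ⟨Φ.comp act, ?_, ?_, fun c a => hΦ (act c) a⟩
    · rintro _ ⟨c, rfl⟩ u v
      obtain ⟨a, rfl⟩ := Co.surj u
      show R ((Φ (act c) : Matrix ι ι (ZMod 2)) *ᵥ Co.π a) = R (Co.π a)
      rw [hΦ, Co.sq, Co.sq, ← map_mul (act c)]
      exact CfsgLib.PGroups.ExtraspecialOut.bit_map (act c).toMonoidHom (act c).injective _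
    · have hker : (Φ.comp act).ker = Q.subgroupOf C := by
        ext c
        rw [MonoidHom.mem_ker, Subgroup.mem_subgroupOf]
        constructor
        · intro hc
          refine h.large.mem_of_trivial (hcz c) fun a ha => ?_
          have e := hΦ (act c) ⟨a, ha⟩
          rw [show Φ (act c) = 1 from hc, Units.val_one, one_mulVec] at e
          rw [Co.pi_eq, h.large.center_mem_iff] at e
          have e' : a⁻¹ * ((c : G) * a * (c : G)⁻¹) ∈ Subgroup.zpowers z := e
          have hca : Commute a (a⁻¹ * ((c : G) * a * (c : G)⁻¹)) := by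
            rcases h.large.eq_or e' with e1 | e1 <;> rw [e1]
            exacts [Commute.one_right a, h.large.commute_z ha]
          have : (c : G) * a * (c : G)⁻¹ * a⁻¹ = a⁻¹ * ((c : G) * a * (c : G)⁻¹) := by
            calc (c : G) * a * (c : G)⁻¹ * a⁻¹ = a * (a⁻¹ * ((c : G) * a * (c : G)⁻¹)) * a⁻¹ := by group
              _ = _ := by rw [hca.eq, mul_inv_cancel_right]
          rw [this]
          exact e'
        · intro hc
          apply Units.ext
          show (Φ (act c) : Matrix ι ι (ZMod 2)) = ((1 : Matrix.GeneralLinearGroup ι (ZMod 2)) : Matrix ι ι (ZMod 2))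
          refine Matrix.ext_of_mulVec_single fun j => ?_
          obtain ⟨a, ha⟩ := Co.surj (Pi.single j 1)
          rw [← ha, hΦ, Units.val_one, one_mulVec, Co.pi_eq]
          have e : a⁻¹ * act c a = a⁻¹ * ((⟨c, hc⟩ : Q) * a * (⟨c, hc⟩ : Q)⁻¹) := Subtype.ext rfl
          rw [← inv_mem_iff, _root_.mul_inv_rev, inv_inv, e]
          have := hconj ⟨c, hc⟩ a
          have hh := Subgroup.Normal.conj_mem inferInstance _ this a⁻¹
          rw [inv_inv] at hh
          have e2 : a⁻¹ * ((⟨c, hc⟩ : Q) * a * (⟨c, hc⟩ : Q)⁻¹ * a⁻¹) * a =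
              a⁻¹ * ((⟨c, hc⟩ : Q) * a * (⟨c, hc⟩ : Q)⁻¹) := by group
          rw [e2] at hh
          exact hh
      have h1 := (Φ.comp act).ker.card_mul_index
      rw [Subgroup.index_ker, hker, Nat.card_congr (Subgroup.subgroupOfEquivOfLe h.large.le_centralizer).toEquiv,
        h.card, h.cardC] at h1
      omega
  rcases CfsgLib.PGroups.ExtraspecialOut.exists_coords hE 4 h.card with hCo | ⟨-, hCo⟩
  swap
  · exfalso
    obtain ⟨Co⟩ := hCo
    obtain ⟨ψ, hle, hcard, -⟩ := key _ Co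
    have h1 := Subgroup.card_dvd_of_le hle
    rw [hcard, show quadFormMinus (4 - 1) (ZMod 2) 1 1 = ⇑(CfsgLib.Classical.Quad.qMinus 3 (ZMod 2) 1 1) from
      (CfsgLib.Classical.Quad.coe_qMinus 3 (ZMod 2) 1 1).symm,
      CfsgLib.Classical.Quad.card_isometryGroup_eq (CfsgLib.Classical.Quad.qMinus 3 (ZMod 2) 1 1) rfl,
      CfsgLib.Classical.Quad.card_OQ_qMinus (ZMod.card 2) 3 anisTwo] at h1
    simp [Finset.prod_range_succ] at h1
  obtain ⟨Co⟩ := hCo
  obtain ⟨ψ, hle, hcard, hψ⟩ := key _ Co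
  have hidx : (ψ.range.subgroupOf (Cfsg.isometryGroup (ZMod 2) R8)).index = 2 := by
    have h1 := (ψ.range.subgroupOf (Cfsg.isometryGroup (ZMod 2) R8)).card_mul_index
    rw [Nat.card_congr (Subgroup.subgroupOfEquivOfLe hle).toEquiv, hcard, card_iso_eight] at h1
    omega
  let p : G → Nat := fun a => if ha : a ∈ Q then enc (Co.π ⟨a, ha⟩) else 0
  have hp : ∀ (a : G) (ha : a ∈ Q), p a = enc (Co.π ⟨a, ha⟩) := fun a ha => dif_pos ha
  have hbit : ∀ u : Q, u ∈ Subgroup.center Q → (u : G) = sg z (CfsgLib.PGroups.ExtraspecialOut.bit u == 1) := by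
    intro u hu
    rw [h.large.center_mem_iff] at hu
    rcases h.large.eq_or hu with e | e
    · rw [CfsgLib.PGroups.ExtraspecialOut.bit_eq_zero.2 (Subtype.ext e), e]; rfl
    · have hne : u ≠ 1 := fun e' => h.large.z_ne_one (e ▸ congrArg Subtype.val e')
      rw [show CfsgLib.PGroups.ExtraspecialOut.bit u = 1 from if_neg hne, e]; rfl
  refine ⟨p, h.large, h.card, h.cardC, fun a ha => by rw [hp a ha]; exact (enc_facts _).1, fun n hn => ?_,
    fun a ha b hb => ?_, fun a ha ha0 => ?_, ?_, fun a ha => ?_, fun d e hd he h1 h2 h3 => ?_⟩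
  · obtain ⟨a, ha⟩ := Co.surj (vec n)
    exact ⟨a, a.2, by rw [hp _ a.2, ha, enc_vec n hn]⟩
  · rw [hp _ (Q.mul_mem ha hb), hp a ha, hp b hb, ← enc_add, ← Co.map_mul]
    rfl
  · rw [hp a ha, (enc_facts _).2.2.1, Co.ker, h.large.center_mem_iff] at ha0
    exact h.large.eq_or ha0
  · rw [hp z h.large.z_mem, (enc_facts _).2.2.1, Co.ker, h.large.center_mem_iff]
    exact Subgroup.mem_zpowers z
  · rw [hp a ha]
    have e := hbit (⟨a, ha⟩ * ⟨a, ha⟩) (CfsgLib.PGroups.ExtraspecialOut.mul_self_mem hE _)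
    rw [show a * a = ((⟨a, ha⟩ * ⟨a, ha⟩ : Q) : G) from rfl, e, ← Co.sq]
    congr 1
    rw [Bool.eq_iff_iff, beq_iff_eq, (enc_facts _).2.1]
  · obtain ⟨h4, hv⟩ := matPair hd he h1 h2 h3
    set M := matOf (refl d) * matOf (refl e) with hM
    let U : Matrix.GeneralLinearGroup Ix (ZMod 2) := ⟨M, M * M, by rw [← mul_assoc]; exact h4, h4⟩
    have hU : U ∈ Cfsg.isometryGroup (ZMod 2) R8 := fun u _ => (hv u).2
    have hUU : (⟨U, hU⟩ : Cfsg.isometryGroup (ZMod 2) R8) =
        (⟨U, hU⟩ * ⟨U, hU⟩) * (⟨U, hU⟩ * ⟨U, hU⟩) := by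
      apply Subtype.ext
      apply Units.ext
      show M = M * M * (M * M)
      rw [← mul_assoc, h4, one_mul]
    have hm := Subgroup.mul_self_mem_of_index_two hidx (⟨U, hU⟩ * ⟨U, hU⟩)
    rw [← hUU, Subgroup.mem_subgroupOf] at hm
    obtain ⟨c, hc⟩ := hm
    refine ⟨c, hcz c, fun a ha => ?_⟩
    rw [hp _ (h.large.conj_mem (hcz c) ha), hp a ha, ← (hv _).1]
    congr 1
    have e1 := hψ c ⟨a, ha⟩
    rw [show (ψ c : Matrix Ix Ix (ZMod 2)) = M from congrArg Units.val hc] at e1
    rw [e1]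
    rfl

end CfsgLib.Recog.CoOneType
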