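import Cfsg.Agent.Lib.Recog.CoOneType.Facts

/-!
Finite facts on the maps with a middle part (owner: helper12).
-/

set_option autoImplicit false
set_option maxRecDepth 100000
set_option Elab.async false

namespace CfsgLib.Recog.CoOneType

/-- Maps with their middle parts. -/
def midTable : List (List Nat × List Nat) :=
  [(midA, midA), (midB, midB), (midC, midC), (rep 2, midA), (rep 3, midA)]

theorem mid_conj : midTable.all (fun e => (e.1.length == 8) && (e.2.length == 8) && sect.all fun u =>
    sect.contains (app e.2 u) && comp e.1 (rho u) == comp (rho (app e.2 u)) e.1) = true := by decide +kernel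

theorem mid_fixed : [midA, midB, midC].all (fun A =>
    (app A 1 == 1) && (app A 4 == 4) && (app A 8 == 8)) = true := by decide +kernel

theorem pull_words : comp (wmap wordA) midA = comp (rho 4) (wmap wordA) ∧
    comp (wmap wordB) midB = comp (rho 4) (wmap wordB) ∧ comp (wmap wordC) midC = comp (rho 12) (wmap wordC) ∧
    app (rho 4) (app (wmap wordA) 1) = app (wmap wordA) 1 ∧ app (rho 4) (app (wmap wordA) 4) = app (wmap wordA) 4 ∧
    app (rho 4) (app (wmap wordA) 8) = app (wmap wordA) 8 ∧
    app (rho 4) (app (wmap wordB) 1) = app (wmap wordB) 1 ∧ app (rho 4) (app (wmap wordB) 4) = app (wmap wordB) 4 ∧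
    app (rho 4) (app (wmap wordB) 8) = app (wmap wordB) 8 ∧
    app (rho 12) (app (wmap wordC) 1) = app (wmap wordC) 1 ∧ bb 52 (app (wmap wordC) 1) = false ∧
    comp midA midB = midC ∧ comp midA one = midA ∧ comp midB one = midB ∧ comp midC one = midC := by
  decide +kernel

theorem mid_numbers : app midA 32 ^^^ 32 = 128 ∧ app midA 64 ^^^ 64 = 16 ∧ app midB 16 ^^^ 16 = 144 ∧
    app midB 32 ^^^ 32 = 96 ∧ app midC 16 ^^^ 16 = 144 ∧ app midC 32 ^^^ 32 = 112 := by decide +kernel

/-- A residue pairing with both of `4`, `8` and orthogonal to a totally singular middle image is nonsingular. -/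
theorem residue_nonsing : [(128, 16), (144, 96)].all (fun r => sect.all fun w =>
    !(bb w 4 && bb w 8 && !bb w r.1 && !bb w r.2) || qb w) = true := by decide +kernel

/-- The fixed vectors of the first middle map. -/
def midFix : List Nat := (List.range 16).map fun i => (bif i.testBit 0 then 4 else 0) ^^^
  ((bif i.testBit 1 then 8 else 0) ^^^ ((bif i.testBit 2 then 128 else 0) ^^^ (bif i.testBit 3 then 16 else 0)))

theorem midFix_ok : midFix.Nodup ∧ midFix.length = 16 ∧ ∀ u ∈ midFix, u ∈ sect := by decide +kernel

theorem rep_img : [0, 2, 3].all (fun i => (List.range 256).all fun n => !qb (app (rep i) n ^^^ n)) = true := by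
  decide +kernel

theorem rep_img_one : (List.range 256).all (fun n => qb (app (rep 1) n ^^^ n) || app (rep 1) n ^^^ n == 0 ||
    app (rep 1) n ^^^ n == 1) = true := by decide +kernel

theorem rep_big : [2, 3, 4].all (fun i => decide (((List.range 256).filter (fixB (rep i))).length ≤ 16) &&
    (List.range 256).all fun n => !fixB (rep i) n || imB (rep i) n) = true := by decide +kernel

theorem rep_four_img : (List.range 256).any (fun n => qb (app (rep 4) n ^^^ n)) = true := by decide +kernel

theorem rep_two_three : app (rep 2) 2 ^^^ 2 = 4 ∧ app (rep 3) 2 ^^^ 2 = 8 ∧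
    (List.range 256).any (fun n => app (rep 2) n ^^^ n == 1) = true ∧
    (List.range 256).any (fun n => app (rep 3) n ^^^ n == 1) = true ∧
    comp (rep 2) one = rep 2 ∧ comp (rep 3) one = rep 3 := by decide +kernel

end CfsgLib.Recog.CoOneType
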