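import Cfsg.Agent.Lib.Recog.CoOneType.Lifts
import Cfsg.Agent.Lib.Recog.CoOneType.MidFacts

/-!
An involution commuting with `z` and `x` seen on the second extraspecial group (owner: helper12).
-/

set_option autoImplicit false
set_option linter.unusedSectionVars false
set_option linter.unusedVariables false
set_option quotPrecheck false
set_option linter.style.haveILetI false

namespace CfsgLib.Recog.CoOneType

open CfsgLib.ThreeTrans

variable {G : Type*} [Group G] [Finite G] {z : G} {Q : Subgroup G} {p : G → Nat} {k : G}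

/-- The coordinates of a Siegel element of `P`. -/
noncomputable def hm (z : G) (Q : Subgroup G) (p : G → Nat) (k : G) (u : Nat) : Nat :=
  p (k⁻¹ * sOf z Q p k u * k)

/-- `t` shifts the Siegel element of a fixed vector by `z`. -/
noncomputable def ze (z : G) (Q : Subgroup G) (p : G → Nat) (k : G) (t : G) (u : Nat) : Bool :=
  p (k⁻¹ * (t * sOf z Q p k u * t⁻¹) * k) != hm z Q p k u

/-- A vector moved by `t` on the second extraspecial group. -/
def HatImg (Q : Subgroup G) (p : G → Nat) (k : G) (t : G) (n : Nat) : Prop :=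
  ∃ a ∈ Q.map (MulAut.conj k).toMonoidHom, p (k⁻¹ * (t * a * t⁻¹ * a⁻¹) * k) = n

/-- A vector fixed by `t` on the second extraspecial group. -/
def HatFix (Q : Subgroup G) (p : G → Nat) (k : G) (t : G) (n : Nat) : Prop :=
  ∃ a ∈ Q.map (MulAut.conj k).toMonoidHom, p (k⁻¹ * a * k) = n ∧ p (k⁻¹ * (t * a * t⁻¹) * k) = n

theorem ne_xor_one (n : Nat) : n ≠ n ^^^ 1 := fun e => by
  have h := congrArg (n ^^^ ·) e
  simp [← Nat.xor_assoc] at h

theorem qb_xor_one {n : Nat} (h : bb n 1 = false) : qb (n ^^^ 1) = qb n := by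
  rw [qb_xor, h, show qb 1 = false by decide +kernel]
  simp

namespace Sys

variable (h : Sys z Q p)
include h

/-- The pull-back of an element along an induced map. -/
theorem acts_pull {s d : G} {W M A : List Nat} (hlA : A.length = 8) (hlM : M.length = 8)
    (hlW : W.length = 8) (hd : Acts z Q p d W) (hs : Acts z Q p s M) (hcomm : comp W A = comp M W)
    (hA : ∀ n < 256, app A n < 256) : Acts z Q p (d⁻¹ * s * d) A := by
  refine ⟨(hd.1.inv_left.mul_left hs.1).mul_left hd.1, fun a ha => ?_⟩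
  have h1 : d * a * d⁻¹ ∈ Q := h.large.conj_mem hd.1 ha
  have h2 : s * (d * a * d⁻¹) * s⁻¹ ∈ Q := h.large.conj_mem hs.1 h1
  have h3 : d⁻¹ * s * d * a * (d⁻¹ * s * d)⁻¹ ∈ Q :=
    h.large.conj_mem ((hd.1.inv_left.mul_left hs.1).mul_left hd.1) ha
  refine h.app_inj hd (h.lt _ h3) (hA _ (h.lt a ha)) ?_
  rw [← app_comp hlA, hcomm, app_comp hlW, ← hd.2 a ha, ← hs.2 _ h1, ← hd.2 _ h3]
  congr 1
  group

/-- An involution inverts the lifts of its image vectors. -/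
theorem img_inverted {t a : G} {M : List Nat} {n : Nat} (hA : Acts z Q p t M) (htt : t * t = 1) (ha : a ∈ Q)
    (hn : n < 256) (e : p a = app M n ^^^ n) : t * a * t⁻¹ = a * sg z (qb (p a)) := by
  obtain ⟨β, hβ, rfl⟩ := h.surj n hn
  set c := t * β * t⁻¹ * β⁻¹ with hc
  have hcQ : c ∈ Q := Q.mul_mem (h.large.conj_mem hA.1 hβ) (Q.inv_mem hβ)
  have hpc : p c = p a := by
    rw [hc, h.map_mul _ (h.large.conj_mem hA.1 hβ) _ (Q.inv_mem hβ), h.p_inv hβ, hA.2 β hβ, e]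
  have e1 : t * c * t⁻¹ = c * sg z (qb (p a)) := by
    rw [← hpc, ← h.inv_eq hcQ, hc, inv_of_sq htt]
    calc t * (t * β * t * β⁻¹) * t = t * t * (β * t * β⁻¹ * t) := by group
      _ = β * t * β⁻¹ * t := by rw [htt, one_mul]
      _ = (t * β * t * β⁻¹)⁻¹ := by simp only [mul_inv_rev, inv_inv, inv_of_sq htt, mul_assoc]
  clear_value c
  obtain ⟨i, rfl⟩ := h.eq_of_p hcQ ha hpc
  rw [show t * (c * sg z i) * t⁻¹ = t * c * t⁻¹ * (t * sg z i * t⁻¹) by group, e1, (h.sg_comm hA.1 _).eq,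
    mul_inv_cancel_right, mul_assoc, h.sg_mul, mul_assoc, h.sg_mul, Bool.xor_comm]

end Sys

namespace Frame

variable (F : Frame z Q p k)
include F

local notation "X" => k * z * k⁻¹
local notation "P" => Q.map (MulAut.conj k).toMonoidHom
local notation "sS" => sOf z Q p k
local notation "hM" => hm z Q p k
local notation "zE" => ze z Q p k
local notation "hp" => fun a => p (k⁻¹ * a * k)

theorem hp_pair (i j : Bool) : p (k⁻¹ * (sg z i * sg X j) * k) = bif i then 1 else 0 := by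
  have hi : sg z i ∈ P := by
    cases i
    exacts [Subgroup.one_mem _, F.z_memP]
  rw [F.sys'.map_mul _ hi _ (F.sys'.sg_mem j), F.sys'.p_sg, Nat.xor_zero]
  cases i
  · exact F.sys'.p_one
  · exact F.pz

/-- Orthogonality to the first vector is commuting with `z`. -/
theorem hp_comm {a : G} (ha : a ∈ P) : Commute a z ↔ bb (p (k⁻¹ * a * k)) 1 = false := by
  rw [F.sys'.commute_iff ha F.z_memP]
  show bb (p (k⁻¹ * a * k)) (p (k⁻¹ * z * k)) = false ↔ _
  rw [F.pz]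

theorem hm_spec {u : Nat} (hu : u ∈ sect) : hM u < 256 ∧ bb (hM u) 1 = false ∧ qb (hM u) = qb u := by
  obtain ⟨h1, h2, h3⟩ := F.sOf_spec hu
  refine ⟨F.sys'.lt _ h1, (F.hp_comm h1).1 h2, F.sys'.sg_inj ?_⟩
  exact (F.sys'.sq _ h1).symm.trans (F.sq_eq hu h1 h2 h3)

theorem hm_eq {s : G} {u : Nat} (hu : u ∈ sect) (hs : s ∈ P) (hsz : Commute s z) (hsA : Acts z Q p s (rho u)) :
    ∃ i : Bool, p (k⁻¹ * s * k) = hM u ^^^ (bif i then 1 else 0) := by
  obtain ⟨h1, h2, h3⟩ := F.sOf_spec hu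
  have hQ : (sS u)⁻¹ * s ∈ Q := F.sys.inv_mul_mem h3 hsA
  obtain ⟨i, j, e⟩ := F.inter hQ (Subgroup.mul_mem _ (Subgroup.inv_mem _ h1) hs)
  refine ⟨i, ?_⟩
  rw [show s = sS u * (sg z i * sg X j) by rw [← e, mul_inv_cancel_left],
    F.sys'.map_mul _ h1 _ (F.pair_mem i j).2, F.hp_pair]
  rfl

theorem hm_xor {u v : Nat} (hu : u ∈ sect) (hv : v ∈ sect) :
    ∃ i : Bool, hM (u ^^^ v) = (hM u ^^^ hM v) ^^^ (bif i then 1 else 0) := by
  obtain ⟨a1, a2, a3⟩ := F.sOf_spec hu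
  obtain ⟨b1, b2, b3⟩ := F.sOf_spec hv
  have huv : u ^^^ v ∈ sect :=
    List.contains_iff_mem.1 (List.all_eq_true.1 (List.all_eq_true.1 sect_xor u hu) v hv)
  obtain ⟨i, e⟩ := F.hm_eq huv (Subgroup.mul_mem _ a1 b1) (a2.mul_left b2) (F.rho_mul hu hv a3 b3)
  refine ⟨i, ?_⟩
  rw [F.sys'.map_mul _ a1 _ b1] at e
  calc hM (u ^^^ v) = hM (u ^^^ v) ^^^ (bif i then 1 else 0) ^^^ (bif i then 1 else 0) := by
        rw [Nat.xor_assoc, Nat.xor_self, Nat.xor_zero]
    _ = _ := by rw [← e]; rfl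

theorem hm_inj {u : Nat} (hu : u ∈ sect) (e : hM u = 0 ∨ hM u = 1) : u = 0 := by
  obtain ⟨h1, h2, h3⟩ := F.sOf_spec hu
  obtain ⟨b, hb, hbp, hbe⟩ : ∃ b ∈ Q, b ∈ P ∧ p (k⁻¹ * b * k) = hM u := by
    rcases e with e | e
    · exact ⟨1, Q.one_mem, Subgroup.one_mem _, by rw [e]; exact F.sys'.p_one⟩
    · exact ⟨z, F.sys.large.z_mem, F.z_memP, by rw [e]; exact F.pz⟩
  obtain ⟨i, e'⟩ := F.sys'.eq_of_p hbp h1 hbe
  have hQ : sS u ∈ Q := by
    rw [e']
    refine Q.mul_mem hb ?_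
    cases i
    exacts [Q.one_mem, F.memQ]
  have h := F.sys.acts_unique (length_rho u) rfl h3 (F.sys.acts_of_mem hQ)
  rw [← rho_zero] at h
  have e1 := List.all_eq_true.1 rho_inj u hu
  rw [beq_iff_eq, h] at e1
  rw [← e1]
  decide +kernel

theorem hp_conj {a b g : G} (hg : Commute g X) (ha : a ∈ P) (hb : b ∈ P)
    (e : p (k⁻¹ * a * k) = p (k⁻¹ * b * k)) :
    p (k⁻¹ * (g * a * g⁻¹) * k) = p (k⁻¹ * (g * b * g⁻¹) * k) := by
  obtain ⟨i, rfl⟩ := F.sys'.eq_of_p ha hb e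
  have h1 : g * (a * sg X i) * g⁻¹ = g * a * g⁻¹ * sg X i := by
    rw [show g * (a * sg X i) * g⁻¹ = g * a * g⁻¹ * (g * sg X i * g⁻¹) by group, (F.sys'.sg_comm hg i).eq,
      mul_inv_cancel_right]
  rw [h1, F.sys'.map_mul _ (F.sys'.large.conj_mem hg ha) _ (F.sys'.sg_mem i), F.sys'.p_sg, Nat.xor_zero]

theorem ze_false {t : G} {u : Nat} : zE t u = false ↔ p (k⁻¹ * (t * sS u * t⁻¹) * k) = hM u := by
  simp [ze]

variable {t : G} {M A0 : List Nat}

theorem hat_move (hM' : (M, A0) ∈ midTable) (hA : Acts z Q p t M) (htx : Commute t X) {u : Nat} (hu : u ∈ sect) :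
    ∃ i : Bool, p (k⁻¹ * (t * sS u * t⁻¹) * k) = hM (app A0 u) ^^^ (bif i then 1 else 0) := by
  obtain ⟨h1, h2, h3⟩ := F.sOf_spec hu
  have h := List.all_eq_true.1 mid_conj _ hM'
  simp only [Bool.and_eq_true, beq_iff_eq, List.all_eq_true, List.contains_iff_mem] at h
  obtain ⟨⟨hl, -⟩, h⟩ := h
  obtain ⟨hs, hcomm⟩ := h u hu
  exact F.hm_eq hs (F.sys'.large.conj_mem htx h1) ((hA.1.mul_left h2).mul_left hA.1.inv_left)
    (F.sys.acts_conj hl (length_rho u) (length_rho _) hA h3 hcomm)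

theorem ze_eq (hM' : (M, A0) ∈ midTable) (hA : Acts z Q p t M) (htx : Commute t X) {u : Nat} (hu : u ∈ sect)
    (hfix : app A0 u = u) :
    p (k⁻¹ * (t * sS u * t⁻¹) * k) = hM u ^^^ (bif zE t u then 1 else 0) := by
  obtain ⟨i, e⟩ := F.hat_move hM' hA htx hu
  rw [hfix] at e
  cases i
  · rw [F.ze_false.2 (by simpa using e)]
    simpa using e
  · have : zE t u = true := by
      cases hh : zE t u
      · exact absurd ((F.ze_false.1 hh).symm.trans e) (ne_xor_one _)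
      · rfl
    rw [this]
    exact e

/-- Right multiplication by an element of `Q` shifts by the polar form. -/
theorem ze_shift (hM' : (M, A0) ∈ midTable) (hA : Acts z Q p t M) (htx : Commute t X) {u : Nat} (hu : u ∈ sect)
    (hfix : app A0 u = u) {q : G} (hq : q ∈ Q) (hq1 : bb (p q) 1 = false) :
    zE (t * q) u = (zE t u ^^ bb u (p q)) := by
  obtain ⟨h1, h2, h3⟩ := F.sOf_spec hu
  have e := F.commutator_eq hu h1 h2 h3 hq hq1
  have hqx := (F.comm_x hq).2 hq1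
  have hqs : q * sS u * q⁻¹ = (sg z (bb u (p q)) * sg X (bb u (p q)))⁻¹ * sS u := by
    rw [← e]; group
  have hpm := (F.pair_mem (bb u (p q)) (bb u (p q))).2
  have he : p (k⁻¹ * (t * q * sS u * (t * q)⁻¹) * k) =
      hM u ^^^ (bif (zE t u ^^ bb u (p q)) then 1 else 0) := by
    rw [show t * q * sS u * (t * q)⁻¹ = t * (q * sS u * q⁻¹) * t⁻¹ by group, hqs,
      show t * ((sg z (bb u (p q)) * sg X (bb u (p q)))⁻¹ * sS u) * t⁻¹ =
        t * (sg z (bb u (p q)) * sg X (bb u (p q)))⁻¹ * t⁻¹ * (t * sS u * t⁻¹) by group,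
      ((F.pair_comm hA.1 htx _ _).inv_right).eq, mul_inv_cancel_right,
      F.sys'.map_mul _ (Subgroup.inv_mem _ hpm) _ (F.sys'.large.conj_mem htx h1), F.sys'.p_inv hpm, F.hp_pair,
      F.ze_eq hM' hA htx hu hfix]
    cases bb u (p q) <;> cases zE t u <;> simp [Nat.xor_comm, Nat.xor_left_comm, Nat.xor_assoc]
  cases hb : zE t u ^^ bb u (p q)
  · rw [hb] at he
    exact F.ze_false.2 (he.trans (Nat.xor_zero _))
  · rw [hb] at he
    cases hh : zE (t * q) u
    · exact absurd ((F.ze_false.1 hh).symm.trans he) (ne_xor_one _)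
    · rfl

/-- The first vector is moved to when some Siegel element is shifted. -/
theorem img_one (hM' : (M, A0) ∈ midTable) (hA : Acts z Q p t M) (htx : Commute t X) {u : Nat} (hu : u ∈ sect)
    (hfix : app A0 u = u) (hz : zE t u = true) : HatImg Q p k t 1 := by
  obtain ⟨h1, -, -⟩ := F.sOf_spec hu
  refine ⟨_, h1, ?_⟩
  rw [F.sys'.map_mul _ (F.sys'.large.conj_mem htx h1) _ (Subgroup.inv_mem _ h1), F.sys'.p_inv h1,
    F.ze_eq hM' hA htx hu hfix, hz]
  show hM u ^^^ 1 ^^^ hM u = 1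
  rw [Nat.xor_comm (hM u) 1, Nat.xor_assoc, Nat.xor_self, Nat.xor_zero]

/-- A middle image vector gives an image vector. -/
theorem img_mid (hM' : (M, A0) ∈ midTable) (hA : Acts z Q p t M) (htx : Commute t X) {a r : Nat} (ha : a ∈ sect)
    (e : app A0 a ^^^ a = r) : ∃ i : Bool, HatImg Q p k t (hM r ^^^ (bif i then 1 else 0)) := by
  obtain ⟨h1, -, -⟩ := F.sOf_spec ha
  have hAa : app A0 a ∈ sect := by
    have h := List.all_eq_true.1 mid_conj _ hM'
    simp only [Bool.and_eq_true, beq_iff_eq, List.all_eq_true, List.contains_iff_mem] at h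
    exact (h.2 a ha).1
  obtain ⟨i, e1⟩ := F.hat_move hM' hA htx ha
  obtain ⟨j, e2⟩ := F.hm_xor hAa ha
  rw [e] at e2
  refine ⟨i ^^ j, _, h1, ?_⟩
  rw [F.sys'.map_mul _ (F.sys'.large.conj_mem htx h1) _ (Subgroup.inv_mem _ h1), F.sys'.p_inv h1, e1, e2]
  show hM (app A0 a) ^^^ (bif i then 1 else 0) ^^^ hM a = _
  cases i <;> cases j <;> simp [Nat.xor_comm, Nat.xor_left_comm, Nat.xor_assoc]

theorem conj_bb (htx : Commute t X) {a b : G} (ha : a ∈ P) (hb : b ∈ P) :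
    bb (p (k⁻¹ * (t * a * t⁻¹) * k)) (p (k⁻¹ * (t * b * t⁻¹) * k)) =
      bb (p (k⁻¹ * a * k)) (p (k⁻¹ * b * k)) := by
  have e1 := F.sys'.comm (F.sys'.large.conj_mem htx ha) (F.sys'.large.conj_mem htx hb)
  have e2 := F.sys'.comm ha hb
  rw [show t * a * t⁻¹ * (t * b * t⁻¹) * (t * a * t⁻¹)⁻¹ * (t * b * t⁻¹)⁻¹ = t * (a * b * a⁻¹ * b⁻¹) * t⁻¹ by group,
    e2, (F.sys'.sg_comm htx _).eq, mul_inv_cancel_right] at e1
  exact (F.sys'.sg_inj e1).symm

/-- Image vectors are orthogonal. -/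
theorem img_orth (htx : Commute t X) (htt : t * t = 1) {m n : Nat} (hm' : HatImg Q p k t m)
    (hn : HatImg Q p k t n) : bb m n = false := by
  obtain ⟨a, ha, rfl⟩ := hm'
  obtain ⟨b, hb, rfl⟩ := hn
  have ha' := F.sys'.large.conj_mem htx ha
  have hb' := F.sys'.large.conj_mem htx hb
  have e1 := F.conj_bb htx ha hb
  have e2 := F.conj_bb htx ha' hb
  have e3 : t * (t * a * t⁻¹) * t⁻¹ = a := by
    rw [inv_of_sq htt]
    calc t * (t * a * t) * t = t * t * a * (t * t) := by group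
      _ = a := by rw [htt, one_mul, mul_one]
  rw [e3] at e2
  rw [F.sys'.map_mul _ ha' _ (Subgroup.inv_mem _ ha), F.sys'.map_mul _ hb' _ (Subgroup.inv_mem _ hb),
    F.sys'.p_inv ha, F.sys'.p_inv hb, bb_xor_left, bb_xor_right, bb_xor_right, e1, e2]
  generalize bb (p (k⁻¹ * a * k)) (p (k⁻¹ * b * k)) = u
  generalize bb (p (k⁻¹ * (t * a * t⁻¹) * k)) (p (k⁻¹ * b * k)) = v
  cases u <;> cases v <;> rfl

/-- An image vector pairs with the fixed Siegel elements by the shifts. -/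
theorem img_pairing (hA : Acts z Q p t M) (hM' : (M, A0) ∈ midTable) (htx : Commute t X) :
    ∃ w ∈ sect, ∃ i : Bool, HatImg Q p k t (hM w ^^^ (bif i then 1 else 0)) ∧
      ∀ u ∈ sect, app A0 u = u → bb w u = zE t u := by
  obtain ⟨β, hβ, hpβ⟩ := F.sys'.surj 2 (by norm_num)
  have hpβ' : p (k⁻¹ * β * k) = 2 := hpβ
  set c := t * β * t⁻¹ * β⁻¹ with hc
  have hβ' := F.sys'.large.conj_mem htx hβ
  have hcP : c ∈ P := Subgroup.mul_mem _ hβ' (Subgroup.inv_mem _ hβ)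
  have hpc : p (k⁻¹ * c * k) = p (k⁻¹ * (t * β * t⁻¹) * k) ^^^ 2 := by
    rw [hc, F.sys'.map_mul _ hβ' _ (Subgroup.inv_mem _ hβ), F.sys'.p_inv hβ, hpβ']
  have h2 : bb 2 1 = true := by decide +kernel
  have hz1 : bb (p (k⁻¹ * (t * β * t⁻¹) * k)) 1 = true := by
    have e := F.conj_bb htx hβ F.z_memP
    rw [hA.1.eq, mul_inv_cancel_right, hpβ', F.pz, h2] at e
    exact e
  have hcz : Commute c z := (F.hp_comm hcP).2 (by rw [hpc, bb_xor_left, hz1, h2]; rfl)
  obtain ⟨w, hw, hwA⟩ := F.exists_rho hcP hcz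
  obtain ⟨i, e⟩ := F.hm_eq hw hcP hcz hwA
  refine ⟨w, hw, i, ⟨β, hβ, e⟩, fun u hu hfix => ?_⟩
  obtain ⟨u1, -, -⟩ := F.sOf_spec hu
  obtain ⟨hlu, hbu, hqu⟩ := F.hm_spec hu
  obtain ⟨hlw, hbw, hqw⟩ := F.hm_spec hw
  have key := F.conj_bb htx hβ u1
  rw [F.ze_eq hM' hA htx hu hfix, hpβ',
    show p (k⁻¹ * (t * β * t⁻¹) * k) = p (k⁻¹ * c * k) ^^^ 2 by rw [hpc, Nat.xor_assoc, Nat.xor_self, Nat.xor_zero],
    e, show p (k⁻¹ * sS u * k) = hM u from rfl] at key
  have hbb : bb (hM w) (hM u) = bb w u := by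
    obtain ⟨j, ej⟩ := F.hm_xor hw hu
    have huv : w ^^^ u ∈ sect :=
      List.contains_iff_mem.1 (List.all_eq_true.1 (List.all_eq_true.1 sect_xor w hw) u hu)
    obtain ⟨-, hb3, hq3⟩ := F.hm_spec huv
    have hq4 : qb (hM w ^^^ hM u) = qb (w ^^^ u) := by
      rw [← hq3, ej]
      cases j
      · rw [show (bif false then 1 else 0) = 0 from rfl, Nat.xor_zero]
      · exact (qb_xor_one (by rw [bb_xor_left, hbw, hbu]; rfl)).symm
    rw [bb, bb, hq4, hqw, hqu]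
  have h11 : bb 1 1 = false := by decide +kernel
  have h12 : bb 1 (hM u) = false := by rw [bb_comm]; exact hbu
  revert key
  generalize hh : zE t u = ζ
  cases i <;> cases ζ <;>
    simp [bb_xor_left, bb_xor_right, bb_zero, h2, h11, h12, hbw, hbb, show ∀ x, bb 0 x = false from fun x => by
      rw [bb_comm, bb_zero]] <;> cases bb 2 (hM u) <;> cases bb w u <;> simp

theorem hatFix_xor (htx : Commute t X) {m n : Nat} (hm' : HatFix Q p k t m) (hn : HatFix Q p k t n) :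
    HatFix Q p k t (m ^^^ n) := by
  obtain ⟨a, ha, e1, e2⟩ := hm'
  obtain ⟨b, hb, e3, e4⟩ := hn
  refine ⟨a * b, Subgroup.mul_mem _ ha hb, by rw [F.sys'.map_mul _ ha _ hb]; exact congrArg₂ (· ^^^ ·) e1 e3, ?_⟩
  rw [show t * (a * b) * t⁻¹ = t * a * t⁻¹ * (t * b * t⁻¹) by group,
    F.sys'.map_mul _ (F.sys'.large.conj_mem htx ha) _ (F.sys'.large.conj_mem htx hb)]
  exact congrArg₂ (· ^^^ ·) e2 e4

theorem hatFix_one (htz : Commute t z) : HatFix Q p k t 1 :=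
  ⟨z, F.z_memP, F.pz, by rw [htz.eq, mul_inv_cancel_right]; exact F.pz⟩

theorem hatFix_img (htx : Commute t X) (htt : t * t = 1) {n : Nat} (hn : HatImg Q p k t n) :
    HatFix Q p k t n := by
  obtain ⟨a, ha, rfl⟩ := hn
  have hc : t * a * t⁻¹ * a⁻¹ ∈ P := Subgroup.mul_mem _ (F.sys'.large.conj_mem htx ha) (Subgroup.inv_mem _ ha)
  refine ⟨_, hc, rfl, ?_⟩
  rw [show t * (t * a * t⁻¹ * a⁻¹) * t⁻¹ = (t * a * t⁻¹ * a⁻¹)⁻¹ from ?_, F.sys'.p_inv hc]
  rw [inv_of_sq htt]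
  calc t * (t * a * t * a⁻¹) * t = t * t * (a * t * a⁻¹ * t) := by group
    _ = a * t * a⁻¹ * t := by rw [htt, one_mul]
    _ = (t * a * t * a⁻¹)⁻¹ := by simp only [mul_inv_rev, inv_inv, inv_of_sq htt, mul_assoc]

end Frame

end CfsgLib.Recog.CoOneType
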