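import Mathlib.GroupTheory.Sylow
import Mathlib.GroupTheory.Nilpotent

/-!
Orbit counting and the extension of a Sylow subgroup of a subgroup (owner: helper12).
-/

set_option autoImplicit false

namespace CfsgLib.Recog.CoOneType

variable {G : Type*} [Group G]

/-- The orbit of an element under a subgroup times its centralizer there. -/
theorem card_conj_orbit [Finite G] (H : Subgroup G) (t : G) :
    Nat.card H = Nat.card (Set.range fun h : H => (h : G) * t * (h : G)⁻¹) *
      Nat.card (H ⊓ Subgroup.centralizer ({t} : Set G) : Subgroup G) := by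
  classical
  set K := (H ⊓ Subgroup.centralizer ({t} : Set G)).subgroupOf H with hK
  have key : ∀ a b : H, a⁻¹ * b ∈ K ↔ (a : G) * t * (a : G)⁻¹ = (b : G) * t * (b : G)⁻¹ := by
    intro a b
    rw [hK, Subgroup.mem_subgroupOf, Subgroup.mem_inf, Subgroup.mem_centralizer_singleton_iff]
    simp only [Subgroup.coe_mul, Subgroup.coe_inv]
    constructor
    · rintro ⟨-, e⟩
      calc (a : G) * t * (a : G)⁻¹ = (a : G) * (t * ((a : G)⁻¹ * b)) * (b : G)⁻¹ := by group
        _ = (a : G) * ((a : G)⁻¹ * b * t) * (b : G)⁻¹ := by rw [e]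
        _ = _ := by group
    · intro e
      refine ⟨H.mul_mem (H.inv_mem a.2) b.2, ?_⟩
      calc (a : G)⁻¹ * b * t = (a : G)⁻¹ * ((b : G) * t * (b : G)⁻¹) * b := by group
        _ = (a : G)⁻¹ * ((a : G) * t * (a : G)⁻¹) * b := by rw [e]
        _ = _ := by group
  let f : H ⧸ K → Set.range (fun h : H => (h : G) * t * (h : G)⁻¹) :=
    Quotient.lift (fun h => ⟨_, h, rfl⟩) fun a b hab => by
      replace hab := QuotientGroup.leftRel_apply.1 hab
      exact Subtype.ext ((key a b).1 hab)
  have hf : Function.Bijective f := by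
    constructor
    · intro x y
      induction x using QuotientGroup.induction_on with | _ a => ?_
      induction y using QuotientGroup.induction_on with | _ b => ?_
      intro e
      exact QuotientGroup.eq.2 ((key a b).2 (congrArg Subtype.val e))
    · rintro ⟨_, h, rfl⟩
      exact ⟨QuotientGroup.mk h, rfl⟩
  rw [Subgroup.card_eq_card_quotient_mul_card_subgroup K, Nat.card_eq_of_bijective f hf, hK,
    Nat.card_congr (Subgroup.subgroupOfEquivOfLe (inf_le_left : H ⊓ Subgroup.centralizer ({t} : Set G) ≤ H)).toEquiv]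

/-- A Sylow subgroup of `D` normalized only inside `D` carries the full power of the prime. -/
theorem dvd_of_normalizer_le [Finite G] {p k : ℕ} [Fact p.Prime] {D : Subgroup G} (P : Sylow p D)
    (hn : ∀ n : G, (∀ x, x ∈ (P : Subgroup D).map D.subtype ↔ n * x * n⁻¹ ∈ (P : Subgroup D).map D.subtype) →
      n ∈ D)
    (hk : p ^ k ∣ Nat.card G) : p ^ k ∣ Nat.card D := by
  set T := (P : Subgroup D).map D.subtype with hT
  obtain ⟨R, hR⟩ := (P.isPGroup'.map D.subtype).exists_le_sylow
  have hsub : T.subgroupOf R = ⊤ := by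
    by_contra hne
    have hnc : NormalizerCondition (R : Subgroup G) := by
      haveI := R.isPGroup'.isNilpotent
      exact normalizerCondition_of_isNilpotent
    obtain ⟨n, hn', hnT⟩ := SetLike.exists_of_lt (hnc _ (lt_top_iff_ne_top.2 hne))
    rw [Subgroup.mem_normalizer_iff] at hn'
    have hnD : (n : G) ∈ D := by
      refine hn _ fun x => ⟨fun hx => ?_, fun hx => ?_⟩
      · exact Subgroup.mem_subgroupOf.1 ((hn' ⟨x, hR hx⟩).1 (Subgroup.mem_subgroupOf.2 hx))
      · have hxR : x ∈ (R : Subgroup G) := by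
          have := (R : Subgroup G).mul_mem ((R : Subgroup G).mul_mem ((R : Subgroup G).inv_mem n.2) (hR hx)) n.2
          rwa [show (n : G)⁻¹ * (n * x * (n : G)⁻¹) * n = x by group] at this
        exact Subgroup.mem_subgroupOf.1 ((hn' ⟨x, hxR⟩).2 (Subgroup.mem_subgroupOf.2 hx))
    have hle : (P : Subgroup D) ≤ (R : Subgroup G).subgroupOf D := fun d hd =>
      Subgroup.mem_subgroupOf.2 (hR (Subgroup.mem_map_of_mem _ hd))
    have hp : IsPGroup p ((R : Subgroup G).subgroupOf D) :=
      R.isPGroup'.comap_of_injective _ D.subtype_injective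
    have hmem : (⟨n, hnD⟩ : D) ∈ (P : Subgroup D) := by
      rw [← P.is_maximal' hp hle]
      exact Subgroup.mem_subgroupOf.2 n.2
    exact hnT (Subgroup.mem_subgroupOf.2 ⟨_, hmem, rfl⟩)
  rw [Subgroup.subgroupOf_eq_top] at hsub
  have h1 := R.pow_dvd_card_of_pow_dvd_card hk
  rw [show (R : Subgroup G) = T from le_antisymm hsub hR, hT,
    ← Nat.card_congr ((P : Subgroup D).equivMapOfInjective D.subtype D.subtype_injective).toEquiv] at h1
  exact h1.trans (Subgroup.card_subgroup_dvd_card _)

end CfsgLib.Recog.CoOneType
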