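import Cfsg.Agent.Lib.Recog.CoOneType.Facts

/-!
Finite facts separating the three classes (owner: helper12).
-/

set_option autoImplicit false
set_option maxRecDepth 100000
set_option Elab.async false

namespace CfsgLib.Recog.CoOneType

/-- Fixed vectors spanning those whose lifts commute with the element over the singular map. -/
def kerU : List Nat := [1, 4, 16, 64, 128]

/-- Fixed vectors spanning those whose lifts commute with the element over the nonsingular map. -/
def kerW : List Nat := [1, 28, 48, 64, 128]

theorem ker_ok : kerU.all (fun n => fixB (rho 4) n && !bb 16 n) = true ∧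
    kerW.all (fun n => fixB (rho 12) n && !bb 52 n) = true := by decide +kernel

/-- Possible images of `n` under an isometry fixing `K`. -/
def opts (K : List Nat) (n : Nat) : List Nat :=
  (List.range 256).filter fun m => (qb m == qb n) && K.all fun y => bb m y == bb n y

/-- Isometries fixing `kerU` and commuting with the singular map. -/
def candU : List (List Nat) :=
  ((opts kerU 2).flatMap fun a => (opts kerU 8).flatMap fun b =>
    ((opts kerU 32).filter fun c => (bb a b == bb 2 8) && (bb a c == bb 2 32) && (bb b c == bb 8 32)).map fun c =>
      [1, a, 4, b, 16, c, 64, 128]).filter fun M => comp M (rho 4) == comp (rho 4) M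

/-- Isometries fixing `kerW` and commuting with the nonsingular map. -/
def candW : List (List Nat) :=
  ((opts kerW 2).flatMap fun a => (opts kerW 8).flatMap fun b =>
    ((opts kerW 16).filter fun c => (bb a b == bb 2 8) && (bb a c == bb 2 16) && (bb b c == bb 8 16)).map fun c =>
      [1, a, 28 ^^^ (b ^^^ c), b, c, 48 ^^^ c, 64, 128]).filter fun M => comp M (rho 12) == comp (rho 12) M

theorem cand_bound : candU.length ≤ 8 ∧ candW.length ≤ 8 := by decide +kernel

theorem candW_invol : candW.all (fun M => (M == one) || !(comp M M == one) ||
    decide (64 < ((List.range 256).filter (fixB M)).length) ||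
    ([[], [1], [2, 2]] : List (List Nat)).any fun w => comp (wmap w) M == comp (rho 12) (wmap w)) = true := by
  decide +kernel

theorem rep_small : (List.range 5).all (fun i =>
    decide (((List.range 256).filter (fixB (rep i))).length ≤ 64)) = true := by decide +kernel

theorem fix_one : sect.all (fun w => w == 0 || (List.range 256).all fun n =>
    !(fixB (rho w) n) || !bb n 1) = true := by decide +kernel

theorem kerW_perp : (List.range 256).all (fun n => !fixB (rho 12) n || bb 52 n || n == 0 || n == 1 ||
    kerW.any fun y => bb n y) = true := by decide +kernel

theorem mid_four : midSylow.all (fun a => app a.1 4 == 4) = true := by decide +kernel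

/-- A lift over a vector fixed by the Sylow subgroup. -/
theorem sylow_point : midSylow.all (fun a => ((List.range 256).filter (fixB (rho 4))).all fun y =>
    (app a.1 y == y || fixB (rho 4) (app a.1 y)) && bb 144 (app a.1 y) == bb 144 y) = true := by decide +kernel

theorem sect_four : sect.all (fun v => ((List.range 256).filter (fixB (rho 4))).all fun y =>
    bb 144 (app (rho v) y) == bb 144 y) = true := by decide +kernel

theorem point_facts : fixB (rho 4) 144 = true ∧ qb 144 = false ∧
    ((List.range 256).filter fun n => fixB (rho 4) n && ((List.range 256).filter (fixB (rho 4))).all fun y =>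
      bb n y == bb 144 y).length ≤ 4 := by decide +kernel

theorem far_solutions : ((List.range 256).filter fun n => fixB (rho 12) n && (qb n == bb 52 n)).length = 24 := by
  decide +kernel

theorem wordH_facts : app (wmap wordH) 1 = 1 ∧ comp (wmap wordH) (rho 12) = comp (rho 12) (wmap wordH) ∧
    app (wmap wordH) 52 = 56 ∧ imB (rho 12) 12 = true ∧ imB (rho 12) 13 = true ∧
    (List.range 256).all (fun n => bb n 1 || !(app (rho 12) n ^^^ n == 12 || app (rho 12) n ^^^ n == 13)) = true := by
  decide +kernel

end CfsgLib.Recog.CoOneType
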