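import Cfsg.Agent.Lib.Recog.CoOneType.Seeds
import Cfsg.Agent.Lib.Recog.CoOneType.DistFacts

/-!
The two outer standard involutions are not conjugate to `z` (owner: helper12; after the Suzuki-type files of
helper20).
-/

set_option autoImplicit false
set_option linter.unusedSectionVars false
set_option linter.unusedVariables false
set_option linter.style.haveILetI false
set_option quotPrecheck false

namespace CfsgLib.Recog.CoOneType

open CfsgLib.ThreeTrans

variable {G : Type*} [Group G] [Finite G] {z : G} {Q : Subgroup G} {p : G → Nat} {k : G}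

theorem mem_opts {K : List Nat} {n m : Nat} (hm : m < 256) (hq : qb m = qb n)
    (hK : ∀ y ∈ K, bb m y = bb n y) : m ∈ opts K n := by
  simp only [opts, List.mem_filter, List.mem_range, Bool.and_eq_true, beq_iff_eq, List.all_eq_true]
  exact ⟨hm, hq, hK⟩

theorem list_eight {A : List Nat} (hl : A.length = 8) : A =
    [app A 1, app A 2, app A 4, app A 8, app A 16, app A 32, app A 64, app A 128] := by
  match A, hl with
  | [a0, a1, a2, a3, a4, a5, a6, a7], _ => simp [app, term, Nat.testBit, Nat.shiftRight_eq_div_pow]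

theorem mem_candU {A : List Nat} (hA : Iso A) (hfix : ∀ n ∈ kerU, app A n = n)
    (hcm : comp A (rho 4) = comp (rho 4) A) : A ∈ candU := by
  have hK : ∀ y ∈ kerU, y < 256 := by decide
  have ho : ∀ n < 256, app A n ∈ opts kerU n := fun n hn =>
    mem_opts (hA.2 n hn).1 (hA.2 n hn).2 fun y hy => by
      have := hA.bb_app hn (hK y hy)
      rwa [hfix y hy] at this
  simp only [candU, List.mem_filter, List.mem_flatMap, List.mem_map, Bool.and_eq_true, beq_iff_eq]
  refine ⟨⟨app A 2, ho 2 (by norm_num), app A 8, ho 8 (by norm_num), app A 32,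
    ⟨ho 32 (by norm_num), ⟨hA.bb_app (by norm_num) (by norm_num), hA.bb_app (by norm_num) (by norm_num)⟩,
      hA.bb_app (by norm_num) (by norm_num)⟩, ?_⟩, hcm⟩
  conv_rhs => rw [list_eight hA.1]
  rw [hfix 1 (by simp [kerU]), hfix 4 (by simp [kerU]), hfix 16 (by simp [kerU]), hfix 64 (by simp [kerU]),
    hfix 128 (by simp [kerU])]

theorem mem_candW {A : List Nat} (hA : Iso A) (hfix : ∀ n ∈ kerW, app A n = n)
    (hcm : comp A (rho 12) = comp (rho 12) A) : A ∈ candW := by
  have hK : ∀ y ∈ kerW, y < 256 := by decide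
  have ho : ∀ n < 256, app A n ∈ opts kerW n := fun n hn =>
    mem_opts (hA.2 n hn).1 (hA.2 n hn).2 fun y hy => by
      have := hA.bb_app hn (hK y hy)
      rwa [hfix y hy] at this
  simp only [candW, List.mem_filter, List.mem_flatMap, List.mem_map, Bool.and_eq_true, beq_iff_eq]
  refine ⟨⟨app A 2, ho 2 (by norm_num), app A 8, ho 8 (by norm_num), app A 16,
    ⟨ho 16 (by norm_num), ⟨hA.bb_app (by norm_num) (by norm_num), hA.bb_app (by norm_num) (by norm_num)⟩,
      hA.bb_app (by norm_num) (by norm_num)⟩, ?_⟩, hcm⟩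
  have e4 : app A 4 = 28 ^^^ (app A 8 ^^^ app A 16) := by
    conv_rhs => rw [← hfix 28 (by simp [kerW]), ← app_xor, ← app_xor]
    rfl
  have e32 : app A 32 = 48 ^^^ app A 16 := by
    conv_rhs => rw [← hfix 48 (by simp [kerW]), ← app_xor]
    rfl
  conv_rhs => rw [list_eight hA.1]
  rw [hfix 1 (by simp [kerW]), hfix 64 (by simp [kerW]), hfix 128 (by simp [kerW]), e4, e32]

namespace Frame

variable (F : Frame z Q p k)
include F

local notation "X" => k * z * k⁻¹
local notation "P" => Q.map (MulAut.conj k).toMonoidHom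

/-- An outer lift that moves some lift of a fixed vector has a group meeting `Q` trivially. -/
theorem inter_trivial {v m : Nat} {t h : G} (hh : h * z * h⁻¹ = t) (hv : v ∈ sect) (hv0 : v ≠ 0)
    (htA : Acts z Q p t (rho v)) (ht : Fn z Q p v t m) {n : Nat} (hn : n < 256) (hnf : app (rho v) n = n)
    (hb : bb m n = true) : z ∉ Q.map (MulAut.conj h).toMonoidHom ∧
      ∀ e ∈ Q, e ∈ Q.map (MulAut.conj h).toMonoidHom → e = 1 := by
  have F' := F.move h
  rw [hh] at F'
  set Q' := Q.map (MulAut.conj h).toMonoidHom with hQ'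
  have hne : rho v ≠ one := by
    intro e
    have e1 := List.all_eq_true.1 rho_inj v hv
    rw [beq_iff_eq, e] at e1
    exact hv0 (e1.symm.trans (by decide +kernel))
  have htQ : t ∉ Q := F.sys.not_mem_of_acts (length_rho v) htA hne
  have hL : 32 ≤ Nat.card Q' := by rw [F'.sys.card]; norm_num
  have hzQ' : z ∉ Q' := by
    intro hzm
    have e : h⁻¹ * t * h⁻¹⁻¹ = z := by rw [← hh]; group
    have hm := F'.sys.large.mem_conj hL (g := h⁻¹) (by rw [e]; exact hzm)
    rw [mem_conjMap, hQ', mem_conjMap, show h⁻¹ * (h⁻¹⁻¹ * t * h⁻¹) * h = t by group] at hm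
    exact htQ hm
  refine ⟨hzQ', fun e he he' => ?_⟩
  by_contra he1
  have hez : e ≠ z := fun e0 => hzQ' (e0 ▸ he')
  have hee : e * e = 1 := by
    have e1 := F.sys.sq e he
    cases hq : qb (p e)
    · rw [e1, hq]; rfl
    · rw [hq, show sg z true = z from rfl] at e1
      exact absurd (e1 ▸ Q'.mul_mem he' he') hzQ'
  obtain ⟨c0, hc0, hpc0⟩ := F.sys.to_one he hee he1 hez
  have hca : c0 * e * c0⁻¹ ∈ Q := F.sys.large.conj_mem hc0 he
  obtain ⟨c, hc, hce⟩ : ∃ c, Commute c z ∧ c * e * c⁻¹ = X := by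
    obtain ⟨i, e'⟩ := F.sys.eq_of_p F.memQ hca (by rw [F.px, hpc0])
    cases i
    · exact ⟨c0, hc0, by rw [e', show sg z false = 1 from rfl, mul_one]⟩
    · obtain ⟨w, hw, hpw⟩ := F.sys.surj 2 (by norm_num)
      refine ⟨w * c0, (F.sys.large.commute_z hw).mul_left hc0, ?_⟩
      rw [show w * c0 * e * (w * c0)⁻¹ = w * (c0 * e * c0⁻¹) * w⁻¹ by group, F.sys.conj_eq hca hw, hpw, hpc0,
        show bb 2 1 = true by decide +kernel, e', mul_assoc, F.sys.sg_mul, Bool.xor_self]
      exact mul_one _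
  have hm := F'.sys.large.mem_conj hL (g := c⁻¹ * k * h⁻¹) (by
    rw [show c⁻¹ * k * h⁻¹ * t * (c⁻¹ * k * h⁻¹)⁻¹ = c⁻¹ * (k * (h⁻¹ * t * h) * k⁻¹) * c by group,
      show h⁻¹ * t * h = z by rw [← hh]; group, ← hce, show c⁻¹ * (c * e * c⁻¹) * c = e by group]
    exact he')
  rw [mem_conjMap, hQ', mem_conjMap, show h⁻¹ * ((c⁻¹ * k * h⁻¹)⁻¹ * t * (c⁻¹ * k * h⁻¹)) * h =
    k⁻¹ * (c * t * c⁻¹) * k by group, ← mem_conjMap] at hm
  set t2 := c * t * c⁻¹ with ht2
  have hz2 : Commute t2 z := (hc.mul_left htA.1).mul_left hc.inv_left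
  obtain ⟨w, hw, hwA⟩ := F.exists_rho hm hz2
  have hw0 : w ≠ 0 := by
    intro e0
    rw [e0, rho_zero] at hwA
    have hq := F.sys.large.conj_mem hc.inv_left (F.sys.mem_of_acts_one hwA)
    rw [show c⁻¹ * t2 * c⁻¹⁻¹ = t by rw [ht2]; group] at hq
    exact htQ hq
  obtain ⟨β, hβ, rfl⟩ := F.sys.surj n hn
  have eβ := ht β hβ hnf
  rw [hb, show sg z true = z from rfl] at eβ
  set b := c * β * c⁻¹ with hbdef
  have hbQ : b ∈ Q := F.sys.large.conj_mem hc hβ
  have eb : t2 * b * t2⁻¹ = b * z := by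
    rw [ht2, hbdef, show c * t * c⁻¹ * (c * β * c⁻¹) * (c * t * c⁻¹)⁻¹ = c * (t * β * t⁻¹) * c⁻¹ by group, eβ,
      show c * (β * z) * c⁻¹ = c * β * c⁻¹ * (c * z * c⁻¹) by group, hc.eq, mul_inv_cancel_right]
  have hbf : app (rho w) (p b) = p b := by
    rw [← hwA.2 b hbQ, eb, F.sys.map_mul b hbQ z F.sys.large.z_mem, F.sys.z0, Nat.xor_zero]
  have hf := List.all_eq_true.1 fix_one w hw
  simp only [Bool.or_eq_true, beq_iff_eq, hw0, false_or, List.all_eq_true, Bool.not_eq_true'] at hf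
  have hb1 : bb (p b) 1 = false :=
    (hf (p b) (List.mem_range.2 (F.sys.lt b hbQ))).resolve_left (by simp [fixB, hbf])
  have hbw : bb w (p b) = false := by
    have e0 := F.rho_shift hw (F.sys.lt b hbQ) hb1
    rw [hbf, Nat.xor_self] at e0
    cases hh' : bb w (p b)
    · rfl
    · rw [hh'] at e0; exact absurd e0 (by simp)
  have ecm := F.commutator_eq hw hm hz2 hwA hbQ hb1
  rw [hbw, eb, (F.sys.large.commute_z hbQ).eq, mul_inv_cancel_right] at ecm
  exact F.sys.large.z_ne_one (ecm.trans (one_mul (1 : G)))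

/-- Elements fixing the lifts of a set of fixed vectors are few. -/
theorem not_conj_z {v m : Nat} {t : G} {K : List Nat} {cand : List (List Nat)} (hv : v ∈ sect) (hv0 : v ≠ 0)
    (htA : Acts z Q p t (rho v)) (htt : t * t = 1) (ht : Fn z Q p v t m) {n : Nat} (hn : n < 256)
    (hnf : app (rho v) n = n) (hb : bb m n = true)
    (hK : K.all (fun n => fixB (rho v) n && !bb m n) = true) (hK' : ∀ y ∈ K, y < 256) (hlen : cand.length ≤ 8)
    (hcand : ∀ A, Iso A → (∀ n ∈ K, app A n = n) → comp A (rho v) = comp (rho v) A → A ∈ cand) :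
    ¬ IsConj z t := by
  classical
  intro hc
  obtain ⟨h, hh⟩ := isConj_iff.1 hc
  obtain ⟨hzQ', hI⟩ := F.inter_trivial hh hv hv0 htA ht hn hnf hb
  have F' := F.move h
  rw [hh] at F'
  set Q' := Q.map (MulAut.conj h).toMonoidHom with hQ'
  have hB : 16 ≤ Nat.card (Q' ⊓ Subgroup.centralizer ({z} : Set G) : Subgroup G) :=
    F'.card_ge htA.1.symm F.sys.large.mul_self_z hzQ'
  set B : Subgroup G := Q' ⊓ Subgroup.centralizer ({z} : Set G) with hBdef
  have hBz : ∀ b ∈ B, Commute b z := fun b hb => mem_centralizer_singleton_iff'.1 hb.2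
  have hlift : ∀ y ∈ K, ∀ a ∈ Q, p a = y → Commute a t := by
    intro y hy a ha hpa
    subst hpa
    have h1 := List.all_eq_true.1 hK _ hy
    simp only [Bool.and_eq_true, Bool.not_eq_true', fixB, beq_iff_eq] at h1
    have e := ht a ha h1.1
    rw [h1.2] at e
    exact (mul_inv_eq_iff_eq_mul.1 (e.trans (mul_one a))).symm
  have hcom : ∀ y ∈ K, ∀ a ∈ Q, p a = y → ∀ b ∈ B, Commute b a := by
    intro y hy a ha hpa b hb
    have e : b * a * b⁻¹ * a⁻¹ = 1 := by
      refine hI _ (Q.mul_mem (F.sys.large.conj_mem (hBz b hb) ha) (Q.inv_mem ha)) ?_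
      rw [show b * a * b⁻¹ * a⁻¹ = b * (a * b⁻¹ * a⁻¹) by group]
      exact Q'.mul_mem hb.1 (F'.sys.large.conj_mem (hlift y hy a ha hpa) (Q'.inv_mem hb.1))
    exact mul_inv_eq_iff_eq_mul.1 (mul_inv_eq_one.1 e)
  choose A hA hAb using fun b : B => F.sys.exists_acts (hBz b b.2)
  have hmem : ∀ b : B, A b ∈ cand := by
    intro b
    refine hcand _ (hA b) (fun y hy => ?_) ?_
    · obtain ⟨a, ha, hpa⟩ := F.sys.surj y (hK' y hy)
      have := (hAb b).2 a ha
      rw [(hcom y hy a ha hpa b b.2).eq, mul_inv_cancel_right, hpa] at this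
      exact this.symm
    · refine F.sys.acts_unique (by rw [length_comp, length_rho]) (by rw [length_comp, (hA b).1])
        (F.sys.acts_mul (length_rho v) (hAb b) htA) ?_
      have := F.sys.acts_mul (hA b).1 htA (hAb b)
      rwa [← (F'.sys.large.commute_z b.2.1).eq] at this
  have hinj : Function.Injective A := by
    intro b1 b2 e
    refine Subtype.ext (inv_mul_eq_one.1 (hI _ (F.sys.inv_mul_mem (hAb b1) (e ▸ hAb b2))
      (Q'.mul_mem (Q'.inv_mem b1.2.1) b2.2.1)))
  have hle : Nat.card B ≤ 8 := by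
    haveI := Fintype.ofFinite B
    rw [Nat.card_eq_fintype_card, ← Finset.card_univ]
    exact le_trans (Finset.card_le_card_of_injOn A (fun b _ => List.mem_toFinset.2 (hmem b)) hinj.injOn)
      (le_trans (List.toFinset_card_le _) hlen)
  omega

theorem uEl_ne : ¬ IsConj z (uEl z Q p k) := by
  obtain ⟨hA, hu, hf⟩ := F.uEl_spec
  exact F.not_conj_z (by decide +kernel) (by norm_num) hA hu hf (n := 32) (by norm_num) (by decide +kernel)
    (by decide +kernel) ker_ok.1 (by decide) cand_bound.1 fun A => mem_candU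

theorem wEl_ne : ¬ IsConj z (wEl z Q p k) := by
  obtain ⟨hA, hu, hf⟩ := F.wEl_spec
  exact F.not_conj_z (by decide +kernel) (by norm_num) hA hu hf (n := 16) (by norm_num) (by decide +kernel)
    (by decide +kernel) ker_ok.2 (by decide) cand_bound.2 fun A => mem_candW

end Frame

end CfsgLib.Recog.CoOneType
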