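import Mathlib.Data.List.Basic

/-!
Data for the isometry group of the eight-dimensional form of plus type over two elements: generators as
products of two reflections, words in them (owner: helper12).
-/

set_option autoImplicit false

namespace CfsgLib.Recog.CoOneType

/-- Pairs of reflection vectors whose products generate. -/
def genPairs : List (Nat × Nat) := [(192, 112), (208, 56), (76, 120), (172, 192), (253, 139), (112, 93), (108, 207), (44, 156)]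

/-- A Sylow 2-subgroup of the middle group, by words. -/
def midSylow : List (List Nat × List Nat) := [
  ([1, 2, 4, 8, 16, 32, 64, 128], []),
  ([1, 2, 4, 8, 16, 160, 80, 128], [2, 1, 1, 2, 1, 1, 0, 2, 3, 3, 0]),
  ([1, 2, 4, 8, 128, 64, 32, 16], [2, 1, 1, 2, 0, 3, 1, 1, 2]),
  ([1, 2, 4, 8, 128, 80, 160, 16], [2, 2, 3, 0, 2]),
  ([1, 2, 4, 24, 16, 36, 64, 128], [0, 3, 2, 3, 1, 2, 2, 1, 0]),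
  ([1, 2, 4, 24, 16, 164, 80, 128], [2, 3, 1, 2, 0, 2, 3, 1, 2, 2, 1, 0, 0]),
  ([1, 2, 4, 24, 128, 64, 36, 16], [3, 1, 1, 0, 2, 1, 0, 2, 0, 2, 1]),
  ([1, 2, 4, 24, 128, 80, 164, 16], [0, 3, 2, 1, 2, 2, 3, 1, 2, 2, 3]),
  ([1, 2, 4, 40, 20, 32, 64, 128], [0, 3, 2, 1, 2, 3, 1, 2, 0]),
  ([1, 2, 4, 40, 20, 160, 84, 128], [0, 2, 1, 2, 0, 2, 3, 2]),
  ([1, 2, 4, 40, 128, 64, 32, 20], [3, 2, 2, 0, 0, 2, 2, 1]),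
  ([1, 2, 4, 40, 128, 84, 160, 20], [1, 0, 0, 2, 1, 2, 1, 0, 0]),
  ([1, 2, 4, 60, 20, 36, 64, 128], [3, 3, 1, 1, 2, 1, 2, 3]),
  ([1, 2, 4, 60, 20, 164, 84, 128], [1, 2, 1, 2, 2, 0, 2, 3, 3]),
  ([1, 2, 4, 60, 128, 64, 36, 20], [1, 2, 1, 2, 2, 0, 3, 2, 0]),
  ([1, 2, 4, 60, 128, 84, 164, 20], [1, 1, 2, 3, 0, 2, 1, 2]),
  ([1, 2, 4, 72, 16, 32, 64, 132], [1, 2, 1, 2, 2, 3, 0, 2, 1, 2]),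
  ([1, 2, 4, 72, 16, 164, 80, 132], [1, 1, 2, 0, 3, 2, 0]),
  ([1, 2, 4, 72, 132, 64, 32, 16], [1, 1, 2, 0, 2, 3, 3]),
  ([1, 2, 4, 72, 132, 80, 164, 16], [3, 3, 2, 3, 2, 1, 2, 2, 1]),
  ([1, 2, 4, 88, 16, 36, 64, 132], [3, 2, 1, 2, 3, 1, 2, 0, 0]),
  ([1, 2, 4, 88, 16, 160, 80, 132], [3, 2, 0, 0, 2, 1, 0]),
  ([1, 2, 4, 88, 132, 64, 36, 16], [0, 3, 2, 1, 2, 3, 0, 2, 3, 2]),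
  ([1, 2, 4, 88, 132, 80, 160, 16], [1, 0, 2, 1, 2, 1, 0]),
  ([1, 2, 4, 104, 20, 32, 64, 132], [3, 2, 3, 1, 2, 2, 1, 0, 0]),
  ([1, 2, 4, 104, 20, 164, 84, 132], [3, 2, 1, 1, 0, 2, 1, 0, 2, 1, 0, 0]),
  ([1, 2, 4, 104, 132, 64, 32, 20], [3, 2, 1, 0, 2, 3, 1, 2, 3, 1, 2, 0]),
  ([1, 2, 4, 104, 132, 84, 164, 20], [3, 2, 1, 2, 2, 1, 0, 2, 2, 3]),
  ([1, 2, 4, 124, 20, 36, 64, 132], [1, 0, 2, 2, 0, 0, 2, 1, 1, 0]),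
  ([1, 2, 4, 124, 20, 160, 84, 132], [3, 3, 2, 2, 1, 1, 0, 2, 0, 2]),
  ([1, 2, 4, 124, 132, 64, 36, 20], [0, 2, 2, 0, 3, 1, 1, 2, 2]),
  ([1, 2, 4, 124, 132, 84, 160, 20], [3, 3, 2, 1, 2, 3, 2, 1, 1]),
  ([1, 2, 4, 136, 16, 32, 68, 128], [1, 2, 2, 3, 1, 2, 1, 0, 2, 3, 1]),
  ([1, 2, 4, 136, 16, 160, 84, 128], [3, 1, 0, 0, 2, 1, 0, 2, 2, 0]),
  ([1, 2, 4, 136, 128, 68, 32, 16], [1, 1, 2, 1, 1, 0, 2, 3, 2, 3, 1]),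
  ([1, 2, 4, 136, 128, 84, 160, 16], [2, 3, 2, 1, 2, 0, 2, 1, 0]),
  ([1, 2, 4, 152, 16, 36, 68, 128], [2, 1, 2, 3, 1, 0, 2]),
  ([1, 2, 4, 152, 16, 164, 84, 128], [2, 1, 2, 0, 3, 2, 1, 1, 2, 1]),
  ([1, 2, 4, 152, 128, 68, 36, 16], [1, 0, 2, 0, 3, 1, 1, 2, 2, 1, 0, 0]),
  ([1, 2, 4, 152, 128, 84, 164, 16], [1, 2, 1, 2, 1]),
  ([1, 2, 4, 168, 20, 32, 68, 128], [2, 3, 1, 0, 2, 2, 1]),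
  ([1, 2, 4, 168, 20, 160, 80, 128], [3, 3, 2, 1, 1, 0, 2, 0, 2, 0, 0]),
  ([1, 2, 4, 168, 128, 68, 32, 20], [2, 0, 2, 3, 3, 2, 1, 1, 2, 2, 0]),
  ([1, 2, 4, 168, 128, 80, 160, 20], [1, 1, 2, 3, 3, 1, 1, 2, 3, 2]),
  ([1, 2, 4, 188, 20, 36, 68, 128], [1, 2, 2, 0, 2, 1, 1, 0]),
  ([1, 2, 4, 188, 20, 164, 80, 128], [3, 2, 1, 1, 2, 1, 0, 0, 2, 1]),
  ([1, 2, 4, 188, 128, 68, 36, 20], [2, 1, 2, 1, 0, 2, 3, 2, 1]),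
  ([1, 2, 4, 188, 128, 80, 164, 20], [3, 1, 2, 1, 1, 2, 0, 2, 3]),
  ([1, 2, 4, 204, 16, 32, 68, 132], [1, 0, 2, 2, 0, 2, 1, 1]),
  ([1, 2, 4, 204, 16, 164, 84, 132], [2, 1, 2, 0, 3, 1, 2, 3, 0, 2, 1]),
  ([1, 2, 4, 204, 132, 68, 32, 16], [2, 2, 1, 0, 2, 3, 1, 2, 2]),
  ([1, 2, 4, 204, 132, 84, 164, 16], [0, 3, 1, 2, 1, 1, 2, 3, 2, 3]),
  ([1, 2, 4, 220, 16, 36, 68, 132], [3, 3, 2, 3, 1, 1, 2, 2, 1, 2]),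
  ([1, 2, 4, 220, 16, 160, 84, 132], [1, 1, 2, 1, 0, 2, 3, 3, 1, 2, 1, 1]),
  ([1, 2, 4, 220, 132, 68, 36, 16], [3, 3, 1, 1, 2, 1, 0, 2, 1, 0, 2]),
  ([1, 2, 4, 220, 132, 84, 160, 16], [2, 1, 1, 2, 2, 3, 1, 0, 2, 2]),
  ([1, 2, 4, 236, 20, 32, 68, 132], [3, 3, 2, 1, 1, 2, 3, 1]),
  ([1, 2, 4, 236, 20, 164, 80, 132], [2, 1, 0, 2, 0, 3]),
  ([1, 2, 4, 236, 132, 68, 32, 20], [2, 0, 3, 1, 2, 0, 0]),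
  ([1, 2, 4, 236, 132, 80, 164, 20], [2, 0, 2, 2, 1, 1, 0, 0, 2, 1, 0]),
  ([1, 2, 4, 248, 20, 36, 68, 132], [0, 3, 1, 2, 1, 2, 2, 3, 2, 1, 2, 0]),
  ([1, 2, 4, 248, 20, 160, 80, 132], [1, 2, 0, 2, 3, 1, 2, 2, 0]),
  ([1, 2, 4, 248, 132, 68, 36, 20], [1, 0, 2, 1, 0, 2, 2, 3, 3]),
  ([1, 2, 4, 248, 132, 80, 160, 20], [0, 3, 2, 1, 2, 2, 3, 2, 3, 1])]

/-- Generators of the middle Sylow subgroup. -/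
def midGen : List (List Nat) := [[1, 2, 4, 8, 16, 160, 80, 128], [1, 2, 4, 8, 128, 64, 32, 16], [1, 2, 4, 40, 20, 32, 64, 128]]

/-- The members of `midSylow` as words in `midGen`. -/
def midWord : List (List Nat) := [[], [0], [1], [1, 0], [1, 2, 0, 2, 1, 0], [1, 2, 0, 2, 1], [1, 2, 0, 2, 0], [1, 2, 0, 2], [2], [2, 0], [2, 1], [2, 1, 0], [2, 1, 2, 0, 2, 1, 0], [2, 1, 2, 0, 2, 1], [2, 1, 2, 0, 2, 0], [2, 1, 2, 0, 2], [1, 2, 1], [1, 2, 1, 0], [1, 2], [1, 2, 0], [1, 0, 2, 1, 0], [1, 0, 2, 1], [1, 0, 2, 0], [1, 0, 2], [2, 1, 2, 1], [2, 1, 2, 1, 0], [2, 1, 2], [2, 1, 2, 0], [2, 1, 0, 2, 1, 0], [2, 1, 0, 2, 1], [2, 1, 0, 2, 0], [2, 1, 0, 2], [2, 0, 2, 0], [2, 0, 2], [2, 0, 2, 1, 0], [2, 0, 2, 1], [2, 1, 2, 0, 2, 1, 2, 0], [2, 1, 2, 0, 2, 1, 2], [2,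 0, 2, 1, 2, 0, 2], [2, 0, 2, 1, 2, 0, 2, 0], [0, 2, 0], [0, 2], [0, 2, 1, 0], [0, 2, 1], [1, 2, 0, 2, 1, 2, 0], [1, 2, 0, 2, 1, 2], [0, 2, 1, 2, 0, 2], [0, 2, 1, 2, 0, 2, 0], [2, 1, 2, 1, 0, 2, 0], [2, 1, 2, 1, 0, 2], [2, 0, 2, 1, 0, 2], [2, 0, 2, 1, 0, 2, 0], [2, 0, 2, 1, 2, 1, 0], [2, 0, 2, 1, 2, 1], [2, 0, 2, 1, 2, 0], [2, 0, 2, 1, 2], [1, 2, 1, 0, 2, 0], [1, 2, 1, 0, 2], [0, 2, 1, 0, 2], [0, 2, 1, 0, 2, 0], [0, 2, 1, 2, 1, 0], [0, 2, 1, 2, 1], [0, 2, 1, 2, 0], [0, 2, 1, 2]]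

/-- The involutions of the Sylow subgroup: Siegel part, middle part, class and conjugating word. -/
def invol0 : List (Nat × Nat × Nat × List Nat) := [
  (4, 0, 0, []),
  (8, 0, 0, [1, 2, 2]),
  (12, 0, 1, []),
  (16, 0, 0, [1, 7]),
  (20, 0, 0, [2, 5]),
  (24, 0, 0, [1, 2, 5]),
  (28, 0, 1, [1, 1, 2, 3, 7]),
  (32, 0, 0, [2, 2, 5]),
  (36, 0, 0, [3, 2]),
  (40, 0, 0, [7]),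
  (44, 0, 1, [1, 1, 2, 0]),
  (48, 0, 1, [1, 1, 2, 3]),
  (52, 0, 1, [1]),
  (56, 0, 1, [2, 2]),
  (60, 0, 0, [1]),
  (64, 0, 0, [1, 1, 3, 0]),
  (68, 0, 0, [1, 2]),
  (72, 0, 0, [2]),
  (76, 0, 1, [2, 1]),
  (80, 0, 0, [1, 3]),
  (84, 0, 0, [3, 2, 0]),
  (88, 0, 0, [5]),
  (92, 0, 1, [1, 1, 2, 0, 0]),
  (96, 0, 0, [1, 5]),
  (100, 0, 0, [7, 2]),
  (104, 0, 0, [3]),
  (108, 0, 1, [1, 1, 2, 3, 5]),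
  (112, 0, 1, [1, 1, 7, 2, 0]),
  (116, 0, 1, [2]),
  (120, 0, 1, [1, 2]),
  (124, 0, 0, [2, 2]),
  (128, 0, 0, [1, 1, 3]),
  (132, 0, 0, [1, 2, 3]),
  (136, 0, 0, [2, 3]),
  (140, 0, 1, [2, 0, 0, 1]),
  (144, 0, 0, [1, 3, 0]),
  (148, 0, 0, [1, 2, 1]),
  (152, 0, 0, [5, 0]),
  (156, 0, 1, [1, 1, 2]),
  (160, 0, 0, [2, 1]),
  (164, 0, 0, [2, 3, 5]),
  (168, 0, 0, [3, 0]),
  (172, 0, 1, [1, 2, 3, 2]),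
  (176, 0, 1, [1, 1, 7, 2]),
  (180, 0, 1, [2, 0, 0]),
  (184, 0, 1, [1, 1, 5]),
  (188, 0, 0, [2, 2, 3]),
  (192, 0, 1, [1, 1, 2, 5]),
  (196, 0, 1, [2, 0]),
  (200, 0, 1, [1, 1, 7]),
  (204, 0, 0, [1, 5, 3]),
  (208, 0, 1, [2, 1, 7]),
  (212, 0, 1, [1, 2, 3]),
  (216, 0, 1, [2, 3]),
  (220, 0, 0, [2, 3, 2, 5]),
  (224, 0, 1, [2, 1, 3]),
  (228, 0, 1, [1, 1]),
  (232, 0, 1, [2, 7]),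
  (236, 0, 0, [1, 1]),
  (240, 0, 0, [2, 3, 2]),
  (244, 0, 0, [5, 3]),
  (248, 0, 0, [2, 0]),
  (252, 0, 1, [2, 0, 1]),
  (0, 1, 0, [1, 1, 6, 4, 6]),
  (4, 1, 2, []),
  (8, 1, 3, []),
  (12, 1, 4, []),
  (16, 1, 0, [4, 2, 6, 6, 3]),
  (20, 1, 2, [0, 7, 5]),
  (24, 1, 3, [0, 7, 5]),
  (28, 1, 4, [0, 7, 5]),
  (128, 1, 0, [4, 3, 0, 4, 2]),
  (132, 1, 2, [5, 0, 7]),
  (136, 1, 3, [5, 0, 7]),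
  (140, 1, 4, [5, 0, 7]),
  (144, 1, 0, [6, 1, 3, 4]),
  (148, 1, 2, [3, 7, 0, 5]),
  (152, 1, 3, [3, 7, 0, 5]),
  (156, 1, 4, [3, 5, 7, 5]),
  (0, 2, 0, [6, 0, 1, 4]),
  (4, 2, 3, [0, 2, 1, 1]),
  (8, 2, 2, [1, 2, 2, 0]),
  (12, 2, 4, [0, 0, 3]),
  (96, 2, 0, [6, 7, 6, 4]),
  (100, 2, 3, [0, 0, 3]),
  (104, 2, 2, [0, 0, 3]),
  (108, 2, 4, [5, 5, 7]),
  (144, 2, 0, [1, 5, 6, 4, 6]),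
  (148, 2, 3, [0, 5, 0]),
  (152, 2, 2, [0, 5, 0]),
  (156, 2, 4, [0, 2, 1, 1]),
  (240, 2, 0, [5, 6, 1, 6, 2]),
  (244, 2, 3, [5, 5, 7]),
  (248, 2, 2, [5, 5, 7]),
  (252, 2, 4, [5, 3, 3]),
  (0, 3, 1, [6, 1, 6, 4, 1]),
  (4, 3, 4, [5, 6, 4, 0, 6]),
  (8, 3, 4, [0, 2, 4, 1, 3, 4, 6]),
  (12, 3, 4, [1, 1, 6, 7, 5, 4, 1]),
  (112, 3, 1, [1, 4, 2, 6, 3, 3])]

def invol1 : List (Nat × Nat × Nat × List Nat) := [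
  (116, 3, 4, [5, 6, 7, 7, 6, 2]),
  (120, 3, 4, [4, 1, 7, 2, 4, 4]),
  (124, 3, 4, [3, 6, 5, 1, 6, 4]),
  (144, 3, 1, [1, 6, 4, 6, 4]),
  (148, 3, 4, [3, 0, 2, 6, 4, 6]),
  (152, 3, 4, [0, 0, 6, 4, 5, 5, 6]),
  (156, 3, 4, [4, 2, 2, 0, 6, 2]),
  (224, 3, 1, [1, 4, 0, 2, 6, 2]),
  (228, 3, 4, [0, 7, 6, 0, 0, 6, 2]),
  (232, 3, 4, [1, 4, 6, 3, 7, 1]),
  (236, 3, 4, [1, 4, 6, 3, 5, 1]),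
  (0, 4, 0, [1, 4, 1, 4]),
  (4, 4, 0, [3, 6, 2, 6, 2]),
  (16, 4, 0, [2, 6, 2, 6, 2]),
  (20, 4, 0, [7, 4, 1, 4]),
  (64, 4, 3, [0, 5, 3, 2, 0]),
  (68, 4, 3, [5, 0, 4, 6]),
  (80, 4, 3, [2, 0, 3]),
  (84, 4, 3, [0, 2, 2, 1, 3]),
  (128, 4, 2, [7, 2, 2, 1]),
  (132, 4, 2, [0, 1, 2, 3]),
  (144, 4, 2, [1, 2, 3, 7, 1]),
  (148, 4, 2, [2, 0, 3]),
  (192, 4, 4, [5, 3, 2, 0, 2]),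
  (196, 4, 4, [2, 0, 3]),
  (208, 4, 4, [7, 2, 2, 1]),
  (212, 4, 4, [0, 1, 2, 3]),
  (0, 5, 0, [3, 4, 2, 4]),
  (4, 5, 2, [2, 5, 3]),
  (16, 5, 0, [3, 4, 6, 3]),
  (20, 5, 2, [2, 3, 7, 7]),
  (72, 5, 3, [0, 0, 4, 5, 6]),
  (76, 5, 4, [3, 0, 2, 1]),
  (88, 5, 3, [0, 2, 3, 2, 0]),
  (92, 5, 4, [5, 1, 2, 0]),
  (128, 5, 2, [0, 1, 1, 3, 7]),
  (132, 5, 0, [3, 4, 6, 1]),
  (144, 5, 2, [2, 5, 1]),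
  (148, 5, 0, [3, 0, 4, 3, 6]),
  (200, 5, 4, [2, 5, 1]),
  (204, 5, 3, [2, 3, 7, 7]),
  (216, 5, 4, [2, 3, 7, 7]),
  (220, 5, 3, [2, 5, 1]),
  (0, 8, 0, [4, 4, 2, 6, 1]),
  (4, 8, 0, [4, 3, 6, 5, 3]),
  (32, 8, 0, [1, 4, 7, 6, 2]),
  (36, 8, 0, [2, 6, 2, 2, 6]),
  (64, 8, 2, [5, 1, 1]),
  (68, 8, 2, [1, 3, 7, 1]),
  (96, 8, 2, [0, 2, 1, 3]),
  (100, 8, 2, [0, 0, 2, 7, 7]),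
  (128, 8, 3, [0, 2, 1, 3]),
  (132, 8, 3, [2, 0, 2, 3]),
  (160, 8, 3, [1, 3, 7, 1]),
  (164, 8, 3, [5, 1, 1]),
  (192, 8, 4, [2, 1, 5, 5, 3]),
  (196, 8, 4, [5, 1, 1]),
  (224, 8, 4, [0, 2, 1, 3]),
  (228, 8, 4, [1, 1, 3, 0]),
  (0, 12, 1, [6, 5, 6, 1, 3]),
  (4, 12, 1, [4, 3, 7, 5, 1, 6]),
  (48, 12, 1, [6, 7, 5, 6, 1]),
  (52, 12, 1, [4, 5, 7, 4, 1]),
  (64, 12, 4, [0, 6, 2, 6, 5, 5]),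
  (68, 12, 4, [5, 4, 3, 4, 7, 2]),
  (112, 12, 4, [0, 6, 2, 6, 0, 7]),
  (116, 12, 4, [3, 4, 7, 1, 6, 6]),
  (128, 12, 4, [0, 6, 5, 6, 1, 3]),
  (132, 12, 4, [1, 4, 6, 6, 1, 4, 4]),
  (176, 12, 4, [0, 5, 6, 7, 5, 6, 1]),
  (180, 12, 4, [5, 0, 6, 1, 4, 2]),
  (192, 12, 4, [0, 6, 2, 6, 0, 5, 7]),
  (196, 12, 4, [3, 6, 7, 5, 6, 1]),
  (240, 12, 4, [0, 6, 2, 6, 0, 0, 5]),
  (244, 12, 4, [0, 5, 6, 5, 6, 1, 3]),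
  (0, 16, 0, [5, 6, 5, 6]),
  (4, 16, 0, [1, 6, 5, 3, 4]),
  (16, 16, 3, [0, 0, 7, 2]),
  (20, 16, 3, [1, 5]),
  (32, 16, 2, [1, 5]),
  (36, 16, 2, [3, 2]),
  (48, 16, 4, [1, 1, 2, 3]),
  (52, 16, 4, [7, 1, 7]),
  (64, 16, 0, [1, 2, 1, 4, 6]),
  (68, 16, 0, [1, 1, 6, 5, 4, 7]),
  (80, 16, 3, [3, 2]),
  (84, 16, 3, [0, 0, 1, 5, 7]),
  (96, 16, 2, [1, 1, 2, 3]),
  (100, 16, 2, [7, 1, 7]),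
  (112, 16, 4, [0, 7, 1, 5, 3]),
  (116, 16, 4, [1, 5]),
  (0, 20, 0, [1, 4, 6, 2, 5]),
  (4, 20, 0, [3, 6, 1, 6]),
  (16, 20, 3, [1, 1, 7, 2]),
  (20, 20, 3, [1, 5, 1, 3]),
  (64, 20, 3, [3, 2, 1, 3]),
  (68, 20, 3, [2, 0, 0, 2]),
  (80, 20, 0, [1, 1, 6, 1, 6]),
  (84, 20, 0, [4, 2, 6, 4, 3]),
  (160, 20, 2, [1, 1, 7, 2])]

def invol2 : List (Nat × Nat × Nat × List Nat) := [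
  (164, 20, 2, [7, 4, 6, 7]),
  (176, 20, 4, [1, 1, 7, 2]),
  (180, 20, 4, [2, 0, 0, 2]),
  (224, 20, 4, [1, 5, 1, 3]),
  (228, 20, 4, [2, 7, 2, 5]),
  (240, 20, 2, [1, 5, 1, 3]),
  (244, 20, 2, [5, 1, 5, 1]),
  (0, 24, 0, [1, 4, 1, 4, 0]),
  (4, 24, 0, [5, 4, 0, 4, 5]),
  (32, 24, 2, [2, 5, 1, 7, 3]),
  (36, 24, 2, [2, 3, 3]),
  (64, 24, 2, [2, 5, 1, 1, 2]),
  (68, 24, 2, [1, 3, 2, 3]),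
  (96, 24, 0, [3, 4, 7, 6, 6]),
  (100, 24, 0, [4, 5, 1, 4, 4]),
  (144, 24, 3, [2, 3, 3]),
  (148, 24, 3, [0, 0, 2, 2, 1]),
  (176, 24, 4, [2, 5, 1, 1, 2]),
  (180, 24, 4, [2, 3, 3]),
  (208, 24, 4, [0, 0, 2, 2, 1]),
  (212, 24, 4, [1, 3, 2, 3]),
  (240, 24, 3, [0, 6, 7, 7, 4]),
  (244, 24, 3, [0, 6, 4, 6, 4]),
  (0, 26, 0, [4, 6, 2, 4]),
  (4, 26, 3, [7, 2, 3, 2]),
  (40, 26, 2, [3, 2, 1, 5]),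
  (44, 26, 4, [5, 1, 2, 2]),
  (72, 26, 2, [0, 3, 2, 3]),
  (76, 26, 4, [2, 3, 2, 5]),
  (96, 26, 0, [2, 4, 6, 7]),
  (100, 26, 3, [3, 2, 1, 5]),
  (144, 26, 3, [0, 3, 2, 3]),
  (148, 26, 0, [1, 5, 4, 6, 7]),
  (184, 26, 4, [5, 0, 2, 1]),
  (188, 26, 2, [5, 0, 2, 1]),
  (216, 26, 4, [0, 3, 2, 3]),
  (220, 26, 2, [5, 1, 2, 2]),
  (240, 26, 3, [1, 4, 6, 7]),
  (244, 26, 0, [2, 1, 4, 6, 1]),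
  (0, 28, 1, [2, 4, 6, 6, 5]),
  (4, 28, 1, [4, 3, 4, 7, 2]),
  (48, 28, 4, [6, 7, 5, 3, 6, 1]),
  (52, 28, 4, [6, 1, 3, 6, 4, 2]),
  (64, 28, 4, [2, 5, 4, 6, 6, 5]),
  (68, 28, 4, [0, 6, 6, 2, 5, 6]),
  (112, 28, 1, [6, 1, 4, 2, 0]),
  (116, 28, 1, [4, 3, 4, 2, 5]),
  (144, 28, 4, [4, 3, 6, 1, 4, 3]),
  (148, 28, 4, [4, 7, 3, 4, 4, 2]),
  (160, 28, 4, [0, 0, 6, 4, 3, 4, 5]),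
  (164, 28, 4, [3, 4, 3, 4, 7, 2]),
  (208, 28, 4, [1, 4, 0, 7, 6, 0, 7]),
  (212, 28, 4, [3, 4, 3, 4, 2, 5]),
  (224, 28, 4, [1, 4, 6, 0, 3, 7]),
  (228, 28, 4, [1, 4, 6, 5, 7, 5, 3]),
  (0, 31, 1, [6, 4, 5, 7, 4]),
  (4, 31, 4, [6, 4, 2, 5, 7, 4]),
  (40, 31, 4, [6, 4, 5, 7, 4]),
  (44, 31, 4, [1, 4, 6, 1, 3, 0]),
  (88, 31, 4, [1, 4, 6, 5, 0, 2, 7]),
  (92, 31, 4, [0, 5, 1, 4, 6, 1]),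
  (112, 31, 4, [0, 5, 1, 4, 6, 1, 5]),
  (116, 31, 1, [4, 5, 5, 4, 2]),
  (144, 31, 4, [7, 6, 4, 5, 7, 4]),
  (148, 31, 1, [4, 0, 4, 7, 7, 2]),
  (184, 31, 4, [0, 7, 2, 6, 5, 4, 4]),
  (188, 31, 4, [2, 6, 7, 4, 6, 7, 3]),
  (200, 31, 4, [0, 2, 6, 5, 4, 4]),
  (204, 31, 4, [1, 1, 6, 5, 4, 7, 1]),
  (224, 31, 1, [2, 6, 5, 4, 4]),
  (228, 31, 4, [1, 6, 1, 3, 3, 6]),
  (0, 32, 0, [2, 4, 2, 4]),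
  (4, 32, 0, [4, 3, 6, 2]),
  (16, 32, 2, [0, 0, 1, 7]),
  (20, 32, 2, [1, 5, 7, 5]),
  (32, 32, 3, [1, 5, 7, 5]),
  (36, 32, 3, [0, 0, 1, 7]),
  (48, 32, 4, [1, 5, 7, 5]),
  (52, 32, 4, [1, 3, 3]),
  (128, 32, 0, [1, 6, 1, 1, 6]),
  (132, 32, 0, [4, 2, 6, 6, 1]),
  (144, 32, 2, [1, 3, 3]),
  (148, 32, 2, [0, 3, 5, 1]),
  (160, 32, 3, [0, 3, 5, 1]),
  (164, 32, 3, [1, 3, 3]),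
  (176, 32, 4, [1, 7, 0, 5]),
  (180, 32, 4, [0, 1, 5, 5]),
  (0, 33, 0, [3, 4, 1, 4]),
  (4, 33, 2, [2, 1, 1, 7]),
  (16, 33, 2, [2, 7, 1]),
  (20, 33, 0, [1, 4, 6, 1]),
  (40, 33, 3, [2, 7, 1]),
  (44, 33, 4, [1, 2, 7, 5]),
  (56, 33, 4, [2, 7, 1]),
  (60, 33, 3, [1, 2, 0, 0]),
  (128, 33, 0, [2, 5, 4, 6, 1]),
  (132, 33, 2, [1, 2, 0, 0]),
  (144, 33, 2, [1, 7, 1, 5]),
  (148, 33, 0, [3, 4, 5, 6, 2]),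
  (168, 33, 3, [1, 2, 7, 5])]

def invol3 : List (Nat × Nat × Nat × List Nat) := [
  (172, 33, 4, [2, 2, 3, 5]),
  (184, 33, 4, [1, 2, 0, 0]),
  (188, 33, 3, [0, 2, 4, 0, 4]),
  (0, 36, 0, [3, 4, 3, 4, 3]),
  (4, 36, 0, [4, 6, 6, 5]),
  (16, 36, 2, [2, 4, 2, 4]),
  (20, 36, 2, [0, 5, 7, 2]),
  (96, 36, 3, [0, 5, 7, 2]),
  (100, 36, 3, [1, 1, 3]),
  (112, 36, 4, [5, 3, 2, 5]),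
  (116, 36, 4, [0, 5, 7, 2]),
  (128, 36, 2, [1, 1, 3]),
  (132, 36, 2, [3, 7, 3, 2]),
  (144, 36, 0, [2, 0, 6, 4, 6]),
  (148, 36, 0, [4, 1, 2, 4, 4]),
  (224, 36, 4, [0, 0, 2, 5]),
  (228, 36, 4, [1, 1, 3]),
  (240, 36, 3, [3, 7, 3, 2]),
  (244, 36, 3, [0, 0, 2, 5]),
  (0, 37, 0, [1, 3, 6, 4, 6]),
  (4, 37, 2, [1, 7, 3, 2]),
  (16, 37, 2, [2, 0, 1]),
  (20, 37, 0, [1, 4, 6, 3]),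
  (104, 37, 3, [0, 2, 7, 2]),
  (108, 37, 4, [5, 5, 1, 2]),
  (120, 37, 4, [0, 1, 2, 1]),
  (124, 37, 3, [2, 7, 3]),
  (128, 37, 2, [0, 2, 7, 2]),
  (132, 37, 0, [1, 6, 2, 0, 2, 4]),
  (144, 37, 0, [2, 5, 4, 3, 6]),
  (148, 37, 2, [2, 7, 3]),
  (232, 37, 4, [2, 7, 3]),
  (236, 37, 3, [2, 0, 1]),
  (248, 37, 3, [0, 7, 1, 2]),
  (252, 37, 4, [2, 0, 1]),
  (0, 38, 0, [2, 6, 4, 5, 6]),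
  (4, 38, 3, [2, 0, 5]),
  (24, 38, 2, [2, 5, 7]),
  (28, 38, 4, [0, 1, 2, 5]),
  (96, 38, 3, [2, 7, 0]),
  (100, 38, 0, [1, 4, 6, 0]),
  (120, 38, 4, [2, 5, 7]),
  (124, 38, 2, [0, 1, 2, 5]),
  (136, 38, 2, [2, 7, 0]),
  (140, 38, 4, [2, 0, 5]),
  (144, 38, 0, [3, 4, 6, 7]),
  (148, 38, 3, [2, 1, 2, 2]),
  (232, 38, 4, [2, 7, 0]),
  (236, 38, 2, [2, 0, 5]),
  (240, 38, 3, [2, 5, 7]),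
  (244, 38, 0, [4, 3, 6, 7, 1]),
  (0, 39, 1, [2, 6, 4, 6]),
  (4, 39, 4, [0, 6, 5, 6, 1, 1]),
  (24, 39, 4, [3, 6, 1, 4, 3, 5]),
  (28, 39, 4, [3, 3, 4, 3, 0, 4, 2]),
  (104, 39, 4, [3, 6, 4, 0, 6]),
  (108, 39, 4, [4, 3, 5, 7, 4, 2]),
  (112, 39, 4, [0, 6, 7, 7, 5, 6, 2]),
  (116, 39, 1, [4, 3, 0, 4, 2]),
  (136, 39, 4, [6, 0, 5, 4, 0, 6]),
  (140, 39, 4, [4, 7, 1, 6, 0, 1]),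
  (144, 39, 1, [1, 6, 5, 1, 6]),
  (148, 39, 4, [1, 6, 4, 6, 4]),
  (224, 39, 4, [0, 0, 4, 3, 0, 4, 2]),
  (228, 39, 1, [6, 0, 0, 6, 2]),
  (248, 39, 4, [3, 4, 0, 6, 4, 3]),
  (252, 39, 4, [4, 7, 1, 6, 1, 3]),
  (0, 40, 0, [4, 2, 4, 7, 3]),
  (4, 40, 0, [7, 4, 5, 5, 4]),
  (32, 40, 3, [2, 3, 3, 0]),
  (36, 40, 3, [3, 6, 7, 4]),
  (80, 40, 2, [0, 3, 2, 1, 7]),
  (84, 40, 2, [1, 2, 1, 3]),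
  (112, 40, 4, [0, 1, 2, 1, 5, 3]),
  (116, 40, 4, [0, 5, 3, 2]),
  (128, 40, 3, [0, 5, 3, 2]),
  (132, 40, 3, [0, 4, 2, 5, 6]),
  (160, 40, 0, [4, 3, 2, 4, 7]),
  (164, 40, 0, [4, 0, 7, 5, 4]),
  (208, 40, 4, [0, 3, 2, 1, 7]),
  (212, 40, 4, [1, 2, 1, 3]),
  (240, 40, 2, [0, 5, 1, 2, 3]),
  (244, 40, 2, [0, 5, 3, 2]),
  (0, 44, 1, [6, 1, 6, 4, 3]),
  (4, 44, 1, [4, 2, 3, 4, 7, 3]),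
  (48, 44, 4, [6, 0, 5, 1, 4, 2]),
  (52, 44, 4, [0, 4, 2, 1, 5, 6, 4]),
  (80, 44, 4, [1, 4, 6, 3, 5, 3]),
  (84, 44, 4, [1, 7, 4, 6, 6, 5]),
  (96, 44, 4, [2, 6, 3, 2, 5, 6]),
  (100, 44, 4, [1, 1, 6, 5, 4, 0, 3]),
  (128, 44, 4, [4, 6, 1, 3, 4, 3]),
  (132, 44, 4, [0, 6, 2, 3, 5, 6]),
  (176, 44, 1, [6, 1, 4, 2]),
  (180, 44, 1, [2, 3, 4, 7, 6, 6]),
  (208, 44, 4, [1, 4, 3, 0, 6, 7]),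
  (212, 44, 4, [3, 6, 1, 4, 2]),
  (224, 44, 4, [0, 1, 4, 6, 7, 7, 6]),
  (228, 44, 4, [2, 3, 4, 7, 6, 6]),
  (0, 48, 1, [2, 2, 6, 5, 3, 4])]

def invol4 : List (Nat × Nat × Nat × List Nat) := [
  (4, 48, 1, [6, 4, 4, 6, 5]),
  (16, 48, 4, [1, 3, 4, 5, 3, 5, 6]),
  (20, 48, 4, [1, 2, 6, 3, 5, 5, 4]),
  (32, 48, 4, [1, 3, 4, 6, 6, 5]),
  (36, 48, 4, [6, 4, 4, 6, 5]),
  (48, 48, 4, [1, 2, 6, 2, 7, 4, 1]),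
  (52, 48, 4, [1, 4, 6, 7, 3, 2, 7]),
  (192, 48, 1, [2, 4, 6, 6, 7, 7]),
  (196, 48, 1, [2, 4, 7, 4, 6, 6]),
  (208, 48, 4, [1, 4, 6, 7, 3, 7]),
  (212, 48, 4, [6, 2, 5, 4, 1, 7]),
  (224, 48, 4, [1, 4, 6, 0, 3, 7, 0]),
  (228, 48, 4, [1, 4, 6, 0, 3, 5, 7]),
  (240, 48, 4, [2, 5, 4, 3, 6, 5, 3]),
  (244, 48, 4, [0, 6, 6, 2, 5, 6, 0]),
  (0, 52, 1, [1, 2, 6, 5, 3, 4]),
  (4, 52, 1, [1, 4, 5, 3, 5, 6]),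
  (16, 52, 4, [1, 6, 7, 4, 6, 2, 2]),
  (20, 52, 4, [1, 2, 6, 5, 3, 4]),
  (96, 52, 4, [0, 6, 5, 6, 1, 2, 3]),
  (100, 52, 4, [2, 7, 4, 6, 6, 5]),
  (112, 52, 4, [0, 3, 6, 2, 6, 0, 7]),
  (116, 52, 4, [1, 4, 6, 1, 1, 2, 0]),
  (160, 52, 4, [0, 3, 6, 2, 6, 5, 5]),
  (164, 52, 4, [6, 5, 6, 2, 6, 4]),
  (176, 52, 4, [4, 6, 7, 2, 7, 6]),
  (180, 52, 4, [1, 4, 6, 1, 1, 2]),
  (192, 52, 4, [2, 2, 4, 5, 6, 0, 7]),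
  (196, 52, 4, [4, 1, 2, 5, 6, 4]),
  (208, 52, 1, [4, 6, 7, 7, 6]),
  (212, 52, 1, [1, 4, 3, 0, 6, 7]),
  (0, 56, 1, [1, 4, 6, 6, 5]),
  (4, 56, 1, [4, 0, 4, 1, 1]),
  (32, 56, 4, [6, 1, 3, 4, 1, 5]),
  (36, 56, 4, [1, 6, 5, 6, 1, 3]),
  (80, 56, 4, [1, 1, 7, 6, 5, 3, 4]),
  (84, 56, 4, [3, 4, 0, 4, 1, 1]),
  (112, 56, 4, [5, 4, 3, 4, 2, 5]),
  (116, 56, 4, [0, 2, 6, 7, 5, 6, 1]),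
  (144, 56, 4, [1, 5, 4, 6, 6, 5]),
  (148, 56, 4, [5, 6, 3, 2, 5, 6]),
  (176, 56, 4, [5, 6, 1, 4, 2]),
  (180, 56, 4, [1, 4, 6, 1, 2, 1]),
  (192, 56, 4, [4, 4, 1, 2, 6, 4]),
  (196, 56, 4, [1, 2, 4, 7, 6, 0, 3]),
  (224, 56, 1, [2, 4, 6, 1, 2, 1]),
  (228, 56, 1, [1, 2, 4, 7, 6, 6]),
  (0, 59, 1, [1, 4, 4, 7, 6, 7]),
  (4, 59, 4, [6, 5, 1, 2, 7, 4]),
  (56, 59, 4, [4, 1, 7, 1, 6]),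
  (60, 59, 4, [5, 4, 0, 4, 2, 1]),
  (72, 59, 4, [4, 7, 1, 6, 5, 1]),
  (76, 59, 4, [0, 0, 2, 4, 6, 1]),
  (112, 59, 1, [1, 4, 6, 1, 5]),
  (116, 59, 4, [3, 3, 4, 1, 1, 6]),
  (144, 59, 4, [0, 5, 6, 4, 7, 1, 4]),
  (148, 59, 1, [6, 4, 7, 1, 4]),
  (168, 59, 4, [1, 1, 4, 7, 6, 4, 4]),
  (172, 59, 4, [6, 2, 5, 4, 2]),
  (216, 59, 4, [0, 2, 5, 4, 6, 1, 5]),
  (220, 59, 4, [6, 4, 7, 1, 4]),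
  (224, 59, 4, [4, 1, 1, 6, 6, 3]),
  (228, 59, 1, [4, 1, 1, 6]),
  (0, 60, 0, [5, 6, 5, 6, 0]),
  (4, 60, 0, [4, 0, 2, 4]),
  (48, 60, 4, [1, 1, 2, 5]),
  (52, 60, 4, [0, 1, 3]),
  (80, 60, 2, [0, 1, 3]),
  (84, 60, 2, [3, 2, 0]),
  (96, 60, 3, [0, 5, 1, 5]),
  (100, 60, 3, [0, 1, 3]),
  (144, 60, 3, [3, 2, 0]),
  (148, 60, 3, [1, 7, 7]),
  (160, 60, 2, [1, 7, 7]),
  (164, 60, 2, [7, 1, 7, 0]),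
  (192, 60, 4, [2, 5, 0, 2]),
  (196, 60, 4, [1, 5, 0]),
  (240, 60, 0, [1, 4, 6, 7, 2]),
  (244, 60, 0, [4, 2, 5, 4, 4]),
  (0, 62, 0, [3, 4, 1, 4, 5]),
  (4, 62, 3, [2, 7, 1, 5]),
  (56, 62, 4, [2, 2, 7]),
  (60, 62, 2, [2, 7, 1, 5]),
  (88, 62, 2, [1, 2, 0, 3, 3]),
  (92, 62, 4, [1, 2, 0, 5, 7]),
  (96, 62, 3, [0, 1, 7, 2, 0]),
  (100, 62, 0, [1, 4, 6, 1, 5]),
  (144, 62, 3, [3, 3, 2, 2]),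
  (148, 62, 0, [3, 2, 6, 7, 6]),
  (168, 62, 2, [3, 3, 2, 2]),
  (172, 62, 4, [0, 1, 5, 1, 7]),
  (200, 62, 4, [0, 1, 7, 2, 0]),
  (204, 62, 2, [2, 2, 7]),
  (240, 62, 0, [6, 4, 6, 7, 1]),
  (244, 62, 3, [2, 2, 7])]

/-- All of them. -/
def invol : List (Nat × Nat × Nat × List Nat) := invol0 ++ invol1 ++ invol2 ++ invol3 ++ invol4

/-- Words carrying each singular vector to the first basis vector. -/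
def toOne : List (Nat × List Nat) := [
  (1, []),
  (2, [4, 4, 5, 6, 4]),
  (4, [4, 6, 6, 5]),
  (5, [4, 7, 6, 6]),
  (6, [4, 0, 2, 2]),
  (8, [4, 4, 0, 6]),
  (9, [4, 6, 2]),
  (10, [4, 7, 3]),
  (15, [4, 2, 4, 4]),
  (16, [4, 0, 4, 7]),
  (17, [4, 2, 6, 7]),
  (18, [4, 3, 2]),
  (20, [4, 1, 4]),
  (21, [4, 5, 6, 2]),
  (22, [4, 7, 0]),
  (24, [4, 6, 5]),
  (25, [6, 7, 6, 1]),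
  (26, [4, 1, 2]),
  (31, [6, 4, 7]),
  (32, [4, 1, 4, 2]),
  (33, [4, 2, 0, 6]),
  (34, [6, 7, 5]),
  (36, [6, 7, 4]),
  (37, [4, 6, 0, 1]),
  (38, [4, 3]),
  (40, [4, 2, 4, 3]),
  (41, [4, 6, 6]),
  (42, [4, 4, 5]),
  (47, [4, 5, 6, 4]),
  (51, [6, 4]),
  (55, [4, 1, 2, 5]),
  (59, [4, 4, 2]),
  (60, [4, 0, 4]),
  (61, [4, 2, 6]),
  (62, [6, 3, 7]),
  (64, [6, 5, 6]),
  (65, [6, 7, 6, 7]),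
  (66, [4, 2, 7]),
  (68, [4, 0, 4, 2]),
  (69, [4, 6]),
  (70, [4, 0, 2, 1]),
  (72, [6, 3, 7, 4]),
  (73, [6, 0, 1, 6]),
  (74, [4, 0]),
  (79, [4, 1, 5]),
  (80, [4, 3, 4]),
  (81, [4, 2, 6, 3]),
  (82, [6, 7]),
  (84, [4, 2, 4, 1]),
  (85, [6, 1, 6]),
  (86, [4, 3, 0]),
  (88, [4, 1, 4, 2, 2]),
  (89, [4, 5, 6]),
  (90, [4, 1, 1]),
  (95, [6, 3, 4]),
  (96, [4, 2, 6, 5]),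
  (97, [4, 0, 4, 5]),
  (98, [4, 1]),
  (100, [4, 1, 4, 0]),
  (101, [4, 6, 2, 3]),
  (102, [4, 5, 7]),
  (104, [6, 5, 4]),
  (105, [4, 7, 6]),
  (106, [6, 1, 7]),
  (111, [6, 0, 7, 4]),
  (115, [6, 3, 4, 7]),
  (119, [4, 4]),
  (123, [4, 3, 0, 5]),
  (124, [4, 3, 4, 7]),
  (125, [6, 1, 4]),
  (126, [4, 0, 2]),
  (128, [4, 1, 5, 6]),
  (129, [4, 7, 3, 4]),
  (130, [4, 2, 0]),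
  (132, [4, 2, 4]),
  (133, [4, 3, 6]),
  (134, [6, 0, 1]),
  (136, [4, 1, 4, 7]),
  (137, [4, 4, 5, 6]),
  (138, [4]),
  (143, [6, 5, 3]),
  (144, [6, 4, 6]),
  (145, [4, 0, 2, 6, 2]),
  (146, [6, 0, 7]),
  (148, [6, 4, 7, 4]),
  (149, [4, 6, 1]),
  (150, [4, 3, 7]),
  (152, [4, 2, 4, 3, 7]),
  (153, [4, 3, 0, 6]),
  (154, [6, 1, 3]),
  (159, [4, 0, 4, 6]),
  (160, [4, 0, 4, 1, 2]),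
  (161, [4, 5, 5, 4]),
  (162, [6, 3]),
  (164, [6, 4, 6, 2]),
  (165, [4, 0, 2, 2, 6]),
  (166, [4, 7]),
  (168, [4, 2, 4, 7]),
  (169, [4, 2, 4, 5]),
  (170, [4, 2, 7, 1]),
  (175, [4, 2, 0, 5]),
  (179, [4, 0, 4, 7, 6]),
  (183, [4, 0, 4, 4]),
  (187, [4, 5, 5, 3]),
  (188, [6, 4, 7, 6]),
  (189, [6, 1, 4, 3]),
  (190, [6, 0]),
  (195, [4, 2, 0, 5, 6]),
  (199, [4, 4, 0]),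
  (203, [4, 3, 7, 5]),
  (204, [6, 7, 4, 1]),
  (205, [6, 1, 4, 0]),
  (206, [6]),
  (211, [4, 1, 5, 7]),
  (215, [4, 5, 5]),
  (219, [4, 4, 3]),
  (220, [6, 5, 6, 7]),
  (221, [4, 0, 2, 6]),
  (222, [4, 7, 2]),
  (227, [6, 5]),
  (231, [4, 1, 2, 4]),
  (235, [4, 4, 7]),
  (236, [4, 0, 4, 1]),
  (237, [4, 2, 6, 1]),
  (238, [4, 2, 7, 3]),
  (240, [6, 0, 1, 4]),
  (241, [6, 7, 6]),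
  (242, [4, 2]),
  (244, [4, 4, 2, 6]),
  (245, [4, 6, 0]),
  (246, [6, 1]),
  (248, [4, 1, 2, 5, 6]),
  (249, [4, 6, 1, 6]),
  (250, [4, 5]),
  (255, [6, 3, 5])]

/-- Words fixing the first vector that move singular vectors of the section. -/
def fixers : List (List Nat) := [[0], [2]]

/-- Words fusing the lifts over the nonsingular Siegel map. -/
def fusers : List (List Nat) := [[], [2, 1, 2, 1, 1], [2, 2, 0, 0, 2], [2, 2, 1, 2, 1], [2, 2, 3, 2], [2, 2, 0, 2]]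

/-- Words fusing the outer lifts over the singular Siegel map. -/
def ufusers : List (List Nat) := [[], [3, 3, 2, 3], [2, 0, 3, 1, 2], [1, 2, 1, 1, 2], [0], [1, 2, 1, 2, 1], [3, 0, 2, 3], [0, 0], [3, 2, 2, 3, 2]]

/-- Middle maps: two commuting involutions and their product. -/
def midA : List Nat := [1, 2, 4, 8, 16, 160, 80, 128]
def midB : List Nat := [1, 2, 4, 8, 128, 64, 32, 16]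
def midC : List Nat := [1, 2, 4, 8, 128, 80, 160, 16]

def wordA : List Nat := [1, 1, 6, 4, 6]
def wordB : List Nat := [6, 0, 1, 4]
def wordC : List Nat := [2, 2, 3, 2, 6, 1, 6, 4, 1]
/-- A word toggling the far lifts. -/
def wordH : List Nat := [1, 2, 2, 1, 2, 2, 1]

end CfsgLib.Recog.CoOneType
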