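import Cfsg.Agent.Lib.Recog.CoOneType.Model

/-!
Finite facts about the isometry group of the eight-dimensional form of plus type over two elements used for
frames and forms (owner: helper12).
-/

set_option autoImplicit false
set_option maxRecDepth 100000
set_option Elab.async false

namespace CfsgLib.Recog.CoOneType

theorem genPairs_ok : genPairs.all (fun de => decide (de.1 < 256) && decide (de.2 < 256) && qb de.1 && qb de.2 &&
    bb de.1 de.2) = true := by decide +kernel

/-- The section at the first basis vector. -/
def sect : List Nat := (List.range 64).map (4 * ·)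

theorem sect_lt : ∀ v ∈ sect, v < 256 ∧ bb v 1 = false ∧ bb v 2 = false ∧ v &&& 252 = v := by decide +kernel

theorem reduce_mem : ∀ n < 256, n &&& 252 ∈ sect := by decide +kernel

theorem reduce_perp : ∀ n < 256, bb n 1 = false → n = n &&& 252 ∨ n = (n &&& 252) ^^^ 1 := by decide +kernel

theorem sect_std : ∀ v ∈ sect, v = (bif v.testBit 2 then 4 else 0) ^^^ ((bif v.testBit 3 then 8 else 0) ^^^
    ((bif v.testBit 4 then 16 else 0) ^^^ ((bif v.testBit 5 then 32 else 0) ^^^
      ((bif v.testBit 6 then 64 else 0) ^^^ (bif v.testBit 7 then 128 else 0))))) := by decide +kernel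

theorem mem_sect_iff {n : Nat} : n ∈ sect ↔ n < 256 ∧ n &&& 252 = n :=
  ⟨fun h => ⟨(sect_lt n h).1, (sect_lt n h).2.2.2⟩, fun h => h.2 ▸ reduce_mem n h.1⟩

theorem sect_xor : sect.all (fun v => sect.all fun w => sect.contains (v ^^^ w)) = true := by
  simp only [List.all_eq_true, List.contains_iff_mem, mem_sect_iff]
  intro v hv w hw
  exact ⟨lt_xor hv.1 hw.1, by rw [Nat.and_xor_distrib_right, hv.2, hw.2]⟩

theorem sect_mem_xor {v w : Nat} (hv : v ∈ sect) (hw : w ∈ sect) : v ^^^ w ∈ sect :=
  List.contains_iff_mem.1 (List.all_eq_true.1 (List.all_eq_true.1 sect_xor v hv) w hw)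

/-- The unit vectors of the section and zero. -/
def units : List Nat := [0, 4, 8, 16, 32, 64, 128]

theorem units_mem : ∀ u ∈ units, u ∈ sect := by decide +kernel

/-- Induction along the units. -/
theorem sect_induction {P : Nat → Prop} (h0 : P 0) (hs : ∀ w ∈ sect, ∀ u ∈ units, P w → P (w ^^^ u)) {v : Nat}
    (hv : v ∈ sect) : P v := by
  have hu : ∀ (b : Bool), ∀ u ∈ units, (bif b then u else 0) ∈ units := fun b u h => by
    cases b
    exacts [List.mem_cons_self, h]
  have step : ∀ w, w ∈ sect ∧ P w → ∀ (b : Bool), ∀ u ∈ units,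
      (bif b then u else 0) ^^^ w ∈ sect ∧ P ((bif b then u else 0) ^^^ w) := fun w hw b u h => by
    rw [Nat.xor_comm]
    exact ⟨sect_mem_xor hw.1 (units_mem _ (hu b u h)), hs w hw.1 _ (hu b u h) hw.2⟩
  have hbase : ∀ (b : Bool), (bif b then 128 else 0) ∈ sect ∧ P (bif b then 128 else 0) := fun b => by
    have h := step 0 ⟨units_mem 0 List.mem_cons_self, h0⟩ b 128 (by decide)
    rwa [Nat.xor_zero] at h
  rw [sect_std v hv]
  exact (step _ (step _ (step _ (step _ (step _ (hbase _) _ 64 (by decide)) _ 32 (by decide)) _ 16 (by decide)) _ 8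
    (by decide)) _ 4 (by decide)).2

theorem sect_nondeg : sect.all (fun v => v == 0 || sect.any fun m => bb v m) = true := by decide +kernel

theorem bb_self : ∀ n < 256, bb n n = false := by decide +kernel

/-- A candidate element fixing the first vector and trivial on the section. -/
def siegelCand (n : Nat) (k2 k3 k4 k5 k6 k7 : Bool) : List Nat :=
  [1, n, 4 ^^^ (bif k2 then 1 else 0), 8 ^^^ (bif k3 then 1 else 0), 16 ^^^ (bif k4 then 1 else 0),
    32 ^^^ (bif k5 then 1 else 0), 64 ^^^ (bif k6 then 1 else 0), 128 ^^^ (bif k7 then 1 else 0)]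

/-- The conditions on a candidate. -/
def siegelB (n : Nat) (k2 k3 k4 k5 k6 k7 : Bool) : Bool :=
  !qb n && bb n 1 && !bb n (4 ^^^ (bif k2 then 1 else 0)) && !bb n (8 ^^^ (bif k3 then 1 else 0)) &&
    !bb n (16 ^^^ (bif k4 then 1 else 0)) && !bb n (32 ^^^ (bif k5 then 1 else 0)) &&
    !bb n (64 ^^^ (bif k6 then 1 else 0)) && !bb n (128 ^^^ (bif k7 then 1 else 0))

theorem siegel_ok : ∀ k2 k3 k4 k5 k6 k7 : Bool, (List.range 256).all (fun n => !siegelB n k2 k3 k4 k5 k6 k7 ||
    siegelCand n k2 k3 k4 k5 k6 k7 == rho ((n ^^^ 2) &&& 252)) = true := by decide +kernel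

theorem rho_zero : rho 0 = one := by decide +kernel

theorem rho_inj : sect.all (fun v => (app (rho v) 2 ^^^ 2) &&& 252 == v) = true := by decide +kernel

theorem rho_comp_unit : sect.all (fun v => units.all fun u => comp (rho v) (rho u) == rho (v ^^^ u)) = true := by
  decide +kernel

theorem rho_comp : sect.all (fun v => sect.all fun w => comp (rho v) (rho w) == rho (v ^^^ w)) = true := by
  have hu : ∀ v ∈ sect, ∀ u ∈ units, comp (rho v) (rho u) = rho (v ^^^ u) := fun v hv u h =>
    beq_iff_eq.1 (List.all_eq_true.1 (List.all_eq_true.1 rho_comp_unit v hv) u h)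
  simp only [List.all_eq_true, beq_iff_eq]
  intro v hv w hw
  refine sect_induction (P := fun w => comp (rho v) (rho w) = rho (v ^^^ w)) ?_ ?_ hw
  · exact hu v hv 0 List.mem_cons_self
  · intro w hw u hu' ih
    rw [← hu w hw u hu', comp_assoc (length_rho w), ih, hu _ (sect_mem_xor hv hw) u hu', Nat.xor_assoc]

theorem rho_move : sect.all (fun v => (List.range 256).all fun a =>
    bb a 1 || app (rho v) a == a ^^^ (bif bb v a then 1 else 0)) = true := by decide +kernel

theorem rho_partner : sect.all (fun v =>
    app (rho v) 2 ^^^ 2 == v ^^^ (bif qb v then 1 else 0)) = true := by decide +kernel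

theorem toOne_ok : (List.range 256).all (fun n => n == 0 || qb n ||
    toOne.any fun p => p.1 == n && app (wmap p.2) n == 1) = true := by decide +kernel

theorem fixers_fix : fixers.all (fun w => app (wmap w) 1 == 1) = true := by decide +kernel

theorem fixers_move : (List.range 256).all (fun n => n == 0 || n == 1 || qb n || bb n 1 ||
    fixers.any fun w => bb n (app (wmap w) n)) = true := by decide +kernel

/-- Nonsingular vectors orthogonal to a singular one have partners whose reflection products fix it. -/
theorem partner_ok : sect.all (fun v => v == 0 || qb v || sect.all fun d => !qb d || bb d v || sect.any fun e =>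
    qb e && bb d e && !bb e v && app (comp (refl d) (refl e)) 1 == 1 &&
      comp (comp (refl d) (refl e)) (rho v) == comp (rho v) (comp (refl d) (refl e))) = true := by decide +kernel

theorem pair_cycle : sect.all (fun d => !qb d || sect.all fun e => !qb e || !bb d e ||
    (app (comp (refl d) (refl e)) d &&& 252 == e && app (comp (refl d) (refl e)) e &&& 252 == d ^^^ e)) = true := by
  decide +kernel

theorem perp_span : sect.all (fun v => v == 0 || qb v || sect.all fun n => bb n v || qb n || n == 0 ||
    sect.any fun d => qb d && !bb d v && qb (n ^^^ d) && !bb (n ^^^ d) v) = true := by decide +kernel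

/-- Singular vectors of the section connecting its basis. -/
def links : List (Nat × Nat) := [(4, 16), (8, 16), (16, 64), (32, 64), (16, 128)]

theorem links_ok : links.all (fun ij => sect.contains ij.1 && sect.contains ij.2 && !qb ij.1 && !qb ij.2 &&
    !qb (ij.1 ^^^ ij.2) && sect.any fun n => !bb ij.1 n && bb ij.2 n) = true := by decide +kernel

theorem links_ok' : links.all (fun ij => sect.any fun n => bb ij.1 n && !bb ij.2 n) = true := by decide +kernel

end CfsgLib.Recog.CoOneType
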