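import Cfsg.Agent.Lib.Recog.CoOneType.Frame

/-!
The central part of the commutators of the two extraspecial groups is the polar form of the section, so
squaring in `P` is given by the same form (owner: helper12; after the Suzuki-type file of helper20).
-/

set_option autoImplicit false
set_option linter.unusedSectionVars false
set_option linter.unusedVariables false
set_option quotPrecheck false

namespace CfsgLib.Recog.CoOneType

open CfsgLib.ThreeTrans

variable {G : Type*} [Group G] [Finite G] {z : G} {Q : Subgroup G} {p : G → Nat} {k : G}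

open scoped Classical in
/-- The `z`-part of a commutator. -/
noncomputable def zc (z k : G) (s a : G) : Bool :=
  decide (∃ j, s * a * s⁻¹ * a⁻¹ = z * sg (k * z * k⁻¹) j)

/-- An element of `P` inducing `rho v`. -/
noncomputable def sOf (z : G) (Q : Subgroup G) (p : G → Nat) (k : G) (v : Nat) : G :=
  Classical.epsilon fun s => s ∈ Q.map (MulAut.conj k).toMonoidHom ∧ Commute s z ∧ Acts z Q p s (rho v)

/-- A vector representative. -/
noncomputable def aOf (Q : Subgroup G) (p : G → Nat) (n : Nat) : G :=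
  Classical.epsilon fun a => a ∈ Q ∧ p a = n

/-- The pairing. -/
noncomputable def pairing (z : G) (Q : Subgroup G) (p : G → Nat) (k : G) (v n : Nat) : Bool :=
  zc z k (sOf z Q p k v) (aOf Q p n)

namespace Frame

variable (F : Frame z Q p k)
include F

local notation "X" => k * z * k⁻¹
local notation "P" => Q.map (MulAut.conj k).toMonoidHom
local notation "L" => pairing z Q p k

theorem rho_shift {v n : Nat} (hv : v ∈ sect) (hn : n < 256) (hn1 : bb n 1 = false) :
    app (rho v) n ^^^ n = bif bb v n then 1 else 0 := by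
  have h := List.all_eq_true.1 (List.all_eq_true.1 rho_move v hv) n (List.mem_range.2 hn)
  simp only [hn1, Bool.false_or, beq_iff_eq] at h
  rw [h, Nat.xor_comm n, Nat.xor_assoc, Nat.xor_self, Nat.xor_zero]

theorem comm_form {s a : G} {v : Nat} (hv : v ∈ sect) (hs : s ∈ P) (hsz : Commute s z)
    (hsA : Acts z Q p s (rho v)) (ha : a ∈ Q) (ha1 : bb (p a) 1 = false) :
    s * a * s⁻¹ * a⁻¹ = sg z (zc z k s a) * sg X (bb v (p a)) := by
  have hm := F.comm_mem hs hsz ha ((F.comm_x ha).2 ha1)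
  obtain ⟨i, j, e⟩ := F.inter hm.1 hm.2
  have hp : p (s * a * s⁻¹ * a⁻¹) = app (rho v) (p a) ^^^ p a := by
    rw [F.sys.map_mul _ (F.sys.large.conj_mem hsz ha) _ (Q.inv_mem ha), F.sys.p_inv ha, hsA.2 a ha]
  rw [e, F.p_pair, F.rho_shift hv (F.sys.lt a ha) ha1] at hp
  have hj : j = bb v (p a) := by
    cases j <;> cases hb : bb v (p a) <;> simp_all
  have hi : zc z k s a = i := by
    classical
    unfold zc
    cases i
    · rw [decide_eq_false_iff_not]
      rintro ⟨j', e'⟩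
      rw [e] at e'
      have := F.pair_inj (i := false) (i' := true) e'
      exact absurd this.1 Bool.false_ne_true
    · rw [decide_eq_true_iff]
      exact ⟨j, e⟩
  rw [e, hi, hj]

theorem zc_eq {s a : G} {v : Nat} {i j : Bool} (hv : v ∈ sect) (hs : s ∈ P) (hsz : Commute s z)
    (hsA : Acts z Q p s (rho v)) (ha : a ∈ Q) (ha1 : bb (p a) 1 = false)
    (e : s * a * s⁻¹ * a⁻¹ = sg z i * sg X j) : zc z k s a = i :=
  (F.pair_inj ((F.comm_form hv hs hsz hsA ha ha1).symm.trans e)).1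

theorem perp_xor {m n : Nat} (hm : bb m 1 = false) (hn : bb n 1 = false) : bb (m ^^^ n) 1 = false := by
  rw [bb_xor_left, hm, hn]; rfl

theorem zc_mul_right {s a b : G} {v : Nat} (hv : v ∈ sect) (hs : s ∈ P) (hsz : Commute s z)
    (hsA : Acts z Q p s (rho v)) (ha : a ∈ Q) (ha1 : bb (p a) 1 = false) (hb : b ∈ Q) (hb1 : bb (p b) 1 = false) :
    zc z k s (a * b) = (zc z k s a ^^ zc z k s b) := by
  refine F.zc_eq hv hs hsz hsA (Q.mul_mem ha hb) (by rw [F.sys.map_mul a ha b hb]; exact F.perp_xor ha1 hb1)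
    (j := bb v (p a) ^^ bb v (p b)) ?_
  rw [← F.pair_mul, ← F.comm_form hv hs hsz hsA ha ha1, ← F.comm_form hv hs hsz hsA hb hb1]
  have hc : Commute a (s * b * s⁻¹ * b⁻¹) := by
    rw [F.comm_form hv hs hsz hsA hb hb1]
    exact F.pair_comm (F.sys.large.commute_z ha) ((F.comm_x ha).2 ha1) _ _
  calc s * (a * b) * s⁻¹ * (a * b)⁻¹ = s * a * s⁻¹ * (s * b * s⁻¹ * b⁻¹) * a⁻¹ := by group
    _ = s * a * s⁻¹ * a⁻¹ * (a * (s * b * s⁻¹ * b⁻¹) * a⁻¹) := by group
    _ = _ := by rw [hc.eq, mul_inv_cancel_right]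

theorem zc_mul_left {s t a : G} {v w : Nat} (hv : v ∈ sect) (hw : w ∈ sect) (hs : s ∈ P) (hsz : Commute s z)
    (hsA : Acts z Q p s (rho v)) (ht : t ∈ P) (htz : Commute t z) (htA : Acts z Q p t (rho w))
    (hvw : v ^^^ w ∈ sect) (ha : a ∈ Q) (ha1 : bb (p a) 1 = false) :
    zc z k (s * t) a = (zc z k t a ^^ zc z k s a) := by
  refine F.zc_eq hvw (Subgroup.mul_mem _ hs ht) (hsz.mul_left htz) (F.rho_mul hv hw hsA htA) ha ha1
    (j := bb w (p a) ^^ bb v (p a)) ?_
  rw [← F.pair_mul, ← F.comm_form hv hs hsz hsA ha ha1, ← F.comm_form hw ht htz htA ha ha1]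
  have hc : Commute s (t * a * t⁻¹ * a⁻¹) := by
    rw [F.comm_form hw ht htz htA ha ha1]
    exact F.pair_comm hsz (F.sys'.large.commute_z hs) _ _
  calc s * t * a * (s * t)⁻¹ * a⁻¹ = s * (t * a * t⁻¹ * a⁻¹) * s⁻¹ * (s * a * s⁻¹ * a⁻¹) := by group
    _ = _ := by rw [hc.eq, mul_inv_cancel_right]

theorem zc_of_inter {s e a : G} (hs : s ∈ P) (hsz : Commute s z) (ha : a ∈ Q) (ha1 : bb (p a) 1 = false)
    {i j : Bool} (he : e = sg z i * sg X j) : zc z k (s * e) a = zc z k s a := by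
  have h1 : Commute a e := by rw [he]; exact F.pair_comm (F.sys.large.commute_z ha) ((F.comm_x ha).2 ha1) _ _
  unfold zc
  have : s * e * a * (s * e)⁻¹ * a⁻¹ = s * a * s⁻¹ * a⁻¹ := by
    rw [mul_assoc s e a, ← h1.eq]
    group
  rw [this]

theorem zc_of_p {s a : G} (hs : s ∈ P) (hsz : Commute s z) (ha : a ∈ Q) (i : Bool) :
    zc z k s (a * sg z i) = zc z k s a := by
  have h1 : Commute s (sg z i) := F.sys.sg_comm hsz i
  unfold zc
  have : s * (a * sg z i) * s⁻¹ * (a * sg z i)⁻¹ = s * a * s⁻¹ * a⁻¹ := by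
    rw [show s * (a * sg z i) * s⁻¹ = s * a * (sg z i * s⁻¹) by group, ← h1.inv_left.eq]
    group
  rw [this]

theorem sOf_spec {v : Nat} (hv : v ∈ sect) :
    sOf z Q p k v ∈ P ∧ Commute (sOf z Q p k v) z ∧ Acts z Q p (sOf z Q p k v) (rho v) := by
  obtain ⟨s, hs⟩ := F.exists_s hv
  exact Classical.epsilon_spec (p := fun s => s ∈ P ∧ Commute s z ∧ Acts z Q p s (rho v)) ⟨s, hs⟩

theorem aOf_spec {n : Nat} (hn : n < 256) : aOf Q p n ∈ Q ∧ p (aOf Q p n) = n := by
  obtain ⟨a, ha⟩ := F.sys.surj n hn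
  exact Classical.epsilon_spec (p := fun a => a ∈ Q ∧ p a = n) ⟨a, ha⟩

theorem zc_pairing {s a : G} {v : Nat} (hv : v ∈ sect) (hs : s ∈ P) (hsz : Commute s z)
    (hsA : Acts z Q p s (rho v)) (ha : a ∈ Q) (ha1 : bb (p a) 1 = false) :
    zc z k s a = L v (p a) := by
  obtain ⟨h1, h2, h3⟩ := F.sOf_spec hv
  obtain ⟨h4, h5⟩ := F.aOf_spec (F.sys.lt a ha)
  have hd : (sOf z Q p k v)⁻¹ * s ∈ Q := F.sys.inv_mul_mem h3 hsA
  obtain ⟨i, j, he⟩ := F.inter hd (Subgroup.mul_mem _ (Subgroup.inv_mem _ h1) hs)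
  obtain ⟨i', he'⟩ := F.sys.eq_of_p h4 ha h5
  have e1 : s = sOf z Q p k v * (sg z i * sg X j) := by rw [← he]; group
  rw [e1, F.zc_of_inter h1 h2 ha ha1 rfl]
  conv_lhs => rw [he']
  rw [F.zc_of_p h1 h2 h4]
  rfl

theorem L_xor {v m n : Nat} (hv : v ∈ sect) (hm : m < 256) (hn : n < 256) (hm1 : bb m 1 = false)
    (hn1 : bb n 1 = false) : L v (m ^^^ n) = (L v m ^^ L v n) := by
  obtain ⟨a, ha, rfl⟩ := F.sys.surj m hm
  obtain ⟨b, hb, rfl⟩ := F.sys.surj n hn
  obtain ⟨h1, h2, h3⟩ := F.sOf_spec hv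
  have hab : bb (p (a * b)) 1 = false := by rw [F.sys.map_mul a ha b hb]; exact F.perp_xor hm1 hn1
  rw [← F.zc_pairing hv h1 h2 h3 ha hm1, ← F.zc_pairing hv h1 h2 h3 hb hn1, ← F.sys.map_mul a ha b hb,
    ← F.zc_pairing hv h1 h2 h3 (Q.mul_mem ha hb) hab, F.zc_mul_right hv h1 h2 h3 ha hm1 hb hn1]

theorem L_left {v w n : Nat} (hv : v ∈ sect) (hw : w ∈ sect) (hvw : v ^^^ w ∈ sect) (hn : n < 256)
    (hn1 : bb n 1 = false) : L (v ^^^ w) n = (L v n ^^ L w n) := by
  obtain ⟨a, ha, rfl⟩ := F.sys.surj n hn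
  obtain ⟨h1, h2, h3⟩ := F.sOf_spec hv
  obtain ⟨h4, h5, h6⟩ := F.sOf_spec hw
  rw [← F.zc_pairing hvw (Subgroup.mul_mem _ h1 h4) (h2.mul_left h5) (F.rho_mul hv hw h3 h6) ha hn1,
    F.zc_mul_left hv hw h1 h2 h3 h4 h5 h6 hvw ha hn1, ← F.zc_pairing hv h1 h2 h3 ha hn1,
    ← F.zc_pairing hw h4 h5 h6 ha hn1, Bool.xor_comm]

theorem L_zero {v : Nat} (hv : v ∈ sect) : L v 0 = false := by
  have := F.L_xor hv (m := 0) (n := 0) (by norm_num) (by norm_num) (by decide +kernel) (by decide +kernel)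
  rw [Nat.xor_self, Bool.xor_self] at this
  exact this

theorem L_one {v : Nat} (hv : v ∈ sect) : L v 1 = false := by
  obtain ⟨h1, h2, h3⟩ := F.sOf_spec hv
  rw [← F.px, ← F.zc_pairing hv h1 h2 h3 F.memQ (by rw [F.px]; decide +kernel)]
  refine F.zc_eq hv h1 h2 h3 F.memQ (by rw [F.px]; decide +kernel) (j := false) ?_
  rw [(F.sys'.large.commute_z h1).eq, mul_inv_cancel_right, mul_inv_cancel]
  exact (one_mul (1 : G)).symm

theorem L_reduce {v n : Nat} (hv : v ∈ sect) (hn : n < 256) (hn1 : bb n 1 = false) : L v (n &&& 252) = L v n := by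
  have hs := sect_lt _ (reduce_mem n hn)
  rcases reduce_perp n hn hn1 with e | e
  · rw [← e]
  · conv_rhs => rw [e]
    rw [F.L_xor hv hs.1 (by norm_num) hs.2.1 (by decide +kernel), F.L_one hv, Bool.xor_false]

/-- Additive functions on the section equal on the basis are equal. -/
theorem lin_ext {f g : Nat → Bool}
    (hf : ∀ a < 256, ∀ b < 256, bb a 1 = false → bb b 1 = false → f (a ^^^ b) = (f a ^^ f b))
    (hg : ∀ a < 256, ∀ b < 256, bb a 1 = false → bb b 1 = false → g (a ^^^ b) = (g a ^^ g b))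
    (h : ∀ i ∈ [4, 8, 16, 32, 64, 128], f i = g i) {n : Nat} (hn : n ∈ sect) : f n = g n := by
  let e : Nat → Bool := fun a => f a ^^ g a
  have he : ∀ a < 256, ∀ b < 256, bb a 1 = false → bb b 1 = false → e (a ^^^ b) = (e a ^^ e b) := by
    intro a ha b hb ha1 hb1
    simp only [e, hf a ha b hb ha1 hb1, hg a ha b hb ha1 hb1]
    cases f a <;> cases g a <;> cases f b <;> cases g b <;> rfl
  have z0 : e 0 = false := by
    have := he 0 (by norm_num) 0 (by norm_num) (by decide +kernel) (by decide +kernel)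
    rw [Nat.xor_self, Bool.xor_self] at this
    exact this
  have key : ∀ (c : Bool), ∀ i ∈ [4, 8, 16, 32, 64, 128], e (bif c then i else 0) = false := by
    intro c i hi
    cases c
    · exact z0
    · show e i = false
      simp only [e, h i hi, Bool.xor_self]
  have hb : ∀ (c : Bool), ∀ i ∈ [4, 8, 16, 32, 64, 128],
      (bif c then i else 0) < 256 ∧ bb (bif c then i else 0) 1 = false := by decide +kernel
  have hn0 : e n = false := by
    rw [sect_std n hn]
    have q2 := hb (n.testBit 2) 4 (by simp)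
    have q3 := hb (n.testBit 3) 8 (by simp)
    have q4 := hb (n.testBit 4) 16 (by simp)
    have q5 := hb (n.testBit 5) 32 (by simp)
    have q6 := hb (n.testBit 6) 64 (by simp)
    have q7 := hb (n.testBit 7) 128 (by simp)
    have p1 := And.intro (lt_xor q6.1 q7.1) (F.perp_xor q6.2 q7.2)
    have p2 := And.intro (lt_xor q5.1 p1.1) (F.perp_xor q5.2 p1.2)
    have p3 := And.intro (lt_xor q4.1 p2.1) (F.perp_xor q4.2 p2.2)
    have p4 := And.intro (lt_xor q3.1 p3.1) (F.perp_xor q3.2 p3.2)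
    rw [he _ q2.1 _ p4.1 q2.2 p4.2, he _ q3.1 _ p3.1 q3.2 p3.2, he _ q4.1 _ p2.1 q4.2 p2.2,
      he _ q5.1 _ p1.1 q5.2 p1.2, he _ q6.1 _ q7.1 q6.2 q7.2, key _ _ (by simp), key _ _ (by simp),
      key _ _ (by simp), key _ _ (by simp), key _ _ (by simp), key _ _ (by simp)]
    rfl
  revert hn0
  simp only [e]
  cases f n <;> cases g n <;> simp

theorem bb_lin (r : Nat) : ∀ a < 256, ∀ b < 256, bb a 1 = false → bb b 1 = false →
    bb r (a ^^^ b) = (bb r a ^^ bb r b) := fun a _ b _ _ _ => by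
  rw [bb_comm r, bb_xor_left, bb_comm a, bb_comm b]

/-- An element of `Q` corrects an element fixing the first vector to one fixing `x`. -/
theorem exists_fix {c : G} {W : List Nat} (hc : Acts z Q p c W) (hW : app W 1 = 1) (hl : W.length = 8) :
    ∃ d, Acts z Q p d W ∧ Commute d X := by
  obtain ⟨i, e⟩ := F.sys.eq_of_p (F.sys.large.conj_mem hc.1 F.memQ) F.memQ
    (by rw [hc.2 _ F.memQ, F.px, hW])
  cases i
  · refine ⟨c, hc, ?_⟩
    rw [show sg z false = 1 from rfl, mul_one] at e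
    exact mul_inv_eq_iff_eq_mul.1 e.symm
  · obtain ⟨q, hq1, hq2⟩ := F.sys.surj 2 (by norm_num)
    refine ⟨q * c, ⟨(F.sys.large.commute_z hq1).mul_left hc.1, fun a ha => ?_⟩, mul_inv_eq_iff_eq_mul.1 ?_⟩
    · rw [show q * c * a * (q * c)⁻¹ = q * (c * a * c⁻¹) * q⁻¹ by group,
        F.sys.p_conj_q (F.sys.large.conj_mem hc.1 ha) hq1, hc.2 a ha]
    · rw [show q * c * X * (q * c)⁻¹ = q * (c * X * c⁻¹) * q⁻¹ by group,
        F.sys.conj_eq (F.sys.large.conj_mem hc.1 F.memQ) hq1, hq2, hc.2 _ F.memQ, F.px, hW,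
        show bb 2 1 = true by decide +kernel]
      exact e.symm

theorem L_invariant {v : Nat} {W : List Nat} {c : G} (hv : v ∈ sect) (hl : W.length = 8)
    (hc : Acts z Q p c W) (hW : app W 1 = 1) (hcomm : comp W (rho v) = comp (rho v) W)
    {n : Nat} (hn : n < 256) (hn1 : bb n 1 = false) : L v (app W n &&& 252) = L v n := by
  obtain ⟨d, hd, hdx⟩ := F.exists_fix hc hW hl
  obtain ⟨h1, h2, h3⟩ := F.sOf_spec hv
  obtain ⟨a, ha, rfl⟩ := F.sys.surj n hn
  set s := sOf z Q p k v with hs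
  have hs' : d * s * d⁻¹ ∈ P := F.sys'.large.conj_mem hdx h1
  have hsz' : Commute (d * s * d⁻¹) z := (hd.1.mul_left h2).mul_left hd.1.inv_left
  have hsA' := F.sys.acts_conj hl (F.rho_len v) (F.rho_len v) hd h3 hcomm
  have ha' : d * a * d⁻¹ ∈ Q := F.sys.large.conj_mem hd.1 ha
  have hax' : Commute (d * a * d⁻¹) X := (hdx.mul_left ((F.comm_x ha).2 hn1)).mul_left hdx.inv_left
  have hp' := (F.comm_x ha').1 hax'
  have e := F.comm_form hv h1 h2 h3 ha hn1
  have e2 : d * s * d⁻¹ * (d * a * d⁻¹) * (d * s * d⁻¹)⁻¹ * (d * a * d⁻¹)⁻¹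
      = sg z (zc z k s a) * sg X (bb v (p a)) := by
    rw [show d * s * d⁻¹ * (d * a * d⁻¹) * (d * s * d⁻¹)⁻¹ * (d * a * d⁻¹)⁻¹
        = d * (s * a * s⁻¹ * a⁻¹) * d⁻¹ by group, e, (F.pair_comm hd.1 hdx _ _).eq, mul_inv_cancel_right]
  have := F.zc_eq hv hs' hsz' hsA' ha' hp' e2
  rw [F.zc_pairing hv hs' hsz' hsA' ha' hp', F.zc_pairing hv h1 h2 h3 ha hn1, hd.2 a ha] at this
  rw [F.L_reduce hv (hd.2 a ha ▸ F.sys.lt _ ha') (hd.2 a ha ▸ hp'), this]

theorem acts_pair {d e : Nat} (hd : d < 256) (he : e < 256) (h1 : qb d = true) (h2 : qb e = true)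
    (h3 : bb d e = true) : ∃ c, Acts z Q p c (comp (refl d) (refl e)) := F.sys.gen d e hd he h1 h2 h3

/-- A nonsingular vector orthogonal to a singular one pairs trivially with it. -/
theorem L_perp {v d : Nat} (hv : v ∈ sect) (hv0 : v ≠ 0) (hvq : qb v = false) (hd : d ∈ sect)
    (hdq : qb d = true) (hdv : bb d v = false) : L v d = false := by
  have h := List.all_eq_true.1 partner_ok v hv
  simp only [Bool.or_eq_true, beq_iff_eq, hv0, hvq, Bool.false_eq_true, or_false, false_or,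
    List.all_eq_true] at h
  have h2 := h d hd
  simp only [hdq, hdv, Bool.not_true, Bool.false_eq_true, false_or, List.any_eq_true,
    Bool.and_eq_true, Bool.not_eq_true', beq_iff_eq] at h2
  obtain ⟨e, he, ⟨⟨⟨heq, hde⟩, -⟩, h1⟩, hcm⟩ := h2
  obtain ⟨hd2, hd1, -⟩ := sect_lt d hd
  obtain ⟨he2, he1, -⟩ := sect_lt e he
  obtain ⟨c, hc⟩ := F.acts_pair hd2 he2 hdq heq hde
  have hcyc := List.all_eq_true.1 pair_cycle d hd
  simp only [hdq, Bool.not_true, Bool.false_or, List.all_eq_true] at hcyc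
  have hce := hcyc e he
  simp only [heq, hde, Bool.not_true, Bool.false_or, Bool.and_eq_true, beq_iff_eq] at hce
  have i1 := F.L_invariant hv (by rw [length_comp, length_refl]) hc h1 hcm hd2 hd1
  have i2 := F.L_invariant hv (by rw [length_comp, length_refl]) hc h1 hcm he2 he1
  rw [hce.1] at i1
  rw [hce.2, F.L_xor hv hd2 he2 hd1 he1] at i2
  revert i1 i2
  cases L v d <;> cases L v e <;> simp

theorem L_singular {v : Nat} (hv : v ∈ sect) (hv0 : v ≠ 0) (hvq : qb v = false) :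
    ∃ c : Bool, ∀ w ∈ sect, L v w = (c && bb v w) := by
  have hperp : ∀ w ∈ sect, bb w v = false → L v w = false := by
    intro w hw hwv
    by_cases hwq : qb w = true
    · exact F.L_perp hv hv0 hvq hw hwq hwv
    by_cases hw0 : w = 0
    · rw [hw0]; exact F.L_zero hv
    have h := List.all_eq_true.1 perp_span v hv
    simp only [Bool.or_eq_true, beq_iff_eq, hv0, hvq, Bool.false_eq_true, or_false, false_or,
      List.all_eq_true] at h
    have h2 := h w hw
    simp only [hwv, hwq, hw0, Bool.false_eq_true, false_or, List.any_eq_true, Bool.and_eq_true,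
      Bool.not_eq_true'] at h2
    obtain ⟨d, hd, ⟨⟨hdq, hdv⟩, hwd⟩, hwdv⟩ := h2
    have hwd' : w ^^^ d ∈ sect := List.contains_iff_mem.1
      (List.all_eq_true.1 (List.all_eq_true.1 sect_xor w hw) d hd)
    obtain ⟨a1, b1, -⟩ := sect_lt d hd
    obtain ⟨a2, b2, -⟩ := sect_lt _ hwd'
    have e := F.L_xor hv a2 a1 b2 b1
    rw [Nat.xor_assoc, Nat.xor_self, Nat.xor_zero, F.L_perp hv hv0 hvq hwd' hwd hwdv,
      F.L_perp hv hv0 hvq hd hdq hdv] at e
    exact e
  have hu := List.all_eq_true.1 sect_nondeg v hv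
  simp only [Bool.or_eq_true, beq_iff_eq, hv0, false_or, List.any_eq_true] at hu
  obtain ⟨u, hu, hvu⟩ := hu
  refine ⟨L v u, fun w hw => ?_⟩
  cases hvw : bb v w
  · rw [Bool.and_false]; exact hperp w hw (by rw [bb_comm]; exact hvw)
  · have hwu' : w ^^^ u ∈ sect := List.contains_iff_mem.1
      (List.all_eq_true.1 (List.all_eq_true.1 sect_xor w hw) u hu)
    have e := hperp _ hwu' (by rw [bb_xor_left, bb_comm w, bb_comm u, hvw, hvu]; rfl)
    rw [F.L_xor hv (sect_lt w hw).1 (sect_lt u hu).1 (sect_lt w hw).2.1 (sect_lt u hu).2.1] at e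
    rw [Bool.and_true]
    revert e
    cases L v w <;> cases L v u <;> simp

theorem L_link {i j : Nat} (hij : (i, j) ∈ links) {a b : Bool} (ha : ∀ w ∈ sect, L i w = (a && bb i w))
    (hb : ∀ w ∈ sect, L j w = (b && bb j w)) : a = b := by
  have h := List.all_eq_true.1 links_ok _ hij
  have h' := List.all_eq_true.1 links_ok' _ hij
  simp only [Bool.and_eq_true, List.contains_iff_mem, Bool.not_eq_true', List.any_eq_true] at h h'
  obtain ⟨⟨⟨⟨⟨hi, hj⟩, -⟩, -⟩, hijq⟩, n, hn, hn1, hn2⟩ := h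
  obtain ⟨m, hm, hm1, hm2⟩ := h'
  have hs : i ^^^ j ∈ sect := List.contains_iff_mem.1 (List.all_eq_true.1 (List.all_eq_true.1 sect_xor i hi) j hj)
  have hne : i ^^^ j ≠ 0 := by
    intro e
    rw [Nat.xor_eq_zero_iff.1 e, hn2] at hn1
    exact Bool.noConfusion hn1
  obtain ⟨c, hc⟩ := F.L_singular hs hne hijq
  have e1 := F.L_left hi hj hs (sect_lt n hn).1 (sect_lt n hn).2.1
  have e2 := F.L_left hi hj hs (sect_lt m hm).1 (sect_lt m hm).2.1
  rw [hc n hn, ha n hn, hb n hn, bb_xor_left, hn1, hn2] at e1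
  rw [hc m hm, ha m hm, hb m hm, bb_xor_left, hm1, hm2] at e2
  revert e1 e2
  cases a <;> cases b <;> cases c <;> simp

theorem L_const : ∃ c : Bool, ∀ v ∈ sect, ∀ w ∈ sect, L v w = (c && bb v w) := by
  have hb : ∀ i ∈ [4, 8, 16, 32, 64, 128], i ∈ sect ∧ i ≠ 0 ∧ qb i = false := by decide +kernel
  obtain ⟨c4, h4⟩ := F.L_singular (hb 4 (by simp)).1 (hb 4 (by simp)).2.1 (hb 4 (by simp)).2.2
  obtain ⟨c8, h8⟩ := F.L_singular (hb 8 (by simp)).1 (hb 8 (by simp)).2.1 (hb 8 (by simp)).2.2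
  obtain ⟨c16, h16⟩ := F.L_singular (hb 16 (by simp)).1 (hb 16 (by simp)).2.1 (hb 16 (by simp)).2.2
  obtain ⟨c32, h32⟩ := F.L_singular (hb 32 (by simp)).1 (hb 32 (by simp)).2.1 (hb 32 (by simp)).2.2
  obtain ⟨c64, h64⟩ := F.L_singular (hb 64 (by simp)).1 (hb 64 (by simp)).2.1 (hb 64 (by simp)).2.2
  obtain ⟨c128, h128⟩ := F.L_singular (hb 128 (by simp)).1 (hb 128 (by simp)).2.1 (hb 128 (by simp)).2.2
  have l1 := F.L_link (by simp [links]) h4 h16
  have l2 := F.L_link (by simp [links]) h8 h16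
  have l3 := F.L_link (by simp [links]) h16 h64
  have l4 := F.L_link (by simp [links]) h32 h64
  have l5 := F.L_link (by simp [links]) h16 h128
  rw [show c4 = c128 from l1.trans l5] at h4
  rw [show c8 = c128 from l2.trans l5] at h8
  rw [l5] at h16
  rw [show c32 = c128 from l4.trans (l3.symm.trans l5)] at h32
  rw [show c64 = c128 from l3.symm.trans l5] at h64
  refine ⟨c128, fun v hv w hw => ?_⟩
  obtain ⟨hwl, hw1, -⟩ := sect_lt w hw
  refine F.lin_ext (f := fun v => L (v &&& 252) w) (g := fun v => c128 && bb (v &&& 252) w) ?_ ?_ ?_ hv |> fun e => by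
    simpa [(sect_lt v hv).2.2.2] using e
  · intro a ha b hb' _ _
    simp only [Nat.and_xor_distrib_right]
    have hab : (a &&& 252) ^^^ (b &&& 252) ∈ sect := List.contains_iff_mem.1
      (List.all_eq_true.1 (List.all_eq_true.1 sect_xor _ (reduce_mem a ha)) _ (reduce_mem b hb'))
    exact F.L_left (reduce_mem a ha) (reduce_mem b hb') hab hwl hw1
  · intro a _ b _ _ _
    simp only [Nat.and_xor_distrib_right, bb_xor_left]
    cases c128 <;> simp
  · intro i hi
    simp only [List.mem_cons, List.not_mem_nil, or_false] at hi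
    rcases hi with rfl | rfl | rfl | rfl | rfl | rfl
    exacts [h4 w hw, h8 w hw, h16 w hw, h32 w hw, h64 w hw, h128 w hw]

theorem exists_zc_true : ∃ v ∈ sect, ∃ w ∈ sect, L v w = true := by
  have F' := F.swap
  obtain ⟨a, ha, hpa⟩ := F.sys.surj 4 (by norm_num)
  have ha1 : bb (p a) 1 = false := by rw [hpa]; decide +kernel
  have hXQ : Q = (P).map (MulAut.conj k⁻¹).toMonoidHom := by
    ext g
    rw [mem_conjMap, mem_conjMap, show k⁻¹ * (k⁻¹⁻¹ * g * k⁻¹) * k = g by group]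
  obtain ⟨v', hv', hA'⟩ := F'.exists_rho (s := a) (hXQ ▸ ha) ((F.comm_x ha).2 ha1)
  have hne : v' ≠ 0 := by
    rintro rfl
    rw [rho_zero] at hA'
    rcases F.inter_p ha (F'.sys.mem_of_acts_one hA') with e | e <;> rw [hpa] at e <;> omega
  obtain ⟨m, hm, hvm⟩ : ∃ m ∈ sect, bb v' m = true := by
    have h := List.all_eq_true.1 sect_nondeg v' hv'
    simpa [hne] using h
  obtain ⟨hmlt, hm1, -, -⟩ := sect_lt m hm
  obtain ⟨s, hs, hps⟩ := F.sys'.surj m hmlt
  have hs1 : bb (p (k⁻¹ * s * k)) 1 = false := by rw [hps]; exact hm1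
  have hsz : Commute s z := by
    have := (F'.comm_x hs).2 hs1
    rwa [show k⁻¹ * X * k⁻¹⁻¹ = z by group] at this
  have e := F'.comm_form hv' (hXQ ▸ ha) ((F.comm_x ha).2 ha1) hA' hs hs1
  rw [show k⁻¹ * X * k⁻¹⁻¹ = z by group, hps, hvm] at e
  obtain ⟨v, hv, hsA⟩ := F.exists_rho hs hsz
  refine ⟨v, hv, 4, by decide +kernel, ?_⟩
  rw [← hpa, ← F.zc_pairing hv hs hsz hsA ha ha1]
  refine F.zc_eq hv hs hsz hsA ha ha1 (j := zc X k⁻¹ a s) ?_
  rw [show s * a * s⁻¹ * a⁻¹ = (a * s * a⁻¹ * s⁻¹)⁻¹ by group, e, mul_inv_rev, F.sys'.sg_inv, F.sys.sg_inv]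

/-- The central part of the commutator is the polar form. -/
theorem L_eq {v w : Nat} (hv : v ∈ sect) (hw : w < 256) (hw1 : bb w 1 = false) : L v w = bb v w := by
  obtain ⟨c, hc⟩ := F.L_const
  obtain ⟨v0, hv0, w0, hw0, h0⟩ := F.exists_zc_true
  rw [hc v0 hv0 w0 hw0, Bool.and_eq_true] at h0
  have h1 := hc v hv _ (reduce_mem w hw)
  rw [F.L_reduce hv hw hw1, h0.1, Bool.true_and] at h1
  rw [h1]
  rcases reduce_perp w hw hw1 with e | e
  · rw [← e]
  · conv_rhs => rw [e, bb_comm, bb_xor_left, bb_comm (w &&& 252), bb_comm 1, (sect_lt v hv).2.1, Bool.xor_false]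

theorem commutator_eq {s a : G} {v : Nat} (hv : v ∈ sect) (hs : s ∈ P) (hsz : Commute s z)
    (hsA : Acts z Q p s (rho v)) (ha : a ∈ Q) (ha1 : bb (p a) 1 = false) :
    s * a * s⁻¹ * a⁻¹ = sg z (bb v (p a)) * sg X (bb v (p a)) := by
  rw [F.comm_form hv hs hsz hsA ha ha1, F.zc_pairing hv hs hsz hsA ha ha1, F.L_eq hv (F.sys.lt a ha) ha1]

/-- The squares. -/
theorem sq_eq {s : G} {v : Nat} (hv : v ∈ sect) (hs : s ∈ P) (hsz : Commute s z)
    (hsA : Acts z Q p s (rho v)) : s * s = sg X (qb v) := by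
  obtain ⟨b, hb, hpb⟩ := F.sys.surj 2 (by norm_num)
  set r := s * b * s⁻¹ * b⁻¹ with hr
  have hrQ : r ∈ Q := Q.mul_mem (F.sys.large.conj_mem hsz hb) (Q.inv_mem hb)
  have hpr : p r = v ^^^ (bif qb v then 1 else 0) := by
    rw [hr, F.sys.map_mul _ (F.sys.large.conj_mem hsz hb) _ (Q.inv_mem hb), F.sys.p_inv hb, hsA.2 b hb, hpb]
    exact beq_iff_eq.1 (List.all_eq_true.1 rho_partner v hv)
  obtain ⟨hv64, hv1, -, -⟩ := sect_lt v hv
  have hr1 : bb (p r) 1 = false ∧ bb v (p r) = false ∧ qb (p r) = qb v := by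
    rw [hpr]
    exact (show ∀ v ∈ sect, bb (v ^^^ (bif qb v then 1 else 0)) 1 = false ∧
      bb v (v ^^^ (bif qb v then 1 else 0)) = false ∧ qb (v ^^^ (bif qb v then 1 else 0)) = qb v by
        decide +kernel) v hv
  have e1 : s * r * s⁻¹ = r := by
    have := F.commutator_eq hv hs hsz hsA hrQ hr1.1
    rw [hr1.2.1] at this
    exact mul_inv_eq_one.1 (this.trans (one_mul (1 : G)))
  have e2 : s * s * b * (s * s)⁻¹ = sg z (qb v) * b := by
    calc s * s * b * (s * s)⁻¹ = s * (r * b) * s⁻¹ := by rw [hr]; group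
      _ = s * r * s⁻¹ * (s * b * s⁻¹) := by group
      _ = r * (r * b) := by rw [e1, hr]; group
      _ = _ := by rw [← mul_assoc, F.sys.sq r hrQ, hr1.2.2]
  have e3 := F.sys'.sq s hs
  rw [e3] at e2 ⊢
  generalize qb (p (k⁻¹ * s * k)) = i at e2 ⊢
  cases i
  · rw [show sg X false = 1 from rfl] at e2 ⊢
    rw [one_mul, inv_one, mul_one, eq_comm, mul_eq_right] at e2
    rw [F.sys.sg_inj (b := false) e2]
    rfl
  · have h1 := F.sys.conj_eq hb F.memQ
    rw [hpb, F.px, show bb 1 2 = true by decide +kernel] at h1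
    change X * b * X⁻¹ = _ at e2
    rw [h1, (F.sys.sg_comm (F.sys.large.commute_z hb) true).eq, mul_left_inj] at e2
    rw [← F.sys.sg_inj (a := true) e2]

end Frame

end CfsgLib.Recog.CoOneType
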