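import Cfsg.Agent.Lib.Recog.CoOneType.System
import Cfsg.Agent.Lib.PGroups.Extraspecial

/-!
Two orthogonal conjugates of the central involution and the commutators of their extraspecial groups
(owner: helper12; after the Suzuki-type file of helper20).
-/

set_option autoImplicit false
set_option linter.unusedSectionVars false
set_option linter.unusedVariables false
set_option quotPrecheck false
set_option linter.style.haveILetI false

namespace CfsgLib.Recog.CoOneType

open CfsgLib.ThreeTrans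

variable {G : Type*} [Group G] [Finite G]

/-- A normalized pair: `x = k * z * k⁻¹` lies in `Q`, `z` in its conjugate by `k`. -/
structure Frame (z : G) (Q : Subgroup G) (p : G → Nat) (k : G) : Prop where
  sys : Sys z Q p
  memQ : k * z * k⁻¹ ∈ Q
  memP : k⁻¹ * z * k ∈ Q
  px : p (k * z * k⁻¹) = 1
  pz : p (k⁻¹ * z * k) = 1

theorem mem_conjMap {Q : Subgroup G} {k a : G} :
    a ∈ Q.map (MulAut.conj k).toMonoidHom ↔ k⁻¹ * a * k ∈ Q := by
  rw [Subgroup.mem_map_equiv]
  rfl

/-- Isometries preserve the polar form. -/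
theorem Iso.bb_app {A : List Nat} (hA : Iso A) {a b : Nat} (ha : a < 256) (hb : b < 256) :
    bb (app A a) (app A b) = bb a b := by
  unfold bb
  rw [← app_xor, (hA.2 _ (lt_xor ha hb)).2, (hA.2 a ha).2, (hA.2 b hb).2]

namespace Frame

variable {z : G} {Q : Subgroup G} {p : G → Nat} {k : G} (F : Frame z Q p k)
include F

local notation "X" => k * z * k⁻¹
local notation "P" => Q.map (MulAut.conj k).toMonoidHom
local notation "p'" => fun a => p (k⁻¹ * a * k)

theorem sys' : Sys X P p' := F.sys.conj k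

theorem z_memP : z ∈ P := mem_conjMap.2 F.memP

theorem swap : Frame X P p' k⁻¹ := by
  refine ⟨F.sys', ?_, ?_, ?_, ?_⟩
  · rw [show k⁻¹ * X * k⁻¹⁻¹ = z by group]; exact F.z_memP
  · rw [mem_conjMap, show k⁻¹ * (k⁻¹⁻¹ * X * k⁻¹) * k = X by group]; exact F.memQ
  · show p (k⁻¹ * (k⁻¹ * X * k⁻¹⁻¹) * k) = 1
    rw [show k⁻¹ * (k⁻¹ * X * k⁻¹⁻¹) * k = k⁻¹ * z * k by group]
    exact F.pz
  · show p (k⁻¹ * (k⁻¹⁻¹ * X * k⁻¹) * k) = 1
    rw [show k⁻¹ * (k⁻¹⁻¹ * X * k⁻¹) * k = X by group]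
    exact F.px

theorem x_ne_z : X ≠ z := fun e => by
  have := F.px
  rw [e, F.sys.z0] at this
  exact zero_ne_one this

theorem comm_x {a : G} (ha : a ∈ Q) : Commute a X ↔ bb (p a) 1 = false := by
  rw [F.sys.commute_iff ha F.memQ, F.px]

theorem z_comm_x : Commute z X := (F.sys.large.commute_z F.memQ).symm

theorem pair_mem (i j : Bool) : sg z i * sg X j ∈ Q ∧ sg z i * sg X j ∈ P := by
  refine ⟨Q.mul_mem (F.sys.sg_mem i) ?_, Subgroup.mul_mem _ ?_ (F.sys'.sg_mem j)⟩
  · cases j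
    exacts [Q.one_mem, F.memQ]
  · cases i
    exacts [Subgroup.one_mem _, F.z_memP]

theorem p_pair (i j : Bool) : p (sg z i * sg X j) = bif j then 1 else 0 := by
  have hx : sg X j ∈ Q := by
    cases j
    exacts [Q.one_mem, F.memQ]
  rw [F.sys.map_mul _ (F.sys.sg_mem i) _ hx, F.sys.p_sg, Nat.zero_xor]
  cases j
  exacts [F.sys.p_one, F.px]

theorem pair_inj {i j i' j' : Bool} (e : sg z i * sg X j = sg z i' * sg X j') : i = i' ∧ j = j' := by
  have h1 := congrArg p e
  rw [F.p_pair, F.p_pair] at h1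
  obtain rfl : j = j' := by cases j <;> cases j' <;> simp_all
  exact ⟨F.sys.sg_inj (mul_right_cancel e), rfl⟩

theorem pair_comm {c : G} (hz : Commute c z) (hx : Commute c X) (i j : Bool) : Commute c (sg z i * sg X j) :=
  (F.sys.sg_comm hz i).mul_right (F.sys'.sg_comm hx j)

theorem pair_mul (i j i' j' : Bool) :
    sg z i * sg X j * (sg z i' * sg X j') = sg z (i ^^ i') * sg X (j ^^ j') := by
  have hc : Commute (sg X j) (sg z i') :=
    F.sys.sg_comm ((F.sys'.sg_comm F.z_comm_x j).symm) i'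
  rw [mul_assoc (sg z i), ← mul_assoc (sg X j), hc.eq, mul_assoc (sg z i'), F.sys'.sg_mul, ← mul_assoc,
    F.sys.sg_mul]

/-- The two extraspecial groups meet in the four-group of `z` and `x`. -/
theorem inter {a : G} (ha : a ∈ Q) (ha' : a ∈ P) : ∃ i j, a = sg z i * sg X j := by
  have hax : bb (p a) 1 = false := (F.comm_x ha).1 (F.sys'.large.commute_z ha')
  have hcase : p a = 0 ∨ p a = 1 := by
    have hq : qb (p a) = false := by
      by_contra hne
      have e : a * a = z := by rw [F.sys.sq a ha, Bool.of_not_eq_false hne]; rfl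
      have e' := F.sys'.sq a ha'
      rw [e] at e'
      generalize qb (p (k⁻¹ * a * k)) = b at e'
      cases b
      · exact F.sys.large.z_ne_one e'
      · exact F.x_ne_z e'.symm
    have hf := List.all_eq_true.1 fixers_move _ (List.mem_range.2 (F.sys.lt a ha))
    simp only [Bool.or_eq_true, beq_iff_eq, hq, hax, Bool.false_eq_true, or_false, List.any_eq_true] at hf
    rcases hf with (e | e) | ⟨w, hw, hmove⟩
    · exact Or.inl e
    · exact Or.inr e
    exfalso
    obtain ⟨hlen, c, hc⟩ := F.sys.acts_word w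
    have hfix : app (wmap w) 1 = 1 := beq_iff_eq.1 (List.all_eq_true.1 fixers_fix w hw)
    obtain ⟨b, hb, hbc⟩ : ∃ b ∈ Q, Commute (b * c) X := by
      obtain ⟨i, e⟩ := F.sys.eq_of_p (F.sys.large.conj_mem hc.1 F.memQ) F.memQ
        (by rw [hc.2 _ F.memQ, F.px, hfix])
      cases i
      · refine ⟨1, Q.one_mem, ?_⟩
        rw [one_mul]
        rw [show sg z false = 1 from rfl, mul_one] at e
        exact (mul_inv_eq_iff_eq_mul.1 e.symm)
      · obtain ⟨q, hq1, hq2⟩ := F.sys.surj 2 (by norm_num)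
        refine ⟨q, hq1, mul_inv_eq_iff_eq_mul.1 ?_⟩
        rw [show q * c * X * (q * c)⁻¹ = q * (c * X * c⁻¹) * q⁻¹ by group,
          F.sys.conj_eq (F.sys.large.conj_mem hc.1 F.memQ) hq1, hq2, hc.2 _ F.memQ, F.px, hfix,
          show bb 2 1 = true by decide +kernel]
        exact e.symm
    have hbz : Commute (b * c) z := (F.sys.large.commute_z hb).mul_left hc.1
    have h1 : b * c * a * (b * c)⁻¹ ∈ Q := F.sys.large.conj_mem hbz ha
    have h2 : b * c * a * (b * c)⁻¹ ∈ P := F.sys'.large.conj_mem hbc ha'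
    have e1 := F.sys.comm ha h1
    rw [show b * c * a * (b * c)⁻¹ = b * (c * a * c⁻¹) * b⁻¹ by group,
      F.sys.p_conj_q (F.sys.large.conj_mem hc.1 ha) hb, hc.2 a ha, hmove] at e1
    rw [show b * (c * a * c⁻¹) * b⁻¹ = b * c * a * (b * c)⁻¹ by group] at e1
    have e2 := F.sys'.comm ha' h2
    rw [e1] at e2
    generalize bb _ _ = i at e2
    cases i
    · exact F.sys.large.z_ne_one e2
    · exact F.x_ne_z e2.symm
  rcases hcase with e | e
  · obtain ⟨i, hi⟩ := F.sys.eq_of_p Q.one_mem ha (by rw [F.sys.p_one, e])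
    exact ⟨i, false, by rw [hi, one_mul]; exact (mul_one _).symm⟩
  · obtain ⟨i, hi⟩ := F.sys.eq_of_p F.memQ ha (by rw [F.px, e])
    refine ⟨i, true, hi.trans ?_⟩
    exact (F.sys.sg_comm (F.z_comm_x.symm) i).eq

theorem inter_p {a : G} (ha : a ∈ Q) (ha' : a ∈ P) : p a = 0 ∨ p a = 1 := by
  obtain ⟨i, j, rfl⟩ := F.inter ha ha'
  rw [F.p_pair]
  cases j <;> simp

/-! ### The part of `P` in the centralizer of `z` -/

theorem comm_mem {s a : G} (hs : s ∈ P) (hsz : Commute s z) (ha : a ∈ Q) (hax : Commute a X) :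
    s * a * s⁻¹ * a⁻¹ ∈ Q ∧ s * a * s⁻¹ * a⁻¹ ∈ P := by
  refine ⟨Q.mul_mem (F.sys.large.conj_mem hsz ha) (Q.inv_mem ha), ?_⟩
  rw [show s * a * s⁻¹ * a⁻¹ = s * (a * s⁻¹ * a⁻¹) by group]
  exact Subgroup.mul_mem _ hs (F.sys'.large.conj_mem hax (Subgroup.inv_mem _ hs))

theorem exists_rho {s : G} (hs : s ∈ P) (hsz : Commute s z) : ∃ v ∈ sect, Acts z Q p s (rho v) := by
  obtain ⟨A, hA, hsA⟩ := F.sys.exists_acts hsz
  obtain ⟨a0, a1, a2, a3, a4, a5, a6, a7, rfl⟩ :
      ∃ a0 a1 a2 a3 a4 a5 a6 a7, A = [a0, a1, a2, a3, a4, a5, a6, a7] := by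
    match A, hA.1 with
    | [a0, a1, a2, a3, a4, a5, a6, a7], _ => exact ⟨a0, a1, a2, a3, a4, a5, a6, a7, rfl⟩
  have happ : ∀ n < 256, bb n 1 = false → app [a0, a1, a2, a3, a4, a5, a6, a7] n = n ∨
      app [a0, a1, a2, a3, a4, a5, a6, a7] n = n ^^^ 1 := by
    intro n hn hn1
    obtain ⟨a, ha, rfl⟩ := F.sys.surj n hn
    have hm := F.comm_mem hs hsz ha ((F.comm_x ha).2 hn1)
    have hp := F.inter_p hm.1 hm.2
    rw [F.sys.map_mul _ (F.sys.large.conj_mem hsz ha) _ (Q.inv_mem ha), F.sys.p_inv ha, hsA.2 a ha] at hp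
    rcases hp with e | e
    · exact Or.inl (Nat.xor_eq_zero_iff.1 e)
    · refine Or.inr ?_
      rw [← e, Nat.xor_comm, Nat.xor_assoc, Nat.xor_self, Nat.xor_zero]
  have e0 : a0 = 1 := by
    have h1 := hsA.2 _ F.memQ
    rw [mul_inv_eq_iff_eq_mul.2 (F.sys'.large.commute_z hs).eq, F.px] at h1
    simpa [app, term, Nat.testBit, Nat.shiftRight_eq_div_pow] using h1.symm
  subst e0
  have g : ∀ i < 8, app [1, a1, a2, a3, a4, a5, a6, a7] (2 ^ i) = [1, a1, a2, a3, a4, a5, a6, a7].getD i 0 := by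
    intro i hi
    interval_cases i <;> simp [app, term, Nat.testBit, Nat.shiftRight_eq_div_pow]
  have hk : ∀ i, 2 ≤ i → i < 8 → ∃ b : Bool,
      [1, a1, a2, a3, a4, a5, a6, a7].getD i 0 = 2 ^ i ^^^ (bif b then 1 else 0) := by
    intro i h2 h8
    have hlt : 2 ^ i < 256 ∧ bb (2 ^ i) 1 = false := by interval_cases i <;> decide +kernel
    rcases happ _ hlt.1 hlt.2 with e | e <;> rw [g i h8] at e
    · exact ⟨false, by rw [e]; exact (Nat.xor_zero _).symm⟩
    · exact ⟨true, e⟩
  obtain ⟨k2, e2⟩ := hk 2 le_rfl (by norm_num)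
  obtain ⟨k3, e3⟩ := hk 3 (by norm_num) (by norm_num)
  obtain ⟨k4, e4⟩ := hk 4 (by norm_num) (by norm_num)
  obtain ⟨k5, e5⟩ := hk 5 (by norm_num) (by norm_num)
  obtain ⟨k6, e6⟩ := hk 6 (by norm_num) (by norm_num)
  obtain ⟨k7, e7⟩ := hk 7 (by norm_num) (by norm_num)
  simp only [List.getD_cons_succ, List.getD_cons_zero] at e2 e3 e4 e5 e6 e7
  have v1 := g 1 (by norm_num)
  have hq := (hA.2 2 (by norm_num))
  simp only [pow_one, List.getD_cons_succ, List.getD_cons_zero] at v1
  rw [v1] at hq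
  have hb : ∀ i, 2 ≤ i → i < 8 → bb a1 ([1, a1, a2, a3, a4, a5, a6, a7].getD i 0) = false := by
    intro i h2 h8
    have hlt : 2 ^ i < 256 ∧ bb 2 (2 ^ i) = false := by interval_cases i <;> decide +kernel
    have := hA.bb_app (a := 2) (b := 2 ^ i) (by norm_num) hlt.1
    rwa [v1, g i h8, hlt.2] at this
  have hb1 : bb a1 1 = true := by
    have := hA.bb_app (a := 2) (b := 1) (by norm_num) (by norm_num)
    rw [v1, show app [1, a1, a2, a3, a4, a5, a6, a7] 1 = 1 from g 0 (by norm_num)] at this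
    rw [this]
    decide +kernel
  have b2 := hb 2 le_rfl (by norm_num)
  have b3 := hb 3 (by norm_num) (by norm_num)
  have b4 := hb 4 (by norm_num) (by norm_num)
  have b5 := hb 5 (by norm_num) (by norm_num)
  have b6 := hb 6 (by norm_num) (by norm_num)
  have b7 := hb 7 (by norm_num) (by norm_num)
  simp only [List.getD_cons_succ, List.getD_cons_zero] at b2 b3 b4 b5 b6 b7
  simp only [Nat.reducePow] at e2 e3 e4 e5 e6 e7
  rw [e2] at b2; rw [e3] at b3; rw [e4] at b4; rw [e5] at b5; rw [e6] at b6; rw [e7] at b7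
  have hB : siegelB a1 k2 k3 k4 k5 k6 k7 = true := by
    have hq2 : qb a1 = false := hq.2.trans (by decide +kernel)
    simp [siegelB, hq2, hb1, b2, b3, b4, b5, b6, b7]
  have hc := List.all_eq_true.1 (siegel_ok k2 k3 k4 k5 k6 k7) a1 (List.mem_range.2 hq.1)
  rw [hB] at hc
  simp only [Bool.not_true, Bool.false_or, beq_iff_eq] at hc
  refine ⟨(a1 ^^^ 2) &&& 252, reduce_mem _ (lt_xor hq.1 (by norm_num)), ?_⟩
  rw [← hc]
  rw [e2, e3, e4, e5, e6, e7] at hsA
  exact hsA

theorem rho_len (v : Nat) : (rho v).length = 8 := List.length_map _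

theorem rho_unique {s : G} {v w : Nat} (hv : v ∈ sect) (hw : w ∈ sect) (h1 : Acts z Q p s (rho v))
    (h2 : Acts z Q p s (rho w)) : v = w := by
  have e := F.sys.acts_unique (F.rho_len v) (F.rho_len w) h1 h2
  have e1 := List.all_eq_true.1 rho_inj v hv
  have e2 := List.all_eq_true.1 rho_inj w hw
  rw [beq_iff_eq] at e1 e2
  rw [← e1, e, e2]

theorem rho_mul {s t : G} {v w : Nat} (hv : v ∈ sect) (hw : w ∈ sect) (h1 : Acts z Q p s (rho v))
    (h2 : Acts z Q p t (rho w)) : Acts z Q p (s * t) (rho (v ^^^ w)) := by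
  have h := F.sys.acts_mul (F.rho_len w) h1 h2
  have e := List.all_eq_true.1 (List.all_eq_true.1 rho_comp v hv) w hw
  rw [beq_iff_eq] at e
  rwa [e] at h


theorem card_part : Nat.card (P ⊓ Subgroup.centralizer ({z} : Set G) : Subgroup G) = 256 := by
  haveI : Fact (Nat.Prime 2) := ⟨Nat.prime_two⟩
  have hne : (⟨z, F.z_memP⟩ : P) ∉ Subgroup.center P := by
    rw [F.sys'.large.center_mem_iff]
    intro hc
    rcases F.sys'.large.eq_or hc with e | e
    · exact F.sys.large.z_ne_one e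
    · exact F.x_ne_z e.symm
  have h1 := CfsgLib.PGroups.IsExtraspecial.index_centralizer_singleton F.sys'.large.hE hne
  have h2 := (Subgroup.centralizer ({(⟨z, F.z_memP⟩ : P)} : Set P)).card_mul_index
  rw [h1, F.sys'.card] at h2
  have e : (P ⊓ Subgroup.centralizer ({z} : Set G)).subgroupOf P =
      Subgroup.centralizer ({(⟨z, F.z_memP⟩ : P)} : Set P) := by
    ext q
    rw [Subgroup.mem_subgroupOf, Subgroup.mem_inf, Subgroup.mem_centralizer_singleton_iff,
      Subgroup.mem_centralizer_singleton_iff]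
    exact ⟨fun hq => Subtype.ext hq.2, fun hq => ⟨q.2, congrArg Subtype.val hq⟩⟩
  rw [← Nat.card_congr (Subgroup.subgroupOfEquivOfLe (inf_le_left :
    P ⊓ Subgroup.centralizer ({z} : Set G) ≤ P)).toEquiv, e]
  omega

/-- Every Siegel element at the first vector is induced from `P`. -/
theorem exists_s {v : Nat} (hv : v ∈ sect) : ∃ s ∈ P, Commute s z ∧ Acts z Q p s (rho v) := by
  classical
  set S := P ⊓ Subgroup.centralizer ({z} : Set G) with hSdef
  haveI := Fintype.ofFinite S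
  have hS : ∀ s : S, (s : G) ∈ P ∧ Commute (s : G) z := fun s =>
    ⟨s.2.1, mem_centralizer_singleton_iff'.1 s.2.2⟩
  choose f hf hfA using fun s : S => F.exists_rho (hS s).1 (hS s).2
  have hfib : ∀ n ∈ (Finset.univ : Finset S).image f,
      ((Finset.univ : Finset S).filter fun s => f s = n).card ≤ 4 := by
    intro n hn
    obtain ⟨s0, -, rfl⟩ := Finset.mem_image.1 hn
    refine le_trans (Finset.card_le_card_of_injOn (t := ({1, z, k * z * k⁻¹, z * (k * z * k⁻¹)} : Finset G))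
      (fun s => ((s0 : G))⁻¹ * (s : G)) ?_ ?_) Finset.card_le_four
    · intro s hs
      have hs' := (Finset.mem_filter.1 hs).2
      have h1 : (s0 : G)⁻¹ * s ∈ Q := F.sys.inv_mul_mem (hfA s0) (by rw [← hs']; exact hfA s)
      obtain ⟨i, j, e⟩ := F.inter h1 (Subgroup.mul_mem _ (Subgroup.inv_mem _ (hS s0).1) (hS s).1)
      simp only [Finset.coe_insert, Finset.coe_singleton, Set.mem_insert_iff, Set.mem_singleton_iff]
      rw [e]
      cases i <;> cases j <;> simp [sg]
    · intro s _ t _ e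
      exact Subtype.ext (mul_left_cancel e)
  have hle := Finset.card_le_mul_card_image (Finset.univ : Finset S) 4 hfib
  rw [Finset.card_univ, ← Nat.card_eq_fintype_card, F.card_part] at hle
  have hsub : (Finset.univ : Finset S).image f ⊆ sect.toFinset := by
    intro n hn
    obtain ⟨s, -, rfl⟩ := Finset.mem_image.1 hn
    exact List.mem_toFinset.2 (hf s)
  have hc : sect.toFinset.card ≤ 64 := le_trans (List.toFinset_card_le _) (by decide)
  have heq := Finset.eq_of_subset_of_card_le hsub (by omega)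
  obtain ⟨s, -, hs⟩ := Finset.mem_image.1 (heq.ge (List.mem_toFinset.2 hv))
  exact ⟨s, (hS s).1, (hS s).2, hs ▸ hfA s⟩

end Frame

end CfsgLib.Recog.CoOneType
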