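import Cfsg.Agent.Lib.Recog.CoOneType.MidSylowFacts

/-!
The words conjugating the involutions of the Sylow subgroup to standard maps (owner: helper12).
-/

set_option autoImplicit false
set_option maxRecDepth 100000
set_option Elab.async false

namespace CfsgLib.Recog.CoOneType

theorem invol_ok : invol.all (fun r => decide (r.2.2.1 < 5) && comp (wmap r.2.2.2) (comp (rho r.1) (midAt r.2.1)) ==
    comp (rep r.2.2.1) (wmap r.2.2.2)) = true := by decide +kernel

theorem rep_len : ∀ i < 5, (rep i).length = 8 ∧ rep i ≠ one := by decide +kernel

theorem rep_fix : ∀ i < 5, 16 ≤ ((List.range 256).filter (fixB (rep i))).length := by decide +kernel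

end CfsgLib.Recog.CoOneType
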