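import Cfsg.Agent.Lib.Recog.CoOneType.Facts

/-!
Finite facts on the lifts of the two Siegel maps (owner: helper12).
-/

set_option autoImplicit false
set_option maxRecDepth 100000
set_option Elab.async false

namespace CfsgLib.Recog.CoOneType

/-- The vectors fixed by a Siegel map. -/
def fixList (v : Nat) : List Nat := (List.range 256).filter (fixB (rho v))

theorem fix_perp : [4, 12].all (fun v => (fixList v).all fun n => !bb n 1 && !bb v n) = true := by decide +kernel

theorem lift_perp : [4, 12].all (fun v => (fixList v).all fun n =>
    ((fixList v).any fun y => bb n y) || imB (rho v) n) = true := by decide +kernel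

theorem near_fuse : (fixList 4).all (fun a => qb a || ((fixList 4).all fun y => !bb a y) ||
    ufusers.any fun w => (fixList 4).all fun y => bb a y == bb 16 (app (wmap w) y)) = true := by decide +kernel

theorem far_fuse : (fixList 12).all (fun a => !(qb a == bb 52 a) ||
    fusers.any fun w => (fixList 12).all fun y => bb (52 ^^^ a) y == bb 52 (app (wmap w) y)) = true := by
  decide +kernel

theorem ufusers_ok : ufusers.all (fun w => comp (wmap w) (rho 4) == comp (rho 4) (wmap w)) = true := by decide +kernel

theorem fusers_ok : fusers.all (fun w => comp (wmap w) (rho 12) == comp (rho 12) (wmap w)) = true := by decide +kernel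

theorem lift_numbers : 4 ∈ sect ∧ 12 ∈ sect ∧ qb 4 = false ∧ qb 12 = true ∧ qb 16 = false ∧ qb 52 = true ∧
    bb 16 1 = false ∧ bb 52 1 = false ∧ bb 4 16 = false ∧ bb 12 52 = true ∧ bb 16 32 = true ∧ bb 52 16 = true ∧
    app (rho 4) 16 = 16 ∧ app (rho 4) 32 = 32 ∧ app (rho 12) 16 = 16 ∧ bb 12 16 = false ∧
    comp (rho 4) one = rho 4 ∧ comp (rho 12) one = rho 12 := by decide +kernel

end CfsgLib.Recog.CoOneType
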