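import Cfsg.Agent.Lib.Recog.CoOneType.Sylow
import Cfsg.Agent.Lib.Recog.CoOneType.LiftFacts

/-!
The involutions inducing the two Siegel maps: the lifts of the singular one are conjugate to `z` or to one
element, those of the nonsingular one to a further element (owner: helper12).
-/

set_option autoImplicit false
set_option linter.unusedSectionVars false
set_option linter.unusedVariables false
set_option quotPrecheck false
set_option linter.style.haveILetI false

namespace CfsgLib.Recog.CoOneType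

open CfsgLib.ThreeTrans

variable {G : Type*} [Group G] [Finite G] {z : G} {Q : Subgroup G} {p : G → Nat} {k : G}

/-- `t` acts on the lifts of the fixed vectors of `rho v` by the functional of `m`. -/
def Fn (z : G) (Q : Subgroup G) (p : G → Nat) (v : Nat) (t : G) (m : Nat) : Prop :=
  ∀ a ∈ Q, app (rho v) (p a) = p a → t * a * t⁻¹ = a * sg z (bb m (p a))

/-- The element over the singular Siegel map outside the class of `z`. -/
noncomputable def uEl (z : G) (Q : Subgroup G) (p : G → Nat) (k : G) : G := sOf z Q p k 4 * aOf Q p 16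

/-- The element over the nonsingular Siegel map. -/
noncomputable def wEl (z : G) (Q : Subgroup G) (p : G → Nat) (k : G) : G := sOf z Q p k 12 * aOf Q p 52

/-- Conjugate to one of the three standard involutions. -/
def Tame (z : G) (Q : Subgroup G) (p : G → Nat) (k : G) (t : G) : Prop :=
  IsConj z t ∨ IsConj (uEl z Q p k) t ∨ IsConj (wEl z Q p k) t

theorem Tame.trans {t t' : G} (h : Tame z Q p k t) (e : IsConj t t') : Tame z Q p k t' :=
  h.imp (fun a => a.trans e) (Or.imp (fun a => a.trans e) (fun a => a.trans e))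

theorem mem_fixList {v n : Nat} : n ∈ fixList v ↔ n < 256 ∧ app (rho v) n = n := by
  simp [fixList, fixB]

namespace Sys

variable (h : Sys z Q p)
include h

theorem fn_shift {v m : Nat} {t q : G} (htz : Commute t z) (ht : Fn z Q p v t m) (hq : q ∈ Q) :
    Fn z Q p v (t * q) (m ^^^ p q) := by
  intro a ha hf
  rw [show t * q * a * (t * q)⁻¹ = t * (q * a * q⁻¹) * t⁻¹ by group, h.conj_eq ha hq,
    show t * (a * sg z (bb (p q) (p a))) * t⁻¹ = t * a * t⁻¹ * (t * sg z (bb (p q) (p a)) * t⁻¹) by group,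
    ht a ha hf, (h.sg_comm htz _).eq, mul_inv_cancel_right, mul_assoc, h.sg_mul, ← bb_xor_left]

theorem fn_conj {v m m' : Nat} {t d : G} {W : List Nat} (hv : v ∈ sect) (hl : W.length = 8)
    (htA : Acts z Q p t (rho v)) (ht : Fn z Q p v t m) (hd : Acts z Q p d W)
    (hcomm : comp W (rho v) = comp (rho v) W)
    (hm : ∀ y ∈ fixList v, bb m y = bb m' (app W y)) : Fn z Q p v (d * t * d⁻¹) m' := by
  intro u hu hy
  set a := d⁻¹ * u * d with ha'
  have ha : a ∈ Q := by
    have := h.large.conj_mem hd.1.inv_left hu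
    rwa [inv_inv] at this
  have hu' : u = d * a * d⁻¹ := by rw [ha']; group
  have hfix : app (rho v) (p a) = p a := by
    refine h.app_inj hd ?_ (h.lt a ha) ?_
    · rw [← htA.2 a ha]; exact h.lt _ (h.large.conj_mem htA.1 ha)
    · rw [← app_comp (length_rho v), hcomm, app_comp hl, ← hd.2 a ha, ← hu']
      exact hy
  have hb : bb m (p a) = bb m' (p u) := by
    rw [hm _ (mem_fixList.2 ⟨h.lt a ha, hfix⟩), hu', hd.2 a ha]
  calc d * t * d⁻¹ * u * (d * t * d⁻¹)⁻¹ = d * (t * a * t⁻¹) * d⁻¹ := by rw [ha']; group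
    _ = d * a * d⁻¹ * (d * sg z (bb m (p a)) * d⁻¹) := by rw [ht a ha hfix]; group
    _ = _ := by rw [← hu', (h.sg_comm hd.1 _).eq, mul_inv_cancel_right, hb]

/-- Two lifts with the same functional are conjugate up to `z`. -/
theorem fn_class {v m m1 : Nat} {t t1 : G} (hv : v ∈ [4, 12]) (ht1A : Acts z Q p t1 (rho v)) (ht11 : t1 * t1 = 1)
    (ht1 : Fn z Q p v t1 m1) (htA : Acts z Q p t (rho v)) (htt : t * t = 1) (ht : Fn z Q p v t m)
    (hm : ∀ y ∈ fixList v, bb m y = bb m1 y) : ∃ β ∈ Q, β * t1 * β⁻¹ = t ∨ β * t1 * β⁻¹ = t * z := by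
  obtain ⟨q, hq, rfl, hfix, e⟩ := h.coset ht11 htt ht1A htA
  have hs := h.fn_shift ht1A.1 ht1 hq
  have hperp : ∀ y ∈ fixList v, bb (p q) y = false := by
    intro y hy
    obtain ⟨hlt, hf⟩ := mem_fixList.1 hy
    obtain ⟨a, ha, rfl⟩ := h.surj y hlt
    have e1 := h.sg_inj (mul_left_cancel ((hs a ha hf).symm.trans (ht a ha hf)))
    rw [hm _ hy, bb_xor_left] at e1
    revert e1
    cases bb m1 (p a) <;> cases bb (p q) (p a) <;> simp
  have hp := List.all_eq_true.1 (List.all_eq_true.1 lift_perp v hv) (p q) (mem_fixList.2 ⟨h.lt q hq, hfix⟩)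
  have hno : ((fixList v).any fun y => bb (p q) y) = false := by
    rw [List.any_eq_false]
    intro y hy
    simp [hperp y hy]
  rw [hno, Bool.false_or] at hp
  exact h.conj_of_im ht11 ht1A hq hp

/-- A lift moving the lift of one of its fixed vectors is conjugate to its product with `z`. -/
theorem fn_toggle {v m n : Nat} {t : G} (htt : t * t = 1) (htz : Commute t z) (ht : Fn z Q p v t m)
    (hn : n < 256) (hf : app (rho v) n = n) (hb : bb m n = true) :
    ∃ β ∈ Q, p β = n ∧ β * t * β⁻¹ = t * z := by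
  obtain ⟨β, hβ, rfl⟩ := h.surj n hn
  have e := ht β hβ hf
  rw [hb, show sg z true = z from rfl] at e
  refine ⟨β, hβ, rfl, ?_⟩
  have e' : t * β * t⁻¹ * β⁻¹ = z := by rw [e, (h.large.commute_z hβ).eq, mul_inv_cancel_right]
  calc β * t * β⁻¹ = t * t * (β * t * β⁻¹) := by rw [htt, one_mul]
    _ = t * (t * β * t⁻¹ * β⁻¹) := by rw [inv_of_sq htt]; group
    _ = _ := by rw [e']

end Sys

namespace Frame

variable (F : Frame z Q p k)
include F

local notation "X" => k * z * k⁻¹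
local notation "P" => Q.map (MulAut.conj k).toMonoidHom
local notation "sS" => sOf z Q p k
local notation "uU" => uEl z Q p k
local notation "wW" => wEl z Q p k

theorem sOf_fn {v : Nat} (hv : v ∈ [4, 12]) : Fn z Q p v (sS v) 0 := by
  have hv' : v ∈ sect := (show ∀ v ∈ [4, 12], v ∈ sect by decide +kernel) v hv
  obtain ⟨h1, h2, h3⟩ := F.sOf_spec hv'
  intro a ha hf
  have h := List.all_eq_true.1 (List.all_eq_true.1 fix_perp v hv) (p a) (mem_fixList.2 ⟨F.sys.lt a ha, hf⟩)
  simp only [Bool.and_eq_true, Bool.not_eq_true'] at h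
  have e := F.commutator_eq hv' h1 h2 h3 ha h.1
  rw [h.2] at e
  rw [show bb 0 (p a) = false by rw [bb_comm, bb_zero], show sg z false = 1 from rfl, mul_one]
  exact mul_inv_eq_one.1 (e.trans (one_mul (1 : G)))

/-- The lift in `P`. -/
theorem near_base : sS 4 ∈ P ∧ Acts z Q p (sS 4) (rho 4) ∧ sS 4 * sS 4 = 1 ∧ Fn z Q p 4 (sS 4) 0 ∧
    IsConj z (sS 4) ∧ IsConj z (sS 4 * z) := by
  obtain ⟨h4, -⟩ := lift_numbers
  obtain ⟨hs, hsz, hsA⟩ := F.sOf_spec h4
  have hss : sS 4 * sS 4 = 1 := by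
    rw [F.sq_eq h4 hs hsz hsA, show qb 4 = false by decide +kernel]; rfl
  have hsQ : sS 4 ∉ Q := F.sys.not_mem_of_acts (length_rho 4) hsA (by decide +kernel)
  have hzx : IsConj z X := isConj_iff.2 ⟨k, rfl⟩
  have F' := F.swap
  refine ⟨hs, hsA, hss, F.sOf_fn (by simp), hzx.trans (F'.inner hs hss (fun e => hsQ (e ▸ Q.one_mem))
      (fun e => hsQ (e ▸ F.memQ))), hzx.trans (F'.inner (Subgroup.mul_mem _ hs F.z_memP) ?_ ?_ ?_)⟩
  · rw [show sS 4 * z * (sS 4 * z) = sS 4 * (z * sS 4) * z by group, ← hsz.eq, ← mul_assoc, hss, one_mul,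
      F.sys.large.mul_self_z]
  · intro e
    exact hsQ (by rw [mul_eq_one_iff_eq_inv.1 e]; exact Q.inv_mem F.sys.large.z_mem)
  · intro e
    exact hsQ (by rw [eq_mul_inv_of_mul_eq e]; exact Q.mul_mem F.memQ (Q.inv_mem F.sys.large.z_mem))

theorem uEl_spec : Acts z Q p uU (rho 4) ∧ uU * uU = 1 ∧ Fn z Q p 4 uU 16 := by
  obtain ⟨hs, hsA, hss, hfn, -, -⟩ := F.near_base
  obtain ⟨hr, hpr⟩ := F.aOf_spec (show (16 : Nat) < 256 by norm_num)
  obtain ⟨-, -, -, -, q16, -, b161, -, b416, -, -, -, f16, -, -, -, c4, -⟩ := lift_numbers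
  have hA : Acts z Q p uU (rho 4) := by
    have := F.sys.acts_mul (show one.length = 8 from rfl) hsA (F.sys.acts_of_mem hr)
    rwa [c4] at this
  have e := hfn _ hr (by rw [hpr]; exact f16)
  rw [show bb 0 (p (aOf Q p 16)) = false by rw [bb_comm, bb_zero], show sg z false = 1 from rfl, mul_one] at e
  refine ⟨hA, ?_, ?_⟩
  · calc uU * uU = sS 4 * aOf Q p 16 * (sS 4)⁻¹ * (sS 4 * sS 4) * aOf Q p 16 := by rw [uEl]; group
      _ = 1 := by rw [e, hss, mul_one, F.sys.sq _ hr, hpr, q16]; rfl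
  · have := F.sys.fn_shift hsA.1 hfn hr
    rwa [hpr, Nat.zero_xor] at this

theorem wEl_spec : Acts z Q p wW (rho 12) ∧ wW * wW = 1 ∧ Fn z Q p 12 wW 52 := by
  obtain ⟨-, h12, -, q12, -, q52, -, b521, -, b1252, -, -, -, -, -, -, -, c12⟩ := lift_numbers
  obtain ⟨hs, hsz, hsA⟩ := F.sOf_spec h12
  obtain ⟨hr, hpr⟩ := F.aOf_spec (show (52 : Nat) < 256 by norm_num)
  set s := sS 12 with hsdef
  set r := aOf Q p 52 with hrdef
  have hr1 : bb (p r) 1 = false := by rw [hpr]; exact b521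
  have hrx := (F.comm_x hr).2 hr1
  have hA : Acts z Q p wW (rho 12) := by
    have := F.sys.acts_mul (show one.length = 8 from rfl) hsA (F.sys.acts_of_mem hr)
    rwa [c12] at this
  refine ⟨hA, ?_, ?_⟩
  · have e := F.commutator_eq h12 hs hsz hsA hr hr1
    rw [hpr, b1252, mul_inv_eq_iff_eq_mul] at e
    have e2 := F.sq_eq h12 hs hsz hsA
    rw [q12] at e2
    have e3 := F.sys.sq r hr
    rw [hpr, q52] at e3
    change r * r = z at e3
    change s * s = X at e2
    change s * r * s⁻¹ = z * X * r at e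
    show s * r * (s * r) = 1
    calc s * r * (s * r) = s * r * s⁻¹ * (s * s) * r := by group
      _ = z * (X * (r * X)) * r := by rw [e, e2]; simp only [mul_assoc]
      _ = z * (r * r) := by
          rw [hrx.eq, ← mul_assoc X X, F.sys'.large.mul_self_z, one_mul, mul_assoc]
      _ = 1 := by rw [e3, F.sys.large.mul_self_z]
  · have := F.sys.fn_shift hsz (F.sOf_fn (v := 12) (by simp)) hr
    rwa [hpr, Nat.zero_xor] at this

/-- An involution inducing the singular Siegel map. -/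
theorem near_class {t : G} (hA : Acts z Q p t (rho 4)) (htt : t * t = 1) :
    (IsConj z t ∧ Fn z Q p 4 t 0) ∨ ∃ c, Commute c z ∧ c * uU * c⁻¹ = t := by
  obtain ⟨hs, hsA, hss, hfn, hzs, hzsz⟩ := F.near_base
  obtain ⟨q, hq, rfl, hf, e⟩ := F.sys.coset hss htt hsA hA
  have e1 := hfn q hq hf
  rw [show bb 0 (p q) = false by rw [bb_comm, bb_zero]] at e1
  have hqb : qb (p q) = false := F.sys.sg_inj (mul_left_cancel (e.symm.trans e1))
  have ht : Fn z Q p 4 (sS 4 * q) (p q) := by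
    have := F.sys.fn_shift hsA.1 hfn hq
    rwa [Nat.zero_xor] at this
  have h := List.all_eq_true.1 near_fuse (p q) (mem_fixList.2 ⟨F.sys.lt q hq, hf⟩)
  simp only [hqb, Bool.false_or, Bool.or_eq_true, List.any_eq_true, List.all_eq_true, Bool.not_eq_true',
    beq_iff_eq] at h
  rcases h with h | ⟨w, hw, hm⟩
  · left
    refine ⟨?_, fun a ha hfa => by
      rw [ht a ha hfa, h _ (mem_fixList.2 ⟨F.sys.lt a ha, hfa⟩), bb_comm 0, bb_zero]⟩
    obtain ⟨β, hβ, e' | e'⟩ := F.sys.fn_class (by simp) hsA hss hfn hA htt ht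
      (fun y hy => by rw [h y hy, bb_comm, bb_zero])
    · exact hzs.trans (isConj_iff.2 ⟨β, e'⟩)
    · refine hzsz.trans (isConj_iff.2 ⟨β, ?_⟩)
      rw [show β * (sS 4 * z) * β⁻¹ = β * sS 4 * β⁻¹ * (β * z * β⁻¹) by group, e',
        (F.sys.large.commute_z hβ).eq, mul_inv_cancel_right, mul_assoc, F.sys.large.mul_self_z, mul_one]
  · right
    have hcomm := beq_iff_eq.1 (List.all_eq_true.1 ufusers_ok w hw)
    obtain ⟨hl, d, hd⟩ := F.sys.acts_word w
    obtain ⟨huA, huu, huf⟩ := F.uEl_spec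
    set t2 := d * (sS 4 * q) * d⁻¹ with ht2
    have ht2A : Acts z Q p t2 (rho 4) := F.sys.acts_conj hl (length_rho 4) (length_rho 4) hd hA hcomm
    have ht2f : Fn z Q p 4 t2 16 :=
      F.sys.fn_conj (by decide +kernel) hl hA ht hd hcomm (fun y hy => hm y hy)
    obtain ⟨γ, hγ, -, eγ⟩ := F.sys.fn_toggle (n := 32) huu huA.1 huf (by norm_num)
      (by decide +kernel) (by decide +kernel)
    have hdz := hd.1
    obtain ⟨β, hβ, e' | e'⟩ := F.sys.fn_class (by simp) huA huu huf ht2A (conj_sq_one htt d) ht2f (fun y _ => rfl)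
    · refine ⟨d⁻¹ * β, hdz.inv_left.mul_left (F.sys.large.commute_z hβ), ?_⟩
      rw [show d⁻¹ * β * uU * (d⁻¹ * β)⁻¹ = d⁻¹ * (β * uU * β⁻¹) * d by group, e', ht2]
      group
    · refine ⟨d⁻¹ * (β * γ), hdz.inv_left.mul_left
        ((F.sys.large.commute_z hβ).mul_left (F.sys.large.commute_z hγ)), ?_⟩
      rw [show d⁻¹ * (β * γ) * uU * (d⁻¹ * (β * γ))⁻¹ = d⁻¹ * (β * (γ * uU * γ⁻¹) * β⁻¹) * d by group, eγ,
        show β * (uU * z) * β⁻¹ = β * uU * β⁻¹ * (β * z * β⁻¹) by group, e', (F.sys.large.commute_z hβ).eq,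
        mul_inv_cancel_right, mul_assoc t2, F.sys.large.mul_self_z, mul_one, ht2]
      group

/-- An involution inducing the nonsingular Siegel map. -/
theorem far_class {t : G} (hA : Acts z Q p t (rho 12)) (htt : t * t = 1) :
    ∃ c, Commute c z ∧ c * wW * c⁻¹ = t := by
  obtain ⟨hwA, hww, hwf⟩ := F.wEl_spec
  obtain ⟨q, hq, rfl, hf, e⟩ := F.sys.coset hww htt hwA hA
  have hsol : qb (p q) = bb 52 (p q) := F.sys.sg_inj (mul_left_cancel (e.symm.trans (hwf q hq hf)))
  have ht := F.sys.fn_shift hwA.1 hwf hq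
  have h := List.all_eq_true.1 far_fuse (p q) (mem_fixList.2 ⟨F.sys.lt q hq, hf⟩)
  simp only [hsol, beq_self_eq_true, Bool.not_true, Bool.false_or, List.any_eq_true, List.all_eq_true,
    beq_iff_eq] at h
  obtain ⟨w, hw, hm⟩ := h
  have hcomm := beq_iff_eq.1 (List.all_eq_true.1 fusers_ok w hw)
  obtain ⟨hl, d, hd⟩ := F.sys.acts_word w
  set t2 := d * (wW * q) * d⁻¹ with ht2
  have ht2A : Acts z Q p t2 (rho 12) := F.sys.acts_conj hl (length_rho 12) (length_rho 12) hd hA hcomm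
  have ht2f : Fn z Q p 12 t2 52 :=
    F.sys.fn_conj (by decide +kernel) hl hA ht hd hcomm (fun y hy => hm y hy)
  obtain ⟨γ, hγ, -, eγ⟩ := F.sys.fn_toggle (n := 16) hww hwA.1 hwf (by norm_num)
    (by decide +kernel) (by decide +kernel)
  have hdz := hd.1
  obtain ⟨β, hβ, e' | e'⟩ := F.sys.fn_class (by simp) hwA hww hwf ht2A (conj_sq_one htt d) ht2f (fun y _ => rfl)
  · refine ⟨d⁻¹ * β, hdz.inv_left.mul_left (F.sys.large.commute_z hβ), ?_⟩
    rw [show d⁻¹ * β * wW * (d⁻¹ * β)⁻¹ = d⁻¹ * (β * wW * β⁻¹) * d by group, e', ht2]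
    group
  · refine ⟨d⁻¹ * (β * γ), hdz.inv_left.mul_left
      ((F.sys.large.commute_z hβ).mul_left (F.sys.large.commute_z hγ)), ?_⟩
    rw [show d⁻¹ * (β * γ) * wW * (d⁻¹ * (β * γ))⁻¹ = d⁻¹ * (β * (γ * wW * γ⁻¹) * β⁻¹) * d by group, eγ,
      show β * (wW * z) * β⁻¹ = β * wW * β⁻¹ * (β * z * β⁻¹) by group, e', (F.sys.large.commute_z hβ).eq,
      mul_inv_cancel_right, mul_assoc t2, F.sys.large.mul_self_z, mul_one, ht2]
    group

end Frame

end CfsgLib.Recog.CoOneType
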