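import Cfsg.Agent.Lib.Recog.CoOneType.Facts

/-!
Finite facts on the middle part of the chosen Sylow 2-subgroup (owner: helper12).
-/

set_option autoImplicit false
set_option maxRecDepth 100000
set_option Elab.async false

namespace CfsgLib.Recog.CoOneType

/-- The middle part with a given index. -/
def midAt (i : Nat) : List Nat := (midSylow.getD i (one, [])).1

/-- The map of a word in the generators of the middle part. -/
def midMap (w : List Nat) : List Nat := w.foldr (fun i B => comp (midGen.getD i one) B) one

theorem mid_words : midSylow.all (fun p => p.1 == wmap p.2) = true := by decide +kernel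

theorem mid_card : midSylow.length = 64 := by decide +kernel

theorem mid_nodup : (midSylow.map Prod.fst).Nodup := by decide +kernel

theorem mid_basic : midSylow.all (fun p => (app p.1 1 == 1) && (app p.1 2 == 2) && (app p.1 4 == 4) &&
    (comp one p.1 == p.1) && (comp p.1 one == p.1)) = true := by decide +kernel

theorem mid_length : midSylow.all (fun p => p.1.length == 8) = true := by decide +kernel

theorem mid_gen_words : (List.range 64).all (fun i => midAt i == midMap (midWord.getD i [])) = true := by
  decide +kernel

theorem mid_gen_step : (one :: midGen).all (fun g => midSylow.all fun b =>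
    (midSylow.map Prod.fst).contains (comp g b.1)) = true := by decide +kernel

theorem midMap_closed : ∀ w : List Nat, (midMap w).length = 8 ∧
    ∀ b ∈ midSylow.map Prod.fst, comp (midMap w) b ∈ midSylow.map Prod.fst := by
  intro w
  induction w with
  | nil =>
    refine ⟨rfl, fun b hb => ?_⟩
    obtain ⟨b', hb', rfl⟩ := List.mem_map.1 hb
    exact List.contains_iff_mem.1 (List.all_eq_true.1 (List.all_eq_true.1 mid_gen_step one List.mem_cons_self) b' hb')
  | cons i w ih =>
    have e : midMap (i :: w) = comp (midGen.getD i one) (midMap w) := rfl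
    refine ⟨by rw [e, length_comp, ih.1], fun b hb => ?_⟩
    obtain ⟨c, hc, hce⟩ := List.mem_map.1 (ih.2 b hb)
    have hg : midGen.getD i one ∈ one :: midGen := by
      by_cases hi : i < midGen.length
      · rw [List.getD_eq_getElem _ _ hi]
        exact List.mem_cons_of_mem _ (List.getElem_mem hi)
      · rw [List.getD_eq_default _ _ (not_lt.1 hi)]
        exact List.mem_cons_self
    rw [e, ← comp_assoc ih.1, ← hce]
    exact List.contains_iff_mem.1 (List.all_eq_true.1 (List.all_eq_true.1 mid_gen_step _ hg) c hc)

theorem mid_closed : midSylow.all (fun a => midSylow.all fun b =>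
    (midSylow.map Prod.fst).contains (comp a.1 b.1)) = true := by
  simp only [List.all_eq_true, List.contains_iff_mem]
  intro a ha b hb
  obtain ⟨i, hi, rfl⟩ := List.getElem_of_mem ha
  have h := List.all_eq_true.1 mid_gen_words i (List.mem_range.2 (mid_card ▸ hi))
  rw [beq_iff_eq, midAt, List.getD_eq_getElem _ _ hi] at h
  rw [h]
  exact (midMap_closed _).2 _ (List.mem_map_of_mem hb)

theorem mid_rho_unit : midSylow.all (fun a => units.all fun v =>
    sect.contains (app a.1 v) && comp a.1 (rho v) == comp (rho (app a.1 v)) a.1) = true := by decide +kernel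

theorem mid_rho : midSylow.all (fun a => sect.all fun v =>
    sect.contains (app a.1 v) && comp a.1 (rho v) == comp (rho (app a.1 v)) a.1) = true := by
  simp only [List.all_eq_true, Bool.and_eq_true, beq_iff_eq, List.contains_iff_mem]
  intro a ha v hv
  have hl : a.1.length = 8 := beq_iff_eq.1 (List.all_eq_true.1 mid_length a ha)
  have hu : ∀ u ∈ units, app a.1 u ∈ sect ∧ comp a.1 (rho u) = comp (rho (app a.1 u)) a.1 := fun u h => by
    simpa using List.all_eq_true.1 (List.all_eq_true.1 mid_rho_unit a ha) u h
  have hr : ∀ x ∈ sect, ∀ y ∈ sect, comp (rho x) (rho y) = rho (x ^^^ y) := fun x hx y hy =>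
    beq_iff_eq.1 (List.all_eq_true.1 (List.all_eq_true.1 rho_comp x hx) y hy)
  refine sect_induction (P := fun v => app a.1 v ∈ sect ∧ comp a.1 (rho v) = comp (rho (app a.1 v)) a.1) ?_ ?_ hv
  · exact hu 0 List.mem_cons_self
  · intro w hw u hu' ih
    obtain ⟨h1, h2⟩ := hu u hu'
    rw [app_xor]
    refine ⟨sect_mem_xor ih.1 h1, ?_⟩
    rw [← hr w hw u (units_mem u hu'), comp_assoc (length_rho w), ih.2, ← comp_assoc hl, h2,
      comp_assoc (length_rho _), hr _ ih.1 _ h1]

end CfsgLib.Recog.CoOneType
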