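import Mathlib.Tactic.IntervalCases
import Mathlib.Tactic.NormNum
import Mathlib.Data.Nat.Bitwise
import Mathlib.Data.Bool.Basic
import Mathlib.Data.List.Range
import Mathlib.Data.Fintype.Basic
import Cfsg.Agent.Lib.Recog.CoOneType.Data

/-!
The eight-dimensional quadratic space of plus type over two elements on the numbers below 256, linear maps as
lists of the images of the basis (owner: helper12; after the six-dimensional model of helper20).
-/

set_option autoImplicit false
set_option maxRecDepth 100000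
set_option Elab.async false

namespace CfsgLib.Recog.CoOneType

/-- The quadratic form. -/
def qb (n : Nat) : Bool :=
  (n.testBit 0 && n.testBit 1) ^^ ((n.testBit 2 && n.testBit 3) ^^
    ((n.testBit 4 && n.testBit 5) ^^ (n.testBit 6 && n.testBit 7)))

/-- The polar form. -/
def bb (a c : Nat) : Bool := qb (a ^^^ c) ^^ (qb a ^^ qb c)

/-- The contribution of one coordinate. -/
def term (A : List Nat) (i n : Nat) : Nat := bif n.testBit i then A.getD i 0 else 0

/-- Application of a linear map. -/
def app (A : List Nat) (n : Nat) : Nat :=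
  term A 0 n ^^^ (term A 1 n ^^^ (term A 2 n ^^^ (term A 3 n ^^^ (term A 4 n ^^^ (term A 5 n ^^^
    (term A 6 n ^^^ term A 7 n))))))

/-- Composition. -/
def comp (A B : List Nat) : List Nat := B.map (app A)

/-- The identity. -/
def one : List Nat := [1, 2, 4, 8, 16, 32, 64, 128]

/-- The reflection in a vector. -/
def refl (d : Nat) : List Nat := one.map fun y => y ^^^ (bif bb y d then d else 0)

/-- The generators. -/
def gens : List (List Nat) := genPairs.map fun de => comp (refl de.1) (refl de.2)

/-- The map of a word. -/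
def wmap (w : List Nat) : List Nat := w.foldr (fun i B => comp (gens.getD i one) B) one

/-- The Siegel element at the first basis vector along `v`. -/
def rho (v : Nat) : List Nat :=
  one.map fun y => y ^^^ ((bif bb y v then 1 else 0) ^^^ (bif bb y 1 then v ^^^ (bif qb v then 1 else 0) else 0))

/-- Isometry, decidably. -/
def isoB (A : List Nat) : Bool :=
  A.length == 8 && (List.range 256).all fun n => decide (app A n < 256) && (qb (app A n) == qb n)

/-- Being an isometry. -/
def Iso (A : List Nat) : Prop := A.length = 8 ∧ ∀ n < 256, app A n < 256 ∧ qb (app A n) = qb n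

theorem isoB_iff {A : List Nat} : isoB A = true ↔ Iso A := by
  simp [isoB, Iso]

/-- A fixed vector. -/
def fixB (A : List Nat) (a : Nat) : Bool := app A a == a

/-- A vector of the image of `A + 1`. -/
def imB (A : List Nat) (a : Nat) : Bool := (List.range 256).any fun b => a == b ^^^ app A b

/-- The five standard maps: Siegel along a singular and a nonsingular vector, and their products with a
middle map, two with totally singular residue and one not. -/
def rep (i : Nat) : List Nat :=
  match i with
  | 0 => rho 4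
  | 1 => rho 12
  | 2 => comp (rho 4) midA
  | 3 => comp (rho 8) midA
  | _ => comp (rho 12) midA

/-! ### Linearity -/

theorem app_zero (A : List Nat) : app A 0 = 0 := by simp [app, term]

theorem term_xor (A : List Nat) (i a b : Nat) : term A i (a ^^^ b) = term A i a ^^^ term A i b := by
  unfold term
  rw [Nat.testBit_xor]
  cases a.testBit i <;> cases b.testBit i <;> simp

theorem app_xor (A : List Nat) (a b : Nat) : app A (a ^^^ b) = app A a ^^^ app A b := by
  simp only [app, term_xor]
  ac_rfl

theorem app_term (A B : List Nat) (hB : B.length = 8) {i : Nat} (hi : i < 8) (n : Nat) :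
    term (comp A B) i n = app A (term B i n) := by
  unfold term
  cases n.testBit i
  · simp [app_zero]
  · simp [comp, List.getD_eq_getElem?_getD, List.getElem?_map, List.getElem?_eq_getElem (hB ▸ hi)]

theorem app_comp {A B : List Nat} (hB : B.length = 8) (n : Nat) : app (comp A B) n = app A (app B n) := by
  rw [show app B n = term B 0 n ^^^ (term B 1 n ^^^ (term B 2 n ^^^ (term B 3 n ^^^
    (term B 4 n ^^^ (term B 5 n ^^^ (term B 6 n ^^^ term B 7 n)))))) from rfl]
  simp only [app_xor]
  rw [← app_term A B hB (i := 0) (by norm_num), ← app_term A B hB (i := 1) (by norm_num),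
    ← app_term A B hB (i := 2) (by norm_num), ← app_term A B hB (i := 3) (by norm_num),
    ← app_term A B hB (i := 4) (by norm_num), ← app_term A B hB (i := 5) (by norm_num),
    ← app_term A B hB (i := 6) (by norm_num), ← app_term A B hB (i := 7) (by norm_num)]
  rfl

theorem length_comp (A B : List Nat) : (comp A B).length = B.length := List.length_map _

theorem length_rho (v : Nat) : (rho v).length = 8 := List.length_map _

theorem length_refl (d : Nat) : (refl d).length = 8 := List.length_map _

theorem comp_assoc {A B : List Nat} (hB : B.length = 8) (C : List Nat) :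
    comp A (comp B C) = comp (comp A B) C := by
  simp only [comp, List.map_map]
  exact List.map_congr_left fun c _ => (app_comp hB c).symm

theorem app_one : ∀ n < 256, app one n = n := by decide +kernel

theorem lt_xor {a b : Nat} (ha : a < 256) (hb : b < 256) : a ^^^ b < 256 := Nat.xor_lt_two_pow (n := 8) ha hb

/-- An additive map is the application of its values on the basis. -/
theorem additive_eq (f : Nat → Nat) (hf : ∀ a < 256, ∀ b < 256, f (a ^^^ b) = f a ^^^ f b) (n : Nat)
    (hn : n < 256) : f n = app [f 1, f 2, f 4, f 8, f 16, f 32, f 64, f 128] n := by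
  have h0 : f 0 = 0 := by
    have := hf 0 (by norm_num) 0 (by norm_num)
    simpa using this
  have hlt : ∀ (i m : Nat), term one i m < 256 := by
    intro i m
    unfold term one
    cases m.testBit i
    · simp
    · rcases i with _ | _ | _ | _ | _ | _ | _ | _ | i <;> simp
  have ht : ∀ i < 8, f (term one i n) = term [f 1, f 2, f 4, f 8, f 16, f 32, f 64, f 128] i n := by
    intro i hi
    unfold term one
    cases n.testBit i
    · simp [h0]
    · interval_cases i <;> simp
  conv_lhs => rw [← app_one n hn]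
  unfold app
  have h7 := hlt 7 n
  have h6 := lt_xor (hlt 6 n) h7
  have h5 := lt_xor (hlt 5 n) h6
  have h4 := lt_xor (hlt 4 n) h5
  have h3 := lt_xor (hlt 3 n) h4
  have h2 := lt_xor (hlt 2 n) h3
  have h1 := lt_xor (hlt 1 n) h2
  rw [hf _ (hlt 0 n) _ h1, hf _ (hlt 1 n) _ h2, hf _ (hlt 2 n) _ h3, hf _ (hlt 3 n) _ h4, hf _ (hlt 4 n) _ h5,
    hf _ (hlt 5 n) _ h6, hf _ (hlt 6 n) _ h7,
    ht 0 (by norm_num), ht 1 (by norm_num), ht 2 (by norm_num), ht 3 (by norm_num), ht 4 (by norm_num),
    ht 5 (by norm_num), ht 6 (by norm_num), ht 7 (by norm_num)]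

theorem eq_of_app {A B : List Nat} (hA : A.length = 8) (hB : B.length = 8)
    (h : ∀ n ∈ one, app A n = app B n) : A = B := by
  obtain ⟨a0, a1, a2, a3, a4, a5, a6, a7, rfl⟩ :
      ∃ a0 a1 a2 a3 a4 a5 a6 a7, A = [a0, a1, a2, a3, a4, a5, a6, a7] := by
    match A, hA with
    | [a0, a1, a2, a3, a4, a5, a6, a7], _ => exact ⟨a0, a1, a2, a3, a4, a5, a6, a7, rfl⟩
  obtain ⟨b0, b1, b2, b3, b4, b5, b6, b7, rfl⟩ :
      ∃ b0 b1 b2 b3 b4 b5 b6 b7, B = [b0, b1, b2, b3, b4, b5, b6, b7] := by
    match B, hB with
    | [b0, b1, b2, b3, b4, b5, b6, b7], _ => exact ⟨b0, b1, b2, b3, b4, b5, b6, b7, rfl⟩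
  simpa [one, app, term, Nat.testBit, Nat.shiftRight_eq_div_pow] using h

theorem pair_linear : ∀ a b a' b' c d : Bool,
    (((a ^^ a') && d) ^^ ((b ^^ b') && c)) = (((a && d) ^^ (b && c)) ^^ ((a' && d) ^^ (b' && c))) := by decide

theorem hyp_pair : ∀ a b c d : Bool,
    (((a ^^ c) && (b ^^ d)) ^^ ((a && b) ^^ (c && d))) = ((a && d) ^^ (b && c)) := by decide

theorem regroup_four : ∀ a1 a2 a3 a4 b1 b2 b3 b4 c1 c2 c3 c4 : Bool,
    ((a1 ^^ (a2 ^^ (a3 ^^ a4))) ^^ ((b1 ^^ (b2 ^^ (b3 ^^ b4))) ^^ (c1 ^^ (c2 ^^ (c3 ^^ c4))))) =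
      ((a1 ^^ (b1 ^^ c1)) ^^ ((a2 ^^ (b2 ^^ c2)) ^^ ((a3 ^^ (b3 ^^ c3)) ^^ (a4 ^^ (b4 ^^ c4))))) := by decide

theorem regroup_eight : ∀ a1 a2 a3 a4 b1 b2 b3 b4 : Bool,
    ((a1 ^^ b1) ^^ ((a2 ^^ b2) ^^ ((a3 ^^ b3) ^^ (a4 ^^ b4)))) =
      ((a1 ^^ (a2 ^^ (a3 ^^ a4))) ^^ (b1 ^^ (b2 ^^ (b3 ^^ b4)))) := by decide

/-- The polar form in coordinates. -/
theorem bb_eq (a c : Nat) : bb a c =
    (((a.testBit 0 && c.testBit 1) ^^ (a.testBit 1 && c.testBit 0)) ^^
      (((a.testBit 2 && c.testBit 3) ^^ (a.testBit 3 && c.testBit 2)) ^^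
        (((a.testBit 4 && c.testBit 5) ^^ (a.testBit 5 && c.testBit 4)) ^^
          ((a.testBit 6 && c.testBit 7) ^^ (a.testBit 7 && c.testBit 6))))) := by
  rw [← hyp_pair (a.testBit 0) (a.testBit 1) (c.testBit 0) (c.testBit 1),
    ← hyp_pair (a.testBit 2) (a.testBit 3) (c.testBit 2) (c.testBit 3),
    ← hyp_pair (a.testBit 4) (a.testBit 5) (c.testBit 4) (c.testBit 5),
    ← hyp_pair (a.testBit 6) (a.testBit 7) (c.testBit 6) (c.testBit 7)]
  simp only [bb, qb, Nat.testBit_xor]
  rw [regroup_four]

theorem bb_xor_left (a b c : Nat) : bb (a ^^^ b) c = (bb a c ^^ bb b c) := by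
  rw [bb_eq, bb_eq, bb_eq, Nat.testBit_xor, Nat.testBit_xor, Nat.testBit_xor, Nat.testBit_xor,
    Nat.testBit_xor, Nat.testBit_xor, Nat.testBit_xor, Nat.testBit_xor, pair_linear, pair_linear, pair_linear,
    pair_linear, regroup_eight]

theorem bb_comm : ∀ a b : Nat, bb a b = bb b a := fun a b => by
  unfold bb
  rw [Nat.xor_comm a b, Bool.xor_comm (qb a)]

theorem bb_xor_right (a b c : Nat) : bb a (b ^^^ c) = (bb a b ^^ bb a c) := by
  rw [bb_comm a, bb_xor_left, bb_comm b, bb_comm c]

theorem bb_zero (a : Nat) : bb a 0 = false := by simp [bb, qb]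

end CfsgLib.Recog.CoOneType
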