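import Cfsg.Agent.Lib.Recog.CoOneType.Hat

/-!
Every involution is conjugate to one of three standard ones (owner: helper12).
-/

set_option autoImplicit false
set_option linter.unusedSectionVars false
set_option linter.unusedVariables false
set_option quotPrecheck false
set_option linter.style.haveILetI false

namespace CfsgLib.Recog.CoOneType

open CfsgLib.ThreeTrans

variable {G : Type*} [Group G] [Finite G] {z : G} {Q : Subgroup G} {p : G → Nat} {k : G}

namespace Frame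

variable (F : Frame z Q p k)
include F

local notation "X" => k * z * k⁻¹
local notation "P" => Q.map (MulAut.conj k).toMonoidHom
local notation "sS" => sOf z Q p k
local notation "uU" => uEl z Q p k
local notation "wW" => wEl z Q p k
local notation "hM" => hm z Q p k
local notation "zE" => ze z Q p k

theorem tame_inner {a : G} (ha : a ∈ Q) (haa : a * a = 1) (h1 : a ≠ 1) : Tame z Q p k a := by
  refine Or.inl ?_
  by_cases hz : a = z
  · rw [hz]
  · exact F.inner ha haa h1 hz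

theorem tame_low {t : G} {i : Nat} (hi : i = 0 ∨ i = 1) (hA : Acts z Q p t (rep i)) (htt : t * t = 1) :
    Tame z Q p k t := by
  rcases hi with rfl | rfl
  · rcases F.near_class hA htt with h | ⟨c, -, h⟩
    · exact Or.inl h.1
    · exact Or.inr (Or.inl (isConj_iff.2 ⟨c, h⟩))
  · obtain ⟨c, -, h⟩ := F.far_class hA htt
    exact Or.inr (Or.inr (isConj_iff.2 ⟨c, h⟩))

variable {t : G} {M A0 : List Nat}

/-- An image vector of an element of `P` is zero. -/
theorem img_trivial (htQ : k⁻¹ * t * k ∈ Q) {n : Nat} (hn : HatImg Q p k t n) : n = 0 := by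
  obtain ⟨a, ha, rfl⟩ := hn
  have ht : t ∈ P := mem_conjMap.2 htQ
  rw [F.sys'.map_mul _ (Subgroup.mul_mem _ (Subgroup.mul_mem _ ht ha) (Subgroup.inv_mem _ ht)) _
    (Subgroup.inv_mem _ ha), F.sys'.p_conj_q ha ht, F.sys'.p_inv ha, Nat.xor_self]

/-- The standard map of an involution on the second group, with the transported image vectors. -/
theorem hat_rep (htx : Commute t X) (htt : t * t = 1) (htQ : k⁻¹ * t * k ∉ Q) :
    ∃ i < 5, ∃ t0, Acts z Q p t0 (rep i) ∧ t0 * t0 = 1 ∧ IsConj t t0 ∧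
      ∃ C, Iso C ∧ (∀ n < 256, ∀ m < 256, app C n = app C m → n = m) ∧
        (∀ n, HatImg Q p k t n → n < 256 ∧ ∃ m < 256, app (rep i) m ^^^ m = app C n) ∧
        ∀ n, HatFix Q p k t n → n < 256 ∧ app (rep i) (app C n) = app C n := by
  have htz : Commute (k⁻¹ * t * k) z := by
    refine (LargeData.commute_conj_iff' (g := k)).1 ?_
    rwa [show k * (k⁻¹ * t * k) * k⁻¹ = t by group]
  have htt' : k⁻¹ * t * k * (k⁻¹ * t * k) = 1 := by
    calc k⁻¹ * t * k * (k⁻¹ * t * k) = k⁻¹ * (t * t) * k := by group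
      _ = 1 := by rw [htt, mul_one, inv_mul_cancel]
  obtain ⟨c, hc, i, hi, hA⟩ := F.cases_invol htz htt' htQ
  obtain ⟨C, hC, hcC⟩ := F.sys.exists_acts hc
  refine ⟨i, hi, _, hA, conj_sq_one htt' c, isConj_iff.2 ⟨c * k⁻¹, by group⟩, C, hC,
    fun n hn m hm => F.sys.app_inj hcC hn hm, ?_, ?_⟩
  · rintro n ⟨a, ha, rfl⟩
    set b := k⁻¹ * a * k with hb
    have hbQ : b ∈ Q := mem_conjMap.1 ha
    have hcb := F.sys.large.conj_mem hc hbQ
    have hd : k⁻¹ * t * k * b * (k⁻¹ * t * k)⁻¹ * b⁻¹ ∈ Q :=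
      Q.mul_mem (F.sys.large.conj_mem htz hbQ) (Q.inv_mem hbQ)
    have e : k⁻¹ * (t * a * t⁻¹ * a⁻¹) * k = k⁻¹ * t * k * b * (k⁻¹ * t * k)⁻¹ * b⁻¹ := by rw [hb]; group
    rw [e]
    refine ⟨F.sys.lt _ hd, p (c * b * c⁻¹), F.sys.lt _ hcb, ?_⟩
    rw [← hcC.2 _ hd, ← hA.2 _ hcb,
      show c * (k⁻¹ * t * k * b * (k⁻¹ * t * k)⁻¹ * b⁻¹) * c⁻¹ =
        c * (k⁻¹ * t * k) * c⁻¹ * (c * b * c⁻¹) * (c * (k⁻¹ * t * k) * c⁻¹)⁻¹ * (c * b * c⁻¹)⁻¹ by group,
      F.sys.map_mul _ (F.sys.large.conj_mem hA.1 hcb) _ (Q.inv_mem hcb), F.sys.p_inv hcb]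
  · rintro n ⟨a, ha, rfl, e⟩
    set b := k⁻¹ * a * k with hb
    have hbQ : b ∈ Q := mem_conjMap.1 ha
    have hcb := F.sys.large.conj_mem hc hbQ
    rw [show k⁻¹ * (t * a * t⁻¹) * k = k⁻¹ * t * k * b * (k⁻¹ * t * k)⁻¹ by rw [hb]; group] at e
    refine ⟨F.sys.lt _ hbQ, ?_⟩
    conv_rhs => rw [← e, ← hcC.2 _ (F.sys.large.conj_mem htz hbQ)]
    rw [← hcC.2 _ hbQ, ← hA.2 _ hcb]
    congr 1
    group

theorem img_lt {n : Nat} (hn : HatImg Q p k t n) (htx : Commute t X) : n < 256 := by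
  obtain ⟨a, ha, rfl⟩ := hn
  exact F.sys'.lt _ (Subgroup.mul_mem _ (F.sys'.large.conj_mem htx ha) (Subgroup.inv_mem _ ha))

/-- A nonsingular image vector and two singular ones single out the last map. -/
theorem seed_of_img (htx : Commute t X) (htt : t * t = 1) {n1 n2 n3 : Nat} (h1 : HatImg Q p k t n1)
    (q1 : qb n1 = true) (h2 : HatImg Q p k t n2) (q2 : qb n2 = false) (h3 : HatImg Q p k t n3)
    (q3 : qb n3 = false) (hn2 : n2 ≠ 0) (hn3 : n3 ≠ 0) (hne : n2 ≠ n3) :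
    ∃ t0, Acts z Q p t0 (rep 4) ∧ t0 * t0 = 1 ∧ IsConj t t0 := by
  by_cases htQ : k⁻¹ * t * k ∈ Q
  · exact absurd (F.img_trivial htQ h2) hn2
  obtain ⟨i, hi, t0, hA, ht0, hc, C, hC, hinj, himg, -⟩ := F.hat_rep htx htt htQ
  obtain ⟨l1, m1, hm1, e1⟩ := himg n1 h1
  obtain ⟨l2, m2, hm2, e2⟩ := himg n2 h2
  obtain ⟨l3, m3, hm3, e3⟩ := himg n3 h3
  by_cases h4 : i = 4
  · exact ⟨t0, h4 ▸ hA, ht0, hc⟩
  exfalso
  by_cases h1' : i = 1
  · subst h1'
    have f2 := List.all_eq_true.1 rep_img_one m2 (List.mem_range.2 hm2)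
    have f3 := List.all_eq_true.1 rep_img_one m3 (List.mem_range.2 hm3)
    rw [e2, (hC.2 n2 l2).2, q2] at f2
    rw [e3, (hC.2 n3 l3).2, q3] at f3
    simp only [Bool.false_or, Bool.or_eq_true, beq_iff_eq] at f2 f3
    have z0 : ∀ n < 256, app C n = 0 → n = 0 := fun n hn e => hinj n hn 0 (by norm_num) (by rw [e, app_zero])
    rcases f2 with f2 | f2
    · exact hn2 (z0 n2 l2 f2)
    rcases f3 with f3 | f3
    · exact hn3 (z0 n3 l3 f3)
    exact hne (hinj n2 l2 n3 l3 (f2.trans f3.symm))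
  · have hmem : i ∈ [0, 2, 3] := by
      simp only [List.mem_cons, List.not_mem_nil, or_false]
      omega
    have f1 := List.all_eq_true.1 (List.all_eq_true.1 rep_img i hmem) m1 (List.mem_range.2 hm1)
    rw [e1, (hC.2 n1 l1).2, q1] at f1
    exact Bool.noConfusion f1

/-- An element conjugate into a Siegel coset is tame. -/
theorem pull_tame {A W : List Nat} {v : Nat} {d : G} (hv : v = 4 ∨ v = 12) (hlA : A.length = 8)
    (hlW : W.length = 8) (hd : Acts z Q p d W) (hcomm : comp W A = comp (rho v) W) (htA : Acts z Q p t A)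
    (htt : t * t = 1) : Tame z Q p k t := by
  have hA := F.sys.acts_conj hlW hlA (length_rho v) hd htA hcomm
  have hc : IsConj t (d * t * d⁻¹) := isConj_iff.2 ⟨d, rfl⟩
  refine Tame.trans ?_ hc.symm
  rcases hv with rfl | rfl
  · exact F.tame_low (i := 0) (Or.inl rfl) hA (conj_sq_one htt d)
  · exact F.tame_low (i := 1) (Or.inr rfl) hA (conj_sq_one htt d)

/-- The conjugate of the lift in `P` over a middle map commutes with the fixed lifts. -/
theorem mid_lift_spec {A W : List Nat} {d : G} (hlA : A.length = 8) (hlW : W.length = 8)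
    (hA : ∀ n < 256, app A n < 256) (hd : Acts z Q p d W) (hcomm : comp W A = comp (rho 4) W) :
    Acts z Q p (d⁻¹ * sS 4 * d) A ∧ d⁻¹ * sS 4 * d * (d⁻¹ * sS 4 * d) = 1 ∧
      ∀ a ∈ Q, app (rho 4) (app W (p a)) = app W (p a) → Commute (d⁻¹ * sS 4 * d) a := by
  obtain ⟨-, hsA, hss, hfn, -, -⟩ := F.near_base
  refine ⟨F.sys.acts_pull hlA (length_rho 4) hlW hd hsA hcomm hA, ?_, fun a ha hf => ?_⟩
  · calc d⁻¹ * sS 4 * d * (d⁻¹ * sS 4 * d) = d⁻¹ * (sS 4 * sS 4) * d := by group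
      _ = 1 := by rw [hss, mul_one, inv_mul_cancel]
  · have e := hfn _ (F.sys.large.conj_mem hd.1 ha) (by rw [hd.2 a ha]; exact hf)
    rw [show bb 0 (p (d * a * d⁻¹)) = false by rw [bb_comm, bb_zero], show sg z false = 1 from rfl, mul_one] at e
    refine mul_inv_eq_iff_eq_mul.1 ?_
    calc d⁻¹ * sS 4 * d * a * (d⁻¹ * sS 4 * d)⁻¹ = d⁻¹ * (sS 4 * (d * a * d⁻¹) * (sS 4)⁻¹) * d := by group
      _ = a := by rw [e]; group

theorem sect_facts : 4 ∈ sect ∧ 8 ∈ sect ∧ 16 ∈ sect ∧ 32 ∈ sect ∧ 64 ∈ sect ∧ 128 ∈ sect ∧ 144 ∈ sect ∧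
    96 ∈ sect ∧ 112 ∈ sect ∧ qb 4 = false ∧ qb 8 = false ∧ qb 16 = false ∧ qb 128 = false ∧ qb 144 = false ∧
    qb 96 = false ∧ qb 112 = true ∧ qb 1 = false ∧ qb 0 = false ∧ bb 4 1 = false ∧ bb 8 1 = false ∧
    bb 4 8 = true ∧ bb 8 4 = true ∧ bb 4 4 = false ∧ bb 8 8 = false ∧ bb 8 112 = false ∧
    bb 112 1 = false := by decide +kernel

theorem hm_img (htx : Commute t X) {r : Nat} (hr : r ∈ sect) {i : Bool}
    (h : HatImg Q p k t (hM r ^^^ (bif i then 1 else 0))) :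
    qb (hM r ^^^ (bif i then 1 else 0)) = qb r ∧
      (r ≠ 0 → hM r ^^^ (bif i then 1 else 0) ≠ 0 ∧ hM r ^^^ (bif i then 1 else 0) ≠ 1) := by
  obtain ⟨-, hb, hq⟩ := F.hm_spec hr
  cases i
  · rw [show (bif false then 1 else 0) = 0 from rfl, Nat.xor_zero]
    exact ⟨hq, fun h0 => ⟨fun e => h0 (F.hm_inj hr (Or.inl e)), fun e => h0 (F.hm_inj hr (Or.inr e))⟩⟩
  · rw [show (bif true then 1 else 0) = 1 from rfl, qb_xor_one hb, hq]
    refine ⟨rfl, fun h0 => ⟨fun e => h0 (F.hm_inj hr (Or.inr ?_)), fun e => h0 (F.hm_inj hr (Or.inl ?_))⟩⟩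
    · exact Nat.xor_eq_zero_iff.1 e
    · have := congrArg (· ^^^ 1) e
      simpa [Nat.xor_assoc] using this

/-- Both shifts and a totally singular middle image give a seed. -/
theorem seed_pair (hM' : (M, A0) ∈ midTable) (hA : Acts z Q p t M) (htx : Commute t X) (htt : t * t = 1)
    (f4 : app A0 4 = 4) (f8 : app A0 8 = 8) (h4 : zE t 4 = true) (h8 : zE t 8 = true) {a1 a2 r1 r2 : Nat}
    (ha1 : a1 ∈ sect) (ha2 : a2 ∈ sect) (e1 : app A0 a1 ^^^ a1 = r1) (e2 : app A0 a2 ^^^ a2 = r2)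
    (hr : (r1, r2) ∈ [(128, 16), (144, 96)]) :
    ∃ t0, Acts z Q p t0 (rep 4) ∧ t0 * t0 = 1 ∧ IsConj t t0 := by
  obtain ⟨s4, s8, -⟩ := F.sect_facts
  have hr' := (show ∀ r ∈ [(128, 16), (144, 96)], r.1 ∈ sect ∧ r.2 ∈ sect ∧ r.1 ≠ 0 ∧ qb r.1 = false by
    decide +kernel) _ hr
  have o1 : HatImg Q p k t 1 := F.img_one hM' hA htx s4 f4 h4
  obtain ⟨w, hw, i, hiw, hpair⟩ := F.img_pairing hA hM' htx
  obtain ⟨i1, hi1⟩ := F.img_mid hM' hA htx ha1 e1
  obtain ⟨i2, hi2⟩ := F.img_mid hM' hA htx ha2 e2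
  have horth : ∀ r ∈ sect, ∀ j : Bool, HatImg Q p k t (hM r ^^^ (bif j then 1 else 0)) → bb w r = false := by
    intro r hr j hj
    have e := F.img_orth htx htt hiw hj
    obtain ⟨-, bw, qw⟩ := F.hm_spec hw
    obtain ⟨-, br, qr⟩ := F.hm_spec hr
    obtain ⟨l, el⟩ := F.hm_xor hw hr
    have hs : w ^^^ r ∈ sect :=
      List.contains_iff_mem.1 (List.all_eq_true.1 (List.all_eq_true.1 sect_xor w hw) r hr)
    obtain ⟨-, bs, qs⟩ := F.hm_spec hs
    have hbw : bb 1 (hM r) = false := by rw [bb_comm]; exact br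
    have e' : bb (hM w) (hM r) = false := by
      revert e
      have h11 : bb 1 1 = false := by decide +kernel
      cases i <;> cases j <;> simp [bb_xor_left, bb_xor_right, bw, hbw, h11, bb_zero, show ∀ x, bb 0 x = false
        from fun x => by rw [bb_comm, bb_zero]]
    have hq : qb (hM w ^^^ hM r) = qb (w ^^^ r) := by
      rw [← qs, el]
      cases l
      · rw [show (bif false then 1 else 0) = 0 from rfl, Nat.xor_zero]
      · exact (qb_xor_one (by rw [bb_xor_left, bw, br]; rfl)).symm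
    rw [bb, hq, qw, qr] at e'
    exact e'
  have hq := List.all_eq_true.1 (List.all_eq_true.1 residue_nonsing _ hr) w hw
  rw [hpair 4 s4 f4, hpair 8 s8 f8, h4, h8, horth _ hr'.1 i1 hi1, horth _ hr'.2.1 i2 hi2] at hq
  simp only [Bool.not_false, Bool.and_true, Bool.not_true, Bool.false_or] at hq
  exact F.seed_of_img htx htt hiw ((F.hm_img htx hw hiw).1.trans hq) o1 (by decide +kernel) hi1
    ((F.hm_img htx hr'.1 hi1).1.trans hr'.2.2.2) one_ne_zero ((F.hm_img htx hr'.1 hi1).2 hr'.2.2.1).1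
    ((F.hm_img htx hr'.1 hi1).2 hr'.2.2.1).2.symm

/-- A middle lift with some shift gives a seed or no shift at `4`. -/
theorem seed_mid {A W : List Nat} {d : G} {a1 a2 r1 r2 : Nat} (hM' : (A, A) ∈ midTable)
    (hlA : A.length = 8) (hlW : W.length = 8) (hd : Acts z Q p d W) (hcomm : comp W A = comp (rho 4) W)
    (htA : Acts z Q p t A) (htt : t * t = 1) (htx : Commute t X) (f4 : app A 4 = 4) (f8 : app A 8 = 8)
    (hA1 : comp A one = A) (hc4 : ∀ a ∈ Q, (p a = 4 ∨ p a = 8) → Commute t a)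
    (ha1 : a1 ∈ sect) (ha2 : a2 ∈ sect) (e1 : app A a1 ^^^ a1 = r1) (e2 : app A a2 ^^^ a2 = r2)
    (hr : (r1, r2) ∈ [(128, 16), (144, 96)]) (hz : zE t 4 = true ∨ zE t 8 = true) :
    ∃ t0, Acts z Q p t0 (rep 4) ∧ t0 * t0 = 1 ∧ Tame z Q p k t0 := by
  obtain ⟨s4, s8, -, -, -, -, -, -, -, q4, q8, -, -, -, -, -, -, -, b41, b81, b48, b84, b44, b88, -⟩ := F.sect_facts
  suffices h : ∃ t', Acts z Q p t' A ∧ t' * t' = 1 ∧ Commute t' X ∧ zE t' 4 = true ∧ zE t' 8 = true by
    obtain ⟨t', hA', htt', htx', h4, h8⟩ := h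
    obtain ⟨t0, h0, h00, hc⟩ := F.seed_pair hM' hA' htx' htt' f4 f8 h4 h8 ha1 ha2 e1 e2 hr
    exact ⟨t0, h0, h00, (F.pull_tame (Or.inl rfl) hlA hlW hd hcomm hA' htt').trans hc⟩
  have step : ∀ c, (c = 4 ∨ c = 8) → ∀ a ∈ Q, p a = c → Acts z Q p (t * a) A ∧ t * a * (t * a) = 1 ∧
      Commute (t * a) X ∧ ∀ u ∈ sect, app A u = u → zE (t * a) u = (zE t u ^^ bb u c) := by
    intro c hc a ha hpa
    have hb1 : bb (p a) 1 = false := by rw [hpa]; rcases hc with rfl | rfl <;> assumption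
    have hcm : Commute t a := hc4 a ha (hpa ▸ hc)
    refine ⟨?_, ?_, htx.mul_left ((F.comm_x ha).2 hb1), fun u hu hf => ?_⟩
    · have := F.sys.acts_mul (show one.length = 8 from rfl) htA (F.sys.acts_of_mem ha)
      rwa [hA1] at this
    · rw [mul_assoc, ← mul_assoc a, ← hcm.eq, mul_assoc, F.sys.sq a ha, hpa, ← mul_assoc, htt, one_mul]
      rcases hc with rfl | rfl
      · rw [q4]; rfl
      · rw [q8]; rfl
    · rw [F.ze_shift hM' htA htx hu hf ha hb1, hpa]
  by_cases h4 : zE t 4 = true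
  · by_cases h8 : zE t 8 = true
    · exact ⟨t, htA, htt, htx, h4, h8⟩
    · obtain ⟨a, ha, hpa⟩ := F.sys.surj 4 (by norm_num)
      obtain ⟨x1, x2, x3, x4⟩ := step 4 (Or.inl rfl) a ha hpa
      exact ⟨_, x1, x2, x3, by rw [x4 4 s4 f4, h4, b44]; rfl,
        by rw [x4 8 s8 f8, Bool.eq_false_iff.2 h8, b84]; rfl⟩
  · obtain ⟨a, ha, hpa⟩ := F.sys.surj 8 (by norm_num)
    obtain ⟨x1, x2, x3, x4⟩ := step 8 (Or.inr rfl) a ha hpa
    exact ⟨_, x1, x2, x3, by rw [x4 4 s4 f4, Bool.eq_false_iff.2 h4, b48]; rfl,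
      by rw [x4 8 s8 f8, hz.resolve_left h4, b88]; rfl⟩

theorem acts_lt {c : G} {A : List Nat} (hc : Acts z Q p c A) : ∀ n < 256, app A n < 256 := by
  intro n hn
  obtain ⟨a, ha, rfl⟩ := F.sys.surj n hn
  rw [← hc.2 a ha]
  exact F.sys.lt _ (F.sys.large.conj_mem hc.1 ha)

/-- A tame involution inducing the last standard map. -/
theorem exists_seed : ∃ t0, Acts z Q p t0 (rep 4) ∧ t0 * t0 = 1 ∧ Tame z Q p k t0 := by
  obtain ⟨wa, wb, wc, fa1, fa4, fa8, fb1, fb4, fb8, fc1, fc52, hAB, hA1, hB1, hC1⟩ := pull_words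
  obtain ⟨n1, n2, n3, n4, n5, n6⟩ := mid_numbers
  obtain ⟨s4, s8, s16, s32, s64, -, s144, -, s112, -, -, -, -, q144, -, q112, q1, -, b41, -, b48, b84, -, b88, b8112,
    b1121⟩ := F.sect_facts
  have hmids := fun A hA => List.all_eq_true.1 mid_fixed A hA
  have fA := hmids midA (by simp)
  have fB := hmids midB (by simp)
  have fC := hmids midC (by simp)
  simp only [Bool.and_eq_true, beq_iff_eq] at fA fB fC
  obtain ⟨hla, da, hda⟩ := F.sys.acts_word wordA
  obtain ⟨hlb, db, hdb⟩ := F.sys.acts_word wordB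
  obtain ⟨hlc, dc, hdc⟩ := F.sys.acts_word wordC
  have ltA : ∀ n < 256, app midA n < 256 := by decide +kernel
  have ltB : ∀ n < 256, app midB n < 256 := by decide +kernel
  have ltC : ∀ n < 256, app midC n < 256 := by decide +kernel
  obtain ⟨u1A, u1u, u1f⟩ := F.mid_lift_spec (A := midA) rfl hla ltA hda wa
  obtain ⟨u2A, u2u, u2f⟩ := F.mid_lift_spec (A := midB) rfl hlb ltB hdb wb
  set u1 := da⁻¹ * sS 4 * da with hu1
  set u2 := db⁻¹ * sS 4 * db with hu2
  have u1x : Commute u1 X := u1f _ F.memQ (by rw [F.px]; exact fa1)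
  have u2x : Commute u2 X := u2f _ F.memQ (by rw [F.px]; exact fb1)
  have u1c : ∀ a ∈ Q, (p a = 4 ∨ p a = 8) → Commute u1 a := fun a ha e => u1f a ha (by
    rcases e with e | e <;> rw [e] <;> assumption)
  have u2c : ∀ a ∈ Q, (p a = 4 ∨ p a = 8) → Commute u2 a := fun a ha e => u2f a ha (by
    rcases e with e | e <;> rw [e] <;> assumption)
  by_cases h1 : zE u1 4 = true ∨ zE u1 8 = true
  · exact F.seed_mid (by simp [midTable]) rfl hla hda wa u1A u1u u1x fA.1.2 fA.2 hA1 u1c s32 s64 n1 n2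
      (by simp) h1
  by_cases h2 : zE u2 4 = true
  · exact F.seed_mid (by simp [midTable]) rfl hlb hdb wb u2A u2u u2x fB.1.2 fB.2 hB1 u2c s16 s32 n3 n4
      (by simp) (Or.inl h2)
  have hz1 : zE u1 4 = false := Bool.eq_false_iff.2 fun e => h1 (Or.inl e)
  have hz2 : zE u2 4 = false := Bool.eq_false_iff.2 h2
  obtain ⟨hwA, hww, hwf⟩ := F.wEl_spec
  set t' := dc⁻¹ * wW * dc with ht'
  have tA : Acts z Q p t' midC := F.sys.acts_pull rfl (length_rho 12) hlc hdc hwA wc ltC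
  have ttt : t' * t' = 1 := by
    calc t' * t' = dc⁻¹ * (wW * wW) * dc := by rw [ht']; group
      _ = 1 := by rw [hww, mul_one, inv_mul_cancel]
  have tx : Commute t' X := by
    have e := hwf _ (F.sys.large.conj_mem hdc.1 F.memQ) (by rw [hdc.2 _ F.memQ, F.px]; exact fc1)
    rw [hdc.2 _ F.memQ, F.px, fc52, show sg z false = 1 from rfl, mul_one] at e
    refine mul_inv_eq_iff_eq_mul.1 ?_
    calc t' * X * t'⁻¹ = dc⁻¹ * (wW * (dc * X * dc⁻¹) * wW⁻¹) * dc := by rw [ht']; group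
      _ = X := by rw [e]; group
  have tame_c : ∀ u, Acts z Q p u midC → u * u = 1 → Tame z Q p k u := fun u hu huu =>
    F.pull_tame (Or.inr rfl) rfl hlc hdc wc hu huu
  suffices h : ∃ u, Acts z Q p u midC ∧ u * u = 1 ∧ Commute u X ∧ (zE u 4 = true ∨ zE u 8 = true) by
    obtain ⟨u, huA, huu, hux, hz⟩ := h
    have hM' : (midC, midC) ∈ midTable := by simp [midTable]
    have o1 : HatImg Q p k u 1 := hz.elim (F.img_one hM' huA hux s4 fC.1.2) (F.img_one hM' huA hux s8 fC.2)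
    obtain ⟨i, hi⟩ := F.img_mid hM' huA hux s16 n5
    obtain ⟨j, hj⟩ := F.img_mid hM' huA hux s32 n6
    obtain ⟨t0, h0, h00, hc⟩ := F.seed_of_img hux huu hj ((F.hm_img hux s112 hj).1.trans q112) o1 q1 hi
      ((F.hm_img hux s144 hi).1.trans q144) one_ne_zero ((F.hm_img hux s144 hi).2 (by norm_num)).1
      ((F.hm_img hux s144 hi).2 (by norm_num)).2.symm
    exact ⟨t0, h0, h00, (tame_c u huA huu).trans hc⟩
  by_cases h3 : zE t' 4 = true ∨ zE t' 8 = true
  · exact ⟨t', tA, ttt, tx, h3⟩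
  have ht4 : zE t' 4 = false := Bool.eq_false_iff.2 fun e => h3 (Or.inl e)
  have ht8 : zE t' 8 = false := Bool.eq_false_iff.2 fun e => h3 (Or.inr e)
  have gA : Acts z Q p (u1 * u2) midC := by
    have := F.sys.acts_mul (show midB.length = 8 from rfl) u1A u2A
    rwa [hAB] at this
  set q := (u1 * u2)⁻¹ * t' with hq
  have hqQ : q ∈ Q := F.sys.inv_mul_mem gA tA
  have htq : t' = u1 * u2 * q := by rw [hq, mul_inv_cancel_left]
  have hq1 : bb (p q) 1 = false := (F.comm_x hqQ).1 ((u1x.mul_left u2x).inv_left.mul_left tx)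
  have hM' : (midC, midC) ∈ midTable := by simp [midTable]
  have hg4 : zE (u1 * u2) 4 = false := by
    obtain ⟨w1, -, -⟩ := F.sOf_spec s4
    refine F.ze_false.2 ?_
    rw [show u1 * u2 * sS 4 * (u1 * u2)⁻¹ = u1 * (u2 * sS 4 * u2⁻¹) * u1⁻¹ by group,
      F.hp_conj u1x (F.sys'.large.conj_mem u2x w1) w1 (F.ze_false.1 hz2)]
    exact F.ze_false.1 hz1
  have hb4 : bb 4 (p q) = false := by
    have e := F.ze_shift hM' gA (u1x.mul_left u2x) s4 fC.1.2 hqQ hq1
    rw [← htq, ht4, hg4, Bool.false_xor] at e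
    exact e.symm
  obtain ⟨a, ha, hpa⟩ := F.sys.surj 4 (by norm_num)
  obtain ⟨c, hc, hpc⟩ := F.sys.surj 112 (by norm_num)
  have hta : t' * a * t'⁻¹ = a := by
    rw [htq, show u1 * u2 * q * a * (u1 * u2 * q)⁻¹ = u1 * u2 * (q * a * q⁻¹) * (u1 * u2)⁻¹ by group,
      F.sys.conj_eq ha hqQ, hpa, bb_comm, hb4, show sg z false = 1 from rfl, mul_one]
    exact mul_inv_eq_iff_eq_mul.2 ((u1c a ha (Or.inl hpa)).mul_left (u2c a ha (Or.inl hpa))).eq
  have htc := F.sys.img_inverted tA ttt hc (show (32 : Nat) < 256 by norm_num) (by rw [hpc, n6])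
  rw [hpc, q112, show sg z true = z from rfl] at htc
  set b := c * a with hb
  have hbQ : b ∈ Q := Q.mul_mem hc ha
  have hpb : p b = 116 := by rw [hb, F.sys.map_mul _ hc _ ha, hpc, hpa]; rfl
  have hb1 : bb (p b) 1 = false := by rw [hpb]; decide +kernel
  have htb : t' * b * t'⁻¹ = b * z := by
    rw [hb, show t' * (c * a) * t'⁻¹ = t' * c * t'⁻¹ * (t' * a * t'⁻¹) by group, htc, hta, mul_assoc,
      ← (F.sys.large.commute_z ha).eq, ← mul_assoc]
  refine ⟨t' * b, ?_, ?_, tx.mul_left ((F.comm_x hbQ).2 hb1), Or.inr ?_⟩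
  · have := F.sys.acts_mul (show one.length = 8 from rfl) tA (F.sys.acts_of_mem hbQ)
    rwa [hC1] at this
  · calc t' * b * (t' * b) = t' * b * t'⁻¹ * (t' * t') * b := by group
      _ = b * z * b := by rw [htb, ttt, mul_one]
      _ = z * (b * b) := by rw [(F.sys.large.commute_z hbQ).eq, mul_assoc]
      _ = 1 := by
        rw [F.sys.sq b hbQ, hpb, show qb 116 = true by decide +kernel]
        exact F.sys.large.mul_self_z
  · rw [F.ze_shift hM' tA tx s8 fC.2 hbQ hb1, ht8, hpb]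
    decide +kernel

/-- Involutions inducing the last standard map are tame. -/
theorem tame_four {t : G} (hA : Acts z Q p t (rep 4)) (htt : t * t = 1) : Tame z Q p k t := by
  obtain ⟨t0, h0A, h00, htame⟩ := F.exists_seed
  obtain ⟨q, hq, rfl, hfix, -⟩ := F.sys.coset h00 htt h0A hA
  have h := List.all_eq_true.1 rep_big 4 (by simp)
  simp only [Bool.and_eq_true, List.all_eq_true] at h
  have him := h.2 (p q) (List.mem_range.2 (F.sys.lt q hq))
  simp only [fixB, hfix, beq_self_eq_true, Bool.not_true, Bool.false_or] at him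
  obtain ⟨β, hβ, e | e⟩ := F.sys.conj_of_im h00 h0A hq him
  · exact htame.trans (isConj_iff.2 ⟨β, e⟩)
  obtain ⟨n, hn, hqn⟩ := List.any_eq_true.1 rep_four_img
  obtain ⟨c, hc, hpc⟩ := F.sys.surj (app (rep 4) n ^^^ n) (lt_xor (F.acts_lt h0A n (List.mem_range.1 hn))
    (List.mem_range.1 hn))
  have e1 := F.sys.img_inverted h0A h00 hc (List.mem_range.1 hn) hpc
  rw [hpc, hqn, show sg z true = z from rfl] at e1
  have hcz := F.sys.large.commute_z hc
  have ee : c⁻¹ * t0 * c = t0 * z := by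
    rw [mul_inv_eq_iff_eq_mul] at e1
    rw [mul_assoc, e1, mul_assoc c z, inv_mul_cancel_left, h0A.1.eq]
  have key : IsConj t0 (β * (t0 * z) * β⁻¹) :=
    (isConj_iff.2 ⟨c⁻¹, by rw [inv_inv, ee]⟩ : IsConj t0 (t0 * z)).trans (isConj_iff.2 ⟨β, rfl⟩)
  rw [show β * (t0 * z) * β⁻¹ = β * t0 * β⁻¹ * (β * z * β⁻¹) by group, e, (F.sys.large.commute_z hβ).eq,
    mul_inv_cancel_right, mul_assoc, F.sys.large.mul_self_z, mul_one] at key
  exact htame.trans key

/-- An involution over the first middle map with equal shifts is tame. -/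
theorem tame_even (hM' : (M, midA) ∈ midTable) (hA : Acts z Q p t M) (htx : Commute t X) (htt : t * t = 1)
    (ht1 : t ≠ 1) (he : zE t 4 = zE t 8) : Tame z Q p k t := by
  have hconj : IsConj (k⁻¹ * t * k) t := isConj_iff.2 ⟨k, by group⟩
  by_cases htQ : k⁻¹ * t * k ∈ Q
  · refine (F.tame_inner htQ ?_ ?_).trans hconj
    · calc k⁻¹ * t * k * (k⁻¹ * t * k) = k⁻¹ * (t * t) * k := by group
        _ = 1 := by rw [htt, mul_one, inv_mul_cancel]
    · intro e
      exact ht1 (by calc t = k * (k⁻¹ * t * k) * k⁻¹ := by group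
        _ = 1 := by rw [e]; group)
  have fA := List.all_eq_true.1 mid_fixed midA (by simp)
  simp only [Bool.and_eq_true, beq_iff_eq] at fA
  obtain ⟨s4, s8, -⟩ := F.sect_facts
  cases hz : zE t 4
  · obtain ⟨i, hi, t0, hA0, ht0, hc, C, hC, hinj, -, hfix⟩ := F.hat_rep htx htt htQ
    by_cases hlow : i = 0 ∨ i = 1
    · exact (F.tame_low hlow hA0 ht0).trans hc.symm
    exfalso
    obtain ⟨n1, n2, -⟩ := mid_numbers
    have hstep : ∀ u ∈ sect, ∀ v ∈ sect, HatFix Q p k t (hM u) → HatFix Q p k t (hM v) →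
        HatFix Q p k t (hM (u ^^^ v)) := by
      intro u hu v hv a b
      obtain ⟨j, e⟩ := F.hm_xor hu hv
      rw [e]
      have h1 := F.hatFix_xor htx a b
      cases j
      · simpa using h1
      · exact F.hatFix_xor htx h1 (F.hatFix_one hA.1)
    have hmid : ∀ a ∈ sect, ∀ r, app midA a ^^^ a = r → HatFix Q p k t (hM r) := by
      intro a ha r e
      obtain ⟨j, hj⟩ := F.img_mid hM' hA htx ha e
      have h1 := F.hatFix_img htx htt hj
      cases j
      · simpa using h1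
      · have := F.hatFix_xor htx h1 (F.hatFix_one hA.1)
        simpa [Nat.xor_assoc] using this
    have hbase : ∀ u, u ∈ [4, 8] → HatFix Q p k t (hM u) := by
      intro u hu
      simp only [List.mem_cons, List.not_mem_nil, or_false] at hu
      rcases hu with rfl | rfl
      · exact ⟨_, (F.sOf_spec s4).1, rfl, F.ze_false.1 hz⟩
      · exact ⟨_, (F.sOf_spec s8).1, rfl, F.ze_false.1 (he ▸ hz)⟩
    have hzero : HatFix Q p k t (hM 0) := by
      have h00 := hstep 4 s4 4 s4 (hbase 4 (by simp)) (hbase 4 (by simp))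
      rwa [Nat.xor_self] at h00
    have f128 := hmid 32 (by decide +kernel) 128 n1
    have f16 := hmid 64 (by decide +kernel) 16 n2
    have hall : ∀ u ∈ midFix, HatFix Q p k t (hM u) := by
      have hpick : ∀ (b : Bool) (r : Nat), HatFix Q p k t (hM r) → HatFix Q p k t (hM (bif b then r else 0)) := by
        intro b r hr
        cases b
        exacts [hzero, hr]
      intro u hu
      obtain ⟨n, -, rfl⟩ := List.mem_map.1 hu
      have hs : ∀ a b c d : Bool, (bif a then 4 else 0) ∈ sect ∧ (bif b then 8 else 0) ∈ sect ∧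
          (bif c then 128 else 0) ∈ sect ∧ (bif d then 16 else 0) ∈ sect ∧
          (bif c then 128 else 0) ^^^ (bif d then 16 else 0) ∈ sect ∧
          (bif b then 8 else 0) ^^^ ((bif c then 128 else 0) ^^^ (bif d then 16 else 0)) ∈ sect := by decide +kernel
      obtain ⟨a1, a2, a3, a4, a5, a6⟩ := hs (n.testBit 0) (n.testBit 1) (n.testBit 2) (n.testBit 3)
      exact hstep _ a1 _ a6 (hpick _ 4 (hbase 4 (by simp))) (hstep _ a2 _ a5 (hpick _ 8 (hbase 8 (by simp)))
        (hstep _ a3 _ a4 (hpick _ 128 f128) (hpick _ 16 f16)))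
    obtain ⟨hnd, hlen, hsect⟩ := midFix_ok
    have himg : ∀ x : Fin 16 × Bool, HatFix Q p k t
        (hM (midFix[(x.1 : ℕ)]'(hlen.symm ▸ x.1.2)) ^^^ (bif x.2 then 1 else 0)) := by
      rintro ⟨j, b⟩
      have h := hall _ (List.getElem_mem (show (j : ℕ) < midFix.length by omega))
      cases b
      · simpa using h
      · exact F.hatFix_xor htx h (F.hatFix_one hA.1)
    let f : Fin 16 × Bool → ↥((List.range 256).filter (fixB (rep i))).toFinset := fun x =>
      ⟨app C (hM (midFix[(x.1 : ℕ)]'(hlen.symm ▸ x.1.2)) ^^^ (bif x.2 then 1 else 0)), by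
        obtain ⟨hl, e⟩ := hfix _ (himg x)
        rw [List.mem_toFinset, List.mem_filter, List.mem_range, fixB, beq_iff_eq]
        exact ⟨(hC.2 _ hl).1, e⟩⟩
    have hf : Function.Injective f := by
      rintro ⟨j, b⟩ ⟨j', b'⟩ e
      have e1 := hinj _ (hfix _ (himg (j, b))).1 _ (hfix _ (himg (j', b'))).1 (congrArg Subtype.val e)
      set u := midFix[(j : ℕ)]'(hlen.symm ▸ j.2) with hu
      set u' := midFix[(j' : ℕ)]'(hlen.symm ▸ j'.2) with hu'
      have su : u ∈ sect := hsect _ (List.getElem_mem _)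
      have su' : u' ∈ sect := hsect _ (List.getElem_mem _)
      obtain ⟨l, el⟩ := F.hm_xor su su'
      have hx : u ^^^ u' = 0 := by
        refine F.hm_inj (List.contains_iff_mem.1 (List.all_eq_true.1 (List.all_eq_true.1 sect_xor u su) u' su')) ?_
        have e2 : hM u ^^^ hM u' = (bif b then 1 else 0) ^^^ (bif b' then 1 else 0) := by
          have := congrArg (fun n => n ^^^ hM u' ^^^ (bif b then 1 else 0)) e1
          simpa [Nat.xor_comm, Nat.xor_left_comm, Nat.xor_assoc] using this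
        rw [el, e2]
        cases b <;> cases b' <;> cases l <;> simp
      have huu : u = u' := Nat.xor_eq_zero_iff.1 hx
      obtain rfl : j = j' := Fin.ext ((List.Nodup.getElem_inj_iff hnd).1 huu)
      refine Prod.ext rfl ?_
      rw [← huu] at e1
      have e3 := congrArg (fun n => hM u ^^^ n) e1
      simp only [← Nat.xor_assoc, Nat.xor_self, Nat.zero_xor] at e3
      revert e3
      cases b <;> cases b' <;> simp
    have hcard := Fintype.card_le_of_injective f hf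
    simp only [Fintype.card_prod, Fintype.card_fin, Fintype.card_bool, Fintype.card_coe] at hcard
    have hmem : i ∈ [2, 3, 4] := by
      simp only [List.mem_cons, List.not_mem_nil, or_false]
      omega
    have hbig := List.all_eq_true.1 rep_big i hmem
    simp only [Bool.and_eq_true, decide_eq_true_eq] at hbig
    have := List.toFinset_card_le ((List.range 256).filter (fixB (rep i)))
    omega
  · obtain ⟨n1, n2, -⟩ := mid_numbers
    obtain ⟨t0, h0, h00, hc⟩ := F.seed_pair hM' hA htx htt fA.1.2 fA.2 hz (he ▸ hz)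
      (show 32 ∈ sect by decide +kernel) (show 64 ∈ sect by decide +kernel) n1 n2 (by simp)
    exact (F.tame_four h0 h00).trans hc.symm

/-- Involutions inducing the maps with singular residue are tame. -/
theorem tame_mid {t : G} {i v : Nat} (hiv : (i = 2 ∧ v = 4) ∨ (i = 3 ∧ v = 8)) (hA : Acts z Q p t (rep i))
    (htt : t * t = 1) : Tame z Q p k t := by
  obtain ⟨r2, r3, x2, x3, o2, o3⟩ := rep_two_three
  obtain ⟨s4, s8, -, -, -, -, -, -, -, q4, q8, -, -, -, -, -, q1, -, b41, b81, b48, b84, b44, b88, -⟩ := F.sect_facts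
  have hv : app (rep i) 2 ^^^ 2 = v ∧ qb v = false ∧ bb v 1 = false ∧ (bb 4 v ^^ bb 8 v) = true ∧
      (List.range 256).any (fun n => app (rep i) n ^^^ n == 1) = true ∧ comp (rep i) one = rep i ∧
      (rep i, midA) ∈ midTable ∧ rep i ≠ one ∧ v < 256 := by
    rcases hiv with ⟨rfl, rfl⟩ | ⟨rfl, rfl⟩
    · exact ⟨r2, q4, b41, by rw [b44, b84]; rfl, x2, o2, by simp [midTable], (rep_len 2 (by norm_num)).2, by norm_num⟩
    · exact ⟨r3, q8, b81, by rw [b48, b88]; rfl, x3, o3, by simp [midTable], (rep_len 3 (by norm_num)).2, by norm_num⟩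
  obtain ⟨hy, hqv, hv1, hbv, hx, ho, hM', hne, hv256⟩ := hv
  have fA := List.all_eq_true.1 mid_fixed midA (by simp)
  simp only [Bool.and_eq_true, beq_iff_eq] at fA
  have htx : Commute t X := by
    obtain ⟨n, hn, e⟩ := List.any_eq_true.1 hx
    have h := F.sys.img_inverted hA htt F.memQ (List.mem_range.1 hn) (by rw [F.px, beq_iff_eq.1 e])
    rw [F.px, q1, show sg z false = 1 from rfl, mul_one] at h
    exact mul_inv_eq_iff_eq_mul.1 h
  have ht1 : t ≠ 1 := fun e =>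
    hne (F.sys.acts_unique (by rcases hiv with ⟨rfl, -⟩ | ⟨rfl, -⟩ <;> rfl) rfl hA (e ▸ F.sys.acts_one))
  by_cases he : zE t 4 = zE t 8
  · exact F.tame_even hM' hA htx htt ht1 he
  obtain ⟨r, hr, hpr⟩ := F.sys.surj v hv256
  have hr1 : bb (p r) 1 = false := by rw [hpr]; exact hv1
  have hinv := F.sys.img_inverted hA htt hr (show (2 : Nat) < 256 by norm_num) (by rw [hpr, hy])
  rw [hpr, hqv, show sg z false = 1 from rfl, mul_one] at hinv
  have him : imB (rep i) (p r) = true := by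
    simp only [imB, List.any_eq_true, beq_iff_eq, List.mem_range]
    exact ⟨2, by norm_num, by rw [hpr, ← hy, Nat.xor_comm]⟩
  have key : ∀ e : Bool, Acts z Q p (t * (r * sg z e)) (rep i) ∧ t * (r * sg z e) * (t * (r * sg z e)) = 1 ∧
      Tame z Q p k (t * (r * sg z e)) := by
    intro e
    have hq : r * sg z e ∈ Q := Q.mul_mem hr (F.sys.sg_mem e)
    have hpq : p (r * sg z e) = v := by
      rw [F.sys.map_mul _ hr _ (F.sys.sg_mem e), F.sys.p_sg, Nat.xor_zero, hpr]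
    have hA' : Acts z Q p (t * (r * sg z e)) (rep i) := by
      have := F.sys.acts_mul (show one.length = 8 from rfl) hA (F.sys.acts_of_mem hq)
      rwa [ho] at this
    have hsq : t * (r * sg z e) * (t * (r * sg z e)) = 1 := by
      have hcm : Commute t (r * sg z e) :=
        Commute.mul_right (mul_inv_eq_iff_eq_mul.1 hinv) (F.sys.sg_comm hA.1 e)
      rw [mul_assoc, ← mul_assoc (r * sg z e), ← hcm.eq, mul_assoc, F.sys.sq _ hq, hpq, hqv, ← mul_assoc, htt,
        one_mul]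
      rfl
    refine ⟨hA', hsq, F.tame_even hM' hA' (htx.mul_left ((F.comm_x hq).2 (by rw [hpq]; exact hv1))) hsq ?_ ?_⟩
    · intro e1
      exact hne (F.sys.acts_unique (by rcases hiv with ⟨rfl, -⟩ | ⟨rfl, -⟩ <;> rfl) rfl hA'
        (e1 ▸ F.sys.acts_one))
    · rw [F.ze_shift hM' hA htx s4 fA.1.2 hq (by rw [hpq]; exact hv1),
        F.ze_shift hM' hA htx s8 fA.2 hq (by rw [hpq]; exact hv1), hpq]
      revert he hbv
      cases zE t 4 <;> cases zE t 8 <;> cases bb 4 v <;> cases bb 8 v <;> simp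
  obtain ⟨β, hβ, e | e⟩ := F.sys.conj_of_im htt hA hr him
  · obtain ⟨-, -, h⟩ := key false
    rw [show sg z false = 1 from rfl, mul_one] at h
    exact h.trans (isConj_iff.2 ⟨β, e⟩ : IsConj t (t * r)).symm
  · obtain ⟨-, -, h⟩ := key true
    rw [show sg z true = z from rfl, ← mul_assoc] at h
    exact h.trans (isConj_iff.2 ⟨β, e⟩ : IsConj t (t * r * z)).symm

/-- Every involution is conjugate to one of three. -/
theorem classify {x : G} (hx : x * x = 1) (hx1 : x ≠ 1) : Tame z Q p k x := by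
  obtain ⟨T, -, -, hglob, -⟩ := F.exists_inv_reps
  obtain ⟨g, hg⟩ := hglob x hx
  have hc : IsConj x (g * x * g⁻¹) := isConj_iff.2 ⟨g, rfl⟩
  refine Tame.trans ?_ hc.symm
  have h2 : g * x * g⁻¹ * (g * x * g⁻¹) = 1 := conj_sq_one hx g
  by_cases hQ : g * x * g⁻¹ ∈ Q
  · exact F.tame_inner hQ h2 fun e => hx1 (conj_eq_one_iff.1 e)
  obtain ⟨c, hcz, i, hi, hA⟩ := F.cases_invol hg h2 hQ
  refine Tame.trans ?_ (isConj_iff.2 ⟨c, rfl⟩ : IsConj (g * x * g⁻¹) (c * (g * x * g⁻¹) * c⁻¹)).symm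
  have h3 := conj_sq_one h2 c
  interval_cases i
  · exact F.tame_low (Or.inl rfl) hA h3
  · exact F.tame_low (Or.inr rfl) hA h3
  · exact F.tame_mid (Or.inl ⟨rfl, rfl⟩) hA h3
  · exact F.tame_mid (Or.inr ⟨rfl, rfl⟩) hA h3
  · exact F.tame_four hA h3

end Frame

end CfsgLib.Recog.CoOneType
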