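import Cfsg.Agent.Lib.Recog.CoOneType.Distinct
import Cfsg.Agent.Lib.Recog.CoOneType.Climb

/-!
The two outer standard involutions are not conjugate: the powers of two dividing their centralizers differ
(owner: helper12).
-/

set_option autoImplicit false
set_option linter.unusedSectionVars false
set_option linter.unusedVariables false
set_option linter.style.haveILetI false
set_option quotPrecheck false

namespace CfsgLib.Recog.CoOneType

open CfsgLib.ThreeTrans

variable {G : Type*} [Group G] [Finite G] {z : G} {Q : Subgroup G} {p : G → Nat} {k : G}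

namespace Frame

variable (F : Frame z Q p k)
include F

local notation "X" => k * z * k⁻¹
local notation "P" => Q.map (MulAut.conj k).toMonoidHom
local notation "sS" => sOf z Q p k
local notation "uU" => uEl z Q p k
local notation "wW" => wEl z Q p k

theorem card_centralizer_conj {a b : G} (h : IsConj a b) :
    Nat.card (Subgroup.centralizer ({a} : Set G)) = Nat.card (Subgroup.centralizer ({b} : Set G)) := by
  obtain ⟨c, rfl⟩ := isConj_iff.1 h
  refine Nat.card_congr ((MulAut.conj c).toEquiv.subtypeEquiv fun x => ?_)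
  rw [Subgroup.mem_centralizer_singleton_iff, Subgroup.mem_centralizer_singleton_iff]
  show x * a = a * x ↔ c * x * c⁻¹ * (c * a * c⁻¹) = c * a * c⁻¹ * (c * x * c⁻¹)
  rw [show c * x * c⁻¹ * (c * a * c⁻¹) = c * (x * a) * c⁻¹ by group,
    show c * a * c⁻¹ * (c * x * c⁻¹) = c * (a * x) * c⁻¹ by group, mul_left_inj, mul_right_inj]

/-- The centralizer of the element over the singular map contains a group of order `2 ^ 18`. -/
theorem dvd_centralizer_u : 2 ^ 18 ∣ Nat.card (Subgroup.centralizer ({uU} : Set G)) := by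
  classical
  obtain ⟨hs, hsA, hss, hfn, -, -⟩ := F.near_base
  obtain ⟨hr, hpr⟩ := F.aOf_spec (show (144 : Nat) < 256 by norm_num)
  obtain ⟨f144, q144, hlen⟩ := point_facts
  have hf144 : app (rho 4) 144 = 144 := by simpa [fixB] using f144
  set t := sS 4 * aOf Q p 144 with ht
  have htA : Acts z Q p t (rho 4) := by
    have := F.sys.acts_mul (show one.length = 8 from rfl) hsA (F.sys.acts_of_mem hr)
    rwa [show comp (rho 4) one = rho 4 by decide +kernel] at this
  have htf : Fn z Q p 4 t 144 := by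
    have := F.sys.fn_shift hsA.1 hfn hr
    rwa [hpr, Nat.zero_xor] at this
  have htt : t * t = 1 := by
    have e := hfn _ hr (by rw [hpr]; exact hf144)
    rw [show bb 0 (p (aOf Q p 144)) = false by rw [bb_comm, bb_zero], show sg z false = 1 from rfl, mul_one] at e
    calc t * t = sS 4 * aOf Q p 144 * (sS 4)⁻¹ * (sS 4 * sS 4) * aOf Q p 144 := by rw [ht]; group
      _ = 1 := by rw [e, hss, mul_one, F.sys.sq _ hr, hpr, q144]; rfl
  have hconj : IsConj uU t := by
    rcases F.near_class htA htt with ⟨-, h0⟩ | ⟨c, -, e⟩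
    · exfalso
      obtain ⟨β, hβ, hpβ⟩ := F.sys.surj 32 (by norm_num)
      have hf : app (rho 4) (p β) = p β := by rw [hpβ]; decide +kernel
      have e := F.sys.sg_inj (mul_left_cancel ((h0 β hβ hf).symm.trans (htf β hβ hf)))
      rw [hpβ, show bb 0 32 = false by decide +kernel, show bb 144 32 = true by decide +kernel] at e
      exact Bool.noConfusion e
    · exact isConj_iff.2 ⟨c, e⟩
  rw [F.card_centralizer_conj hconj]
  obtain ⟨T, hcard, hQT, hT⟩ := F.exists_sylow
  set L := (List.range 256).filter fun n => fixB (rho 4) n &&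
    ((List.range 256).filter (fixB (rho 4))).all fun y => bb n y == bb 144 y with hL
  have hsub : Set.range (fun c : T => (c : G) * t * (c : G)⁻¹) ⊆
      ↑((L.toFinset ×ˢ (Finset.univ : Finset Bool)).image fun x => sS 4 * (aOf Q p x.1 * sg z x.2)) := by
    rintro _ ⟨⟨c, hc⟩, rfl⟩
    obtain ⟨v, hv, a, ha, hca⟩ := (hT c).1 hc
    have hla := F.sys.mid_len ha
    have m1 := List.all_eq_true.1 (List.all_eq_true.1 mid_rho a ha) 4 (by decide +kernel)
    simp only [Bool.and_eq_true, beq_iff_eq, beq_iff_eq.1 (List.all_eq_true.1 mid_four a ha)] at m1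
    have hcomm : comp (comp (rho v) a.1) (rho 4) = comp (rho 4) (comp (rho v) a.1) := by
      have r1 := List.all_eq_true.1 (List.all_eq_true.1 rho_comp v hv) 4 (by decide +kernel)
      have r2 := List.all_eq_true.1 (List.all_eq_true.1 rho_comp 4 (by decide +kernel)) v hv
      rw [beq_iff_eq] at r1 r2
      rw [← comp_assoc hla, m1.2, comp_assoc (length_rho 4), comp_assoc (length_rho v), r1, r2, Nat.xor_comm]
    have hm : ∀ y ∈ fixList 4, bb 144 y = bb 144 (app (comp (rho v) a.1) y) := by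
      intro y hy
      have s1 := List.all_eq_true.1 (List.all_eq_true.1 sylow_point a ha) y hy
      simp only [Bool.and_eq_true, Bool.or_eq_true, beq_iff_eq] at s1
      have hy' : app a.1 y ∈ (List.range 256).filter (fixB (rho 4)) := by
        rcases s1.1 with e | e
        · rw [e]; exact hy
        · obtain ⟨d, hd⟩ := F.sys.mid_lift ha
          exact List.mem_filter.2 ⟨List.mem_range.2 (F.acts_lt hd y (mem_fixList.1 hy).1), e⟩
      have s2 := List.all_eq_true.1 (List.all_eq_true.1 sect_four v hv) _ hy'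
      rw [beq_iff_eq] at s2
      rw [app_comp hla, s2, s1.2]
    have h2A := F.sys.acts_conj (F.sys.len_pair ha v) (length_rho 4) (length_rho 4) hca htA hcomm
    have h2f := F.sys.fn_conj (by decide +kernel) (F.sys.len_pair ha v) htA htf hca hcomm hm
    obtain ⟨q, hq, e, hfix, -⟩ := F.sys.coset hss (conj_sq_one htt c) hsA h2A
    have hfn2 := F.sys.fn_shift hsA.1 hfn hq
    rw [Nat.zero_xor] at hfn2
    have hqL : p q ∈ L := by
      simp only [hL, List.mem_filter, List.mem_range, Bool.and_eq_true, List.all_eq_true, beq_iff_eq, fixB]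
      refine ⟨F.sys.lt q hq, hfix, fun y hy => ?_⟩
      obtain ⟨b, hb, rfl⟩ := F.sys.surj y hy.1
      have e1 := h2f b hb hy.2
      rw [e] at e1
      exact F.sys.sg_inj (mul_left_cancel ((hfn2 b hb hy.2).symm.trans e1))
    obtain ⟨ha1, ha2⟩ := F.aOf_spec (F.sys.lt q hq)
    obtain ⟨i, hi⟩ := F.sys.eq_of_p ha1 hq ha2
    simp only [Finset.coe_image, Set.mem_image, Finset.mem_coe]
    exact ⟨(p q, i), Finset.mem_product.2 ⟨List.mem_toFinset.2 hqL, Finset.mem_univ _⟩, by rw [← hi, ← e]⟩
  have hr8 : Nat.card (Set.range fun c : T => (c : G) * t * (c : G)⁻¹) ≤ 8 := by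
    refine (Nat.card_mono (Finset.finite_toSet _) hsub).trans ?_
    rw [Nat.card_eq_card_toFinset, Finset.toFinset_coe]
    refine Finset.card_image_le.trans ?_
    rw [Finset.card_product, Finset.card_univ, Fintype.card_bool]
    have := List.toFinset_card_le L
    have : L.length ≤ 4 := hlen
    omega
  have horb := card_conj_orbit T t
  rw [hcard] at horb
  obtain ⟨j, hj, hrj⟩ := (Nat.dvd_prime_pow Nat.prime_two).1 (Dvd.intro _ horb.symm)
  rw [hrj] at horb hr8
  have hj3 : j ≤ 3 := (Nat.pow_le_pow_iff_right (by norm_num)).1 (hr8.trans (by norm_num : 8 ≤ 2 ^ 3))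
  refine (Dvd.dvd.trans ?_ (dvd_refl _)).trans (Subgroup.card_dvd_of_le
    (inf_le_right : T ⊓ Subgroup.centralizer ({t} : Set G) ≤ Subgroup.centralizer ({t} : Set G)))
  refine (Nat.mul_dvd_mul_iff_left (show 0 < 2 ^ j by positivity)).1 ?_
  rw [← horb, ← pow_add]
  exact pow_dvd_pow 2 (by omega)

/-- The centralizer of `z` and the element over the nonsingular map. -/
theorem not_dvd_both : ¬ 2 ^ 18 ∣
    Nat.card (Subgroup.centralizer ({z} : Set G) ⊓ Subgroup.centralizer ({wW} : Set G) : Subgroup G) := by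
  classical
  obtain ⟨hA, hww, hfn⟩ := F.wEl_spec
  intro hdvd
  let H : Subgroup G :=
    { carrier := {c | Commute c z ∧ wW⁻¹ * (c * wW * c⁻¹) ∈ Q}
      one_mem' := ⟨Commute.one_left z, by
        rw [one_mul, inv_one, mul_one, inv_mul_cancel]; exact Q.one_mem⟩
      mul_mem' := fun {a b} ha hb => ⟨ha.1.mul_left hb.1, by
        have := Q.mul_mem ha.2 (F.sys.large.conj_mem ha.1 hb.2)
        rwa [show wW⁻¹ * (a * wW * a⁻¹) * (a * (wW⁻¹ * (b * wW * b⁻¹)) * a⁻¹) =
          wW⁻¹ * (a * b * wW * (a * b)⁻¹) by group] at this⟩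
      inv_mem' := fun {a} ha => ⟨ha.1.inv_left, by
        have := Q.inv_mem (F.sys.large.conj_mem ha.1.inv_left ha.2)
        rwa [show (a⁻¹ * (wW⁻¹ * (a * wW * a⁻¹)) * a⁻¹⁻¹)⁻¹ = wW⁻¹ * (a⁻¹ * wW * a⁻¹⁻¹) by group] at this⟩ }
  have hle : H ≤ Subgroup.centralizer ({z} : Set G) := fun c hc => mem_centralizer_singleton_iff'.2 hc.1.eq
  have hHD : H ⊓ Subgroup.centralizer ({wW} : Set G) =
      Subgroup.centralizer ({z} : Set G) ⊓ Subgroup.centralizer ({wW} : Set G) := by
    refine le_antisymm (inf_le_inf_right _ hle) (fun c hc => ⟨⟨mem_centralizer_singleton_iff'.1 hc.1, ?_⟩, hc.2⟩)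
    have e : c * wW = wW * c := mem_centralizer_singleton_iff'.1 hc.2
    rw [e, mul_inv_cancel_right, inv_mul_cancel]
    exact Q.one_mem
  set L := (List.range 256).filter fun n => fixB (rho 12) n && (qb n == bb 52 n) with hL
  have hlen : L.length = 24 := far_solutions
  have hnd : L.Nodup := List.nodup_range.filter _
  have hLm : ∀ n ∈ L, n < 256 ∧ app (rho 12) n = n ∧ qb n = bb 52 n := fun n hn => by
    simpa [hL, fixB] using hn
  have hH : ∀ x : Fin L.length × Bool, ∃ c : H,
      (c : G) * wW * (c : G)⁻¹ = wW * (aOf Q p (L[(x.1 : ℕ)]'x.1.2) * sg z x.2) := by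
    intro x
    obtain ⟨hlt, hf, hq⟩ := hLm _ (List.getElem_mem x.1.2)
    obtain ⟨ha, hpa⟩ := F.aOf_spec hlt
    set q := aOf Q p (L[(x.1 : ℕ)]'x.1.2) * sg z x.2 with hqdef
    have hqQ : q ∈ Q := Q.mul_mem ha (F.sys.sg_mem _)
    have hpq : p q = L[(x.1 : ℕ)]'x.1.2 := by
      rw [hqdef, F.sys.map_mul _ ha _ (F.sys.sg_mem _), F.sys.p_sg, Nat.xor_zero, hpa]
    have hqA : Acts z Q p (wW * q) (rho 12) := by
      have := F.sys.acts_mul (show one.length = 8 from rfl) hA (F.sys.acts_of_mem hqQ)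
      rwa [show comp (rho 12) one = rho 12 by decide +kernel] at this
    have hqq : wW * q * (wW * q) = 1 := by
      calc wW * q * (wW * q) = wW * q * wW⁻¹ * (wW * wW) * q := by group
        _ = q * sg z (bb 52 (p q)) * q := by rw [hfn q hqQ (by rw [hpq]; exact hf), hww, mul_one]
        _ = q * q * sg z (bb 52 (p q)) := by
          rw [mul_assoc q, ← (F.sys.sg_comm (F.sys.large.commute_z hqQ) _).eq, ← mul_assoc q]
        _ = 1 := by rw [F.sys.sq q hqQ, F.sys.sg_mul, hpq, hq, Bool.xor_self]; rfl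
    obtain ⟨c, hcz, e⟩ := F.far_class hqA hqq
    exact ⟨⟨c, hcz, by rw [e, inv_mul_cancel_left]; exact hqQ⟩, e⟩
  let f : Fin L.length × Bool → Set.range (fun c : H => (c : G) * wW * (c : G)⁻¹) := fun x =>
    ⟨wW * (aOf Q p (L[(x.1 : ℕ)]'x.1.2) * sg z x.2), (hH x).choose, (hH x).choose_spec⟩
  have hf : Function.Bijective f := by
    constructor
    · rintro ⟨i, b⟩ ⟨j, b'⟩ e
      have e' := mul_left_cancel (congrArg Subtype.val e)
      obtain ⟨hi, hpi⟩ := F.aOf_spec (hLm _ (List.getElem_mem i.2)).1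
      obtain ⟨hj, hpj⟩ := F.aOf_spec (hLm _ (List.getElem_mem j.2)).1
      have ep := congrArg p e'
      simp only at ep e'
      rw [F.sys.map_mul _ hi _ (F.sys.sg_mem _), F.sys.map_mul _ hj _ (F.sys.sg_mem _), F.sys.p_sg, F.sys.p_sg,
        Nat.xor_zero, Nat.xor_zero, hpi, hpj] at ep
      obtain rfl : i = j := Fin.ext ((List.Nodup.getElem_inj_iff hnd).1 ep)
      exact Prod.ext rfl (F.sys.sg_inj (mul_left_cancel e'))
    · rintro ⟨_, ⟨c, hcz, hcQ⟩, rfl⟩
      have h2A : Acts z Q p (c * wW * c⁻¹) (rho 12) := by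
        have := F.sys.acts_mul (show one.length = 8 from rfl) hA (F.sys.acts_of_mem hcQ)
        rwa [mul_inv_cancel_left, show comp (rho 12) one = rho 12 by decide +kernel] at this
      obtain ⟨q, hq, e, hfix, e2⟩ := F.sys.coset hww (conj_sq_one hww c) hA h2A
      have hsol : qb (p q) = bb 52 (p q) := F.sys.sg_inj (mul_left_cancel (e2.symm.trans (hfn q hq hfix)))
      have hqL : p q ∈ L := by
        simp only [hL, List.mem_filter, List.mem_range, fixB, Bool.and_eq_true, beq_iff_eq]
        exact ⟨F.sys.lt q hq, hfix, hsol⟩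
      obtain ⟨i, hi, hiq⟩ := List.getElem_of_mem hqL
      obtain ⟨ha, hpa⟩ := F.aOf_spec (F.sys.lt q hq)
      obtain ⟨b, hb⟩ := F.sys.eq_of_p ha hq hpa
      refine ⟨(⟨i, hi⟩, b), Subtype.ext ?_⟩
      show wW * (aOf Q p L[i] * sg z b) = c * wW * c⁻¹
      rw [hiq, ← hb, ← e]
  have horb := card_conj_orbit H wW
  rw [← Nat.card_eq_of_bijective f hf, Nat.card_prod, Nat.card_fin, hlen,
    Nat.card_eq_fintype_card (α := Bool), Fintype.card_bool, hHD] at horb
  obtain ⟨m, hm⟩ := hdvd
  have hdd := Subgroup.card_dvd_of_le hle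
  rw [horb, hm, F.sys.cardC] at hdd
  obtain ⟨n, hn⟩ := hdd
  generalize hmn : m * n = j at *
  have e : 2 ^ 9 * 174182400 = 24 * 2 * 2 ^ 18 * j := by rw [hn, ← hmn]; ring
  norm_num at e
  omega

/-- An element centralizing `wEl` but moving `x`. -/
theorem exists_toggle : ∃ g, Commute g z ∧ Commute g wW ∧ ¬ Commute g X := by
  obtain ⟨hA, hww, hfn⟩ := F.wEl_spec
  obtain ⟨w1, wc, w52, -, -, hfl⟩ := wordH_facts
  obtain ⟨hl, c, hc⟩ := F.sys.acts_word wordH
  obtain ⟨d, hd, hdx⟩ := F.exists_fix hc w1 hl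
  obtain ⟨-, h12, -⟩ := lift_numbers
  obtain ⟨hs, hsz, hsA⟩ := F.sOf_spec h12
  obtain ⟨hr, hpr⟩ := F.aOf_spec (show (52 : Nat) < 256 by norm_num)
  set s := sS 12 with hsdef
  set r := aOf Q p 52 with hrdef
  set t2 := d * wW * d⁻¹ with ht2
  have h2A : Acts z Q p t2 (rho 12) := F.sys.acts_conj hl (length_rho 12) (length_rho 12) hd hA wc
  have hs2 := F.sys.acts_conj hl (length_rho 12) (length_rho 12) hd hsA wc
  have hsP : d * s * d⁻¹ ∈ P := F.sys'.large.conj_mem hdx hs
  have hsQ : s⁻¹ * (d * s * d⁻¹) ∈ Q := F.sys.inv_mul_mem hsA hs2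
  obtain ⟨i, j, e⟩ := F.inter hsQ (Subgroup.mul_mem _ (Subgroup.inv_mem _ hs) hsP)
  have hdr : d * r * d⁻¹ ∈ Q := F.sys.large.conj_mem hd.1 hr
  set q := wW⁻¹ * t2 with hq
  have hqQ : q ∈ Q := F.sys.inv_mul_mem hA h2A
  have hq' : q = r⁻¹ * (sg z i * sg X j) * (d * r * d⁻¹) := by
    rw [← e, hq, ht2, show wW = s * r from rfl]; group
  have hpq : p q = 12 ∨ p q = 13 := by
    rw [hq', F.sys.map_mul _ (Q.mul_mem (Q.inv_mem hr) (F.pair_mem i j).1) _ hdr,
      F.sys.map_mul _ (Q.inv_mem hr) _ (F.pair_mem i j).1, F.sys.p_inv hr, hd.2 r hr, hpr, F.p_pair, w52]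
    cases j
    · exact Or.inl rfl
    · exact Or.inr rfl
  have him : imB (rho 12) (p q) = true := by
    rcases hpq with e' | e' <;> rw [e'] <;> decide +kernel
  obtain ⟨β, hβ, hcase⟩ := F.sys.conj_of_im hww hA hqQ him
  rw [show wW * q = t2 by rw [hq, mul_inv_cancel_left]] at hcase
  have hβz := F.sys.large.commute_z hβ
  have hβb : bb (p β) 1 = true := by
    have h := List.all_eq_true.1 hfl (p β) (List.mem_range.2 (F.sys.lt β hβ))
    have hval : app (rho 12) (p β) ^^^ p β = p q := by
      obtain ⟨i', hi'⟩ : ∃ i', β * wW * β⁻¹ = wW * q * sg z i' := by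
        rw [show wW * q = t2 by rw [hq, mul_inv_cancel_left]]
        rcases hcase with e' | e'
        · exact ⟨false, e'.trans (mul_one t2).symm⟩
        · exact ⟨true, e'⟩
      have h1 : wW⁻¹ * β * wW⁻¹⁻¹ * β⁻¹ = q * sg z i' := by
        calc wW⁻¹ * β * wW⁻¹⁻¹ * β⁻¹ = wW⁻¹ * (β * wW * β⁻¹) := by group
          _ = q * sg z i' := by rw [hi', mul_assoc wW, inv_mul_cancel_left]
      have h2 := congrArg p h1
      rw [F.sys.map_mul _ (F.sys.large.conj_mem hA.1.inv_left hβ) _ (Q.inv_mem hβ), F.sys.p_inv hβ,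
        F.sys.map_mul _ hqQ _ (F.sys.sg_mem _), F.sys.p_sg, Nat.xor_zero, inv_of_sq hww, hA.2 β hβ] at h2
      exact h2
    simp only [hval, Bool.or_eq_true, Bool.not_eq_true', Bool.or_eq_false_iff, beq_eq_false_iff_ne] at h
    refine h.resolve_right fun hh => ?_
    rcases hpq with e' | e'
    · exact hh.1 e'
    · exact hh.2 e'
  have hnc : ¬ Commute β X := fun hcm => by
    have := (F.comm_x hβ).1 hcm
    rw [hβb] at this
    exact Bool.noConfusion this
  rcases hcase with e' | e'
  · refine ⟨β⁻¹ * d, hβz.inv_left.mul_left hd.1, ?_, fun hcm => hnc ?_⟩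
    · refine mul_inv_eq_iff_eq_mul.1 ?_
      rw [show β⁻¹ * d * wW * (β⁻¹ * d)⁻¹ = β⁻¹ * t2 * β by rw [ht2]; group, ← e']
      group
    · have := (hdx.mul_left hcm.inv_left)
      rwa [show d * (β⁻¹ * d)⁻¹ = β by group] at this
  · obtain ⟨γ, hγ, hpγ, eγ⟩ := F.sys.fn_toggle (n := 16) hww hA.1 hfn (by norm_num)
      (by decide +kernel) (by decide +kernel)
    have hγx : Commute γ X := (F.comm_x hγ).2 (by rw [hpγ]; decide +kernel)
    have hγz := F.sys.large.commute_z hγ
    refine ⟨γ⁻¹ * β⁻¹ * d, (hγz.inv_left.mul_left hβz.inv_left).mul_left hd.1, ?_, fun hcm => hnc ?_⟩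
    · refine mul_inv_eq_iff_eq_mul.1 ?_
      have e1 : β⁻¹ * t2 * β = wW * z := by
        have ht2' : t2 = β * wW * β⁻¹ * z := by rw [e', mul_assoc, F.sys.large.mul_self_z, mul_one]
        rw [ht2', show β⁻¹ * (β * wW * β⁻¹ * z) * β = wW * (β⁻¹ * (z * β)) by group, ← hβz.eq,
          inv_mul_cancel_left]
      rw [show γ⁻¹ * β⁻¹ * d * wW * (γ⁻¹ * β⁻¹ * d)⁻¹ = γ⁻¹ * (β⁻¹ * t2 * β) * γ by rw [ht2]; group, e1, ← eγ]
      group
    · have := (hdx.mul_left hcm.inv_left).mul_left hγx.inv_left
      rwa [show d * (γ⁻¹ * β⁻¹ * d)⁻¹ * γ⁻¹ = β by group] at this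

/-- The centralizer of the element over the nonsingular map has no subgroup of order `2 ^ 18`. -/
theorem not_dvd_centralizer_w : ¬ 2 ^ 18 ∣ Nat.card (Subgroup.centralizer ({wW} : Set G)) := by
  classical
  haveI : Fact (Nat.Prime 2) := ⟨Nat.prime_two⟩
  intro hdvd
  obtain ⟨hA, hww, hfn⟩ := F.wEl_spec
  set E := Subgroup.centralizer ({wW} : Set G) with hE
  set D : Subgroup E := (Subgroup.centralizer ({z} : Set G)).subgroupOf E with hD
  have hDmem : ∀ e : E, e ∈ D ↔ Commute (e : G) z := fun e =>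
    ⟨fun h => mem_centralizer_singleton_iff'.1 (Subgroup.mem_subgroupOf.1 h),
      fun h => Subgroup.mem_subgroupOf.2 (mem_centralizer_singleton_iff'.2 h.eq)⟩
  have hEmem : ∀ e : E, Commute (e : G) wW := fun e => mem_centralizer_singleton_iff'.1 e.2
  have hcardD : Nat.card D =
      Nat.card (Subgroup.centralizer ({z} : Set G) ⊓ E : Subgroup G) := by
    rw [hD, ← Subgroup.inf_subgroupOf_right]
    exact Nat.card_congr (Subgroup.subgroupOfEquivOfLe inf_le_right).toEquiv
  let R : Sylow 2 D := default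
  refine F.not_dvd_both ?_
  rw [← hcardD]
  refine dvd_of_normalizer_le R (fun n hn => ?_) hdvd
  rw [hDmem]
  -- the lifts commuting with `wEl` form a normal subgroup of `D`
  let N0 : Subgroup D := Q.comap (E.subtype.comp D.subtype)
  haveI : N0.Normal := ⟨fun a ha d => by
    show (((d * a * d⁻¹ : D) : E) : G) ∈ Q
    exact F.sys.large.conj_mem ((hDmem _).1 d.2) (ha : ((a : E) : G) ∈ Q)⟩
  have hQ2 : IsPGroup 2 Q := IsPGroup.of_card (n := 9) (by rw [F.sys.card]; norm_num)
  have hN : N0 ≤ (R : Subgroup D) := by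
    refine IsPGroup.le_sylow_of_normal (hQ2.comap_of_injective _ ?_) R
    exact fun a b e => Subtype.ext (Subtype.ext e)
  have hzE : z ∈ E := mem_centralizer_singleton_iff'.2 hA.1.symm.eq
  have hzD : (⟨z, hzE⟩ : E) ∈ D := (hDmem _).2 (Commute.refl z)
  have hzR : (⟨z, hzE⟩ : E) ∈ (R : Subgroup D).map D.subtype :=
    ⟨⟨_, hzD⟩, hN (show z ∈ Q from F.sys.large.z_mem), rfl⟩
  set v : G := n * z * (n : G)⁻¹ with hv
  have hvR : n * (⟨z, hzE⟩ : E) * n⁻¹ ∈ (R : Subgroup D).map D.subtype := (hn _).1 hzR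
  have hvD : Commute v z := by
    obtain ⟨d, -, hd⟩ := hvR
    have := (hDmem _).1 d.2
    rwa [show (d : E) = n * (⟨z, hzE⟩ : E) * n⁻¹ from hd] at this
  have hvW : Commute v wW := hEmem (n * (⟨z, hzE⟩ : E) * n⁻¹)
  have hvcomm : ∀ e ∈ (R : Subgroup D).map D.subtype, Commute (e : G) v := by
    intro e he
    have h1 : n⁻¹ * e * n ∈ (R : Subgroup D).map D.subtype := by
      refine (hn _).2 ?_
      rwa [show n * (n⁻¹ * e * n) * n⁻¹ = e by group]
    obtain ⟨d, -, hd⟩ := h1
    have h2 := (hDmem _).1 d.2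
    rw [show (d : E) = n⁻¹ * e * n from hd] at h2
    have h3 := (LargeData.commute_conj_iff' (g := (n : G))).2 h2
    simp only [Subgroup.coe_mul, Subgroup.coe_inv] at h3
    rwa [show (n : G) * ((n : G)⁻¹ * e * n) * (n : G)⁻¹ = (e : G) by group] at h3
  have hlifts : ∀ a ∈ Q, Commute a wW → Commute a v := fun a ha haW =>
    hvcomm ⟨a, mem_centralizer_singleton_iff'.2 haW.eq⟩
      ⟨(⟨⟨a, mem_centralizer_singleton_iff'.2 haW.eq⟩, (hDmem _).2 (F.sys.large.commute_z ha)⟩ : D),
        hN ha, rfl⟩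
  have hvv : v * v = 1 := conj_sq_one F.sys.large.mul_self_z _
  suffices hvz : v = z by
    have := hvz
    rw [hv, mul_inv_eq_iff_eq_mul] at this
    exact this
  by_contra hvz
  have hker : ∀ y ∈ kerW, ∀ a ∈ Q, p a = y → Commute a wW := by
    intro y hy a ha hpa
    subst hpa
    have h1 := List.all_eq_true.1 ker_ok.2 _ hy
    simp only [Bool.and_eq_true, Bool.not_eq_true', fixB, beq_iff_eq] at h1
    have e := hfn a ha h1.1
    rw [h1.2] at e
    exact (mul_inv_eq_iff_eq_mul.1 (e.trans (mul_one a))).symm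
  have hK' : ∀ y ∈ kerW, y < 256 := by decide
  by_cases hvQ : v ∈ Q
  · -- `v` is `x` up to `z`
    have hv1 : v ≠ 1 := fun e => F.sys.large.z_ne_one (conj_eq_one_iff.1 e)
    have hchar : ∀ a ∈ Q, Commute a wW → (∀ b ∈ Q, Commute b wW → Commute b a) → p a = 0 ∨ p a = 1 := by
      intro a ha haW hcen
      have hf : app (rho 12) (p a) = p a := by
        rw [← hA.2 a ha, ← haW.eq, mul_inv_cancel_right]
      have hb : bb 52 (p a) = false := by
        have e := hfn a ha hf
        rw [← haW.eq, mul_inv_cancel_right] at e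
        exact (F.sys.sg_inj (mul_left_cancel ((mul_one a).trans e))).symm
      have h := List.all_eq_true.1 kerW_perp _ (List.mem_range.2 (F.sys.lt a ha))
      simp only [fixB, hf, beq_self_eq_true, Bool.not_true, Bool.false_or, hb, Bool.or_eq_true, beq_iff_eq,
        List.any_eq_true] at h
      rcases h with (e | e) | ⟨y, hy, hby⟩
      · exact Or.inl e
      · exact Or.inr e
      · obtain ⟨b, hb', hpb⟩ := F.sys.surj y (hK' y hy)
        have := (F.sys.commute_iff ha hb').1 (hcen b hb' (hker y hy b hb' hpb)).symm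
        rw [hpb, hby] at this
        exact Bool.noConfusion this
    obtain ⟨i, hvX⟩ : ∃ i, v = X * sg z i := by
      rcases hchar v hvQ hvW hlifts with e | e
      · exact absurd ((F.sys.ker v hvQ e).resolve_left hv1) hvz
      · exact F.sys.eq_of_p F.memQ hvQ (by rw [F.px, e])
    have hXW : Commute X wW := by
      have h1 : X = v * sg z i := by rw [hvX, mul_assoc X, F.sys.sg_mul, Bool.xor_self]; exact (mul_one X).symm
      rw [h1]
      exact hvW.mul_left (F.sys.sg_comm hA.1 i).symm
    set xE : E := ⟨X, mem_centralizer_singleton_iff'.2 hXW.eq⟩ with hxE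
    have hxD : xE ∈ D := (hDmem _).2 (F.sys.large.commute_z F.memQ)
    set xD : D := ⟨xE, hxD⟩ with hxDd
    have hRx : (R : Subgroup D) ≤ Subgroup.centralizer ({xD} : Set D) := by
      intro d hd
      have h1 := hvcomm _ ⟨d, hd, rfl⟩
      rw [hvX] at h1
      have h2 : Commute ((d : E) : G) X := by
        have h3 := h1.mul_right (F.sys.sg_comm ((hDmem _).1 d.2) i)
        rwa [mul_assoc X, F.sys.sg_mul, Bool.xor_self, show sg z false = 1 from rfl, mul_one] at h3
      exact mem_centralizer_singleton_iff'.2 (Subtype.ext (Subtype.ext h2.eq))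
    have hidx := card_conj_orbit (⊤ : Subgroup D) xD
    obtain ⟨g, hgz, hgW, hgx⟩ := F.exists_toggle
    set gD : D := ⟨⟨g, mem_centralizer_singleton_iff'.2 hgW.eq⟩, (hDmem _).2 hgz⟩ with hgD
    have horb : Set.range (fun d : (⊤ : Subgroup D) => (d : D) * xD * (d : D)⁻¹) = {xD, gD * xD * gD⁻¹} := by
      have hval : ∀ d : D, ∃ j, (((d * xD * d⁻¹ : D) : E) : G) = X * sg z j := by
        intro d
        have hdz := (hDmem _).1 d.2
        have hdW := hEmem (d : E)
        have ha : ((d : E) : G) * X * ((d : E) : G)⁻¹ ∈ Q := F.sys.large.conj_mem hdz F.memQ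
        refine F.sys.eq_of_p F.memQ ha ?_
        rw [F.px]
        have hcen : ∀ b ∈ Q, Commute b wW → Commute b (((d : E) : G) * X * ((d : E) : G)⁻¹) := fun b hb hbW => by
          have hb' : ((d : E) : G)⁻¹ * b * (d : E) ∈ Q := by
            have := F.sys.large.conj_mem hdz.inv_left hb
            rwa [inv_inv] at this
          have h1 : Commute (((d : E) : G)⁻¹ * b * (d : E)) X := by
            have hbW' : Commute (((d : E) : G)⁻¹ * b * (d : E)) wW := (hdW.inv_left.mul_left hbW).mul_left hdW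
            have hfx : app (rho 12) (p (((d : E) : G)⁻¹ * b * (d : E))) = p (((d : E) : G)⁻¹ * b * (d : E)) := by
              rw [← hA.2 _ hb', ← hbW'.eq, mul_inv_cancel_right]
            refine (F.comm_x hb').2 ?_
            have h2 := List.all_eq_true.1 (List.all_eq_true.1 fix_perp 12 (by simp)) _
              (mem_fixList.2 ⟨F.sys.lt _ hb', hfx⟩)
            simp only [Bool.and_eq_true, Bool.not_eq_true'] at h2
            exact h2.1
          have := (LargeData.commute_conj_iff' (g := ((d : E) : G))).2 h1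
          rwa [show ((d : E) : G) * (((d : E) : G)⁻¹ * b * (d : E)) * ((d : E) : G)⁻¹ = b by group] at this
        rcases hchar _ ha ((hdW.mul_left hXW).mul_left hdW.inv_left) hcen with e | e
        · rcases F.sys.ker _ ha e with e1 | e1
          · exact absurd (conj_eq_one_iff.1 e1) F.sys'.large.z_ne_one
          · refine absurd ?_ F.x_ne_z
            calc X = ((d : E) : G)⁻¹ * (((d : E) : G) * X * ((d : E) : G)⁻¹) * (d : E) := by group
              _ = z := by rw [e1, mul_assoc, ← hdz.eq, inv_mul_cancel_left]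
        · exact e.symm
      have hne : ¬ g * X * g⁻¹ = X := fun e => hgx (mul_inv_eq_iff_eq_mul.1 e)
      ext y
      simp only [Set.mem_range, Set.mem_insert_iff, Set.mem_singleton_iff]
      constructor
      · rintro ⟨⟨d, -⟩, rfl⟩
        obtain ⟨j, hj⟩ := hval d
        obtain ⟨l, hl⟩ := hval gD
        cases l
        · exact absurd (hl.trans (mul_one X)) hne
        cases j
        · exact Or.inl (Subtype.ext (Subtype.ext (hj.trans (mul_one X))))
        · exact Or.inr (Subtype.ext (Subtype.ext (hj.trans hl.symm)))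
      · rintro (rfl | rfl)
        · exact ⟨⟨1, Subgroup.mem_top _⟩, by show (1 : D) * xD * (1 : D)⁻¹ = xD; group⟩
        · exact ⟨⟨gD, Subgroup.mem_top _⟩, rfl⟩
    have hne2 : xD ≠ gD * xD * gD⁻¹ := fun e =>
      hgx (mul_inv_eq_iff_eq_mul.1 (congrArg (fun d : D => ((d : E) : G)) e).symm)
    rw [horb, Nat.card_coe_set_eq, Set.ncard_pair hne2, top_inf_eq, Subgroup.card_top] at hidx
    obtain ⟨m, hm⟩ := Subgroup.card_dvd_of_le hRx
    have hR := R.card_eq_multiplicity
    have hpow : 2 ^ ((Nat.card D).factorization 2 + 1) ∣ Nat.card D := by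
      refine ⟨m, ?_⟩
      rw [pow_succ, ← hR, mul_right_comm, ← hm, mul_comm]
      exact hidx
    exact Nat.pow_succ_factorization_not_dvd Nat.card_pos.ne' Nat.prime_two hpow
  · obtain ⟨A, hIA, hvA⟩ := F.sys.exists_acts hvD
    have hne : A ≠ one := fun e => hvQ (F.sys.mem_of_acts_one (e ▸ hvA))
    have hsq : comp A A = one := by
      refine F.sys.acts_unique (by rw [length_comp, hIA.1]) rfl ?_ F.sys.acts_one
      have := F.sys.acts_mul hIA.1 hvA hvA
      rwa [hvv] at this
    have hfix : ∀ y ∈ kerW, app A y = y := by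
      intro y hy
      obtain ⟨a, ha, hpa⟩ := F.sys.surj y (hK' y hy)
      have e := hvA.2 a ha
      rw [← (hlifts a ha (hker y hy a ha hpa)).eq, mul_inv_cancel_right, hpa] at e
      exact e.symm
    have hcm : comp A (rho 12) = comp (rho 12) A := by
      refine F.sys.acts_unique (by rw [length_comp, length_rho]) (by rw [length_comp, hIA.1])
        (F.sys.acts_mul (length_rho 12) hvA hA) ?_
      have := F.sys.acts_mul hIA.1 hA hvA
      rwa [← hvW.eq] at this
    have h := List.all_eq_true.1 candW_invol A (mem_candW hIA hfix hcm)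
    simp only [hsq, beq_self_eq_true, Bool.not_true, Bool.or_false, Bool.or_eq_true, beq_iff_eq, hne,
      false_or, decide_eq_true_eq, List.any_eq_true] at h
    rcases h with h | ⟨w, -, hw⟩
    · obtain ⟨c, hc, i, hi, hcA⟩ := F.cases_invol hvD hvv hvQ
      obtain ⟨C, hC, hcC⟩ := F.sys.exists_acts hc
      have hsm := List.all_eq_true.1 rep_small i (List.mem_range.2 hi)
      rw [decide_eq_true_eq] at hsm
      have hcomm : comp C A = comp (rep i) C := by
        refine F.sys.acts_unique (by rw [length_comp, hIA.1]) (by rw [length_comp, hC.1])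
          (F.sys.acts_mul hIA.1 hcC hvA) ?_
        have := F.sys.acts_mul hC.1 hcA hcC
        rwa [inv_mul_cancel_right] at this
      have hcard : (((List.range 256).filter (fixB A)).toFinset).card ≤
          (((List.range 256).filter (fixB (rep i))).toFinset).card := by
        refine Finset.card_le_card_of_injOn (app C) ?_ ?_
        · intro n hn
          simp only [List.coe_toFinset, Set.mem_setOf_eq, List.mem_filter, List.mem_range, fixB, beq_iff_eq] at hn ⊢
          exact ⟨(hC.2 n hn.1).1, by rw [← app_comp hC.1, ← hcomm, app_comp hIA.1, hn.2]⟩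
        · intro a ha b hb e
          simp only [List.coe_toFinset, Set.mem_setOf_eq, List.mem_filter, List.mem_range] at ha hb
          exact F.sys.app_inj hcC ha.1 hb.1 e
      rw [List.toFinset_card_of_nodup (List.nodup_range.filter _),
        List.toFinset_card_of_nodup (List.nodup_range.filter _)] at hcard
      omega
    · obtain ⟨hl, d, hd⟩ := F.sys.acts_word w
      have h2A := F.sys.acts_conj hl hIA.1 (length_rho 12) hd hvA hw
      obtain ⟨c, -, e⟩ := F.far_class h2A (conj_sq_one hvv d)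
      refine F.wEl_ne ?_
      have h1 : IsConj z v := isConj_iff.2 ⟨n, rfl⟩
      exact (h1.trans (isConj_iff.2 ⟨d, rfl⟩)).trans (isConj_iff.2 ⟨c, e⟩).symm

theorem uEl_ne_wEl : ¬ IsConj uU wW := fun h => F.not_dvd_centralizer_w (by
  rw [← F.card_centralizer_conj h]
  exact F.dvd_centralizer_u)

end Frame

end CfsgLib.Recog.CoOneType
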