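import Cfsg.Agent.Lib.Recog.CoOneType.InvolFacts

/-!
Finite facts on the chosen Sylow 2-subgroup and its involutions (owner: helper12).
-/

set_option autoImplicit false
set_option maxRecDepth 100000
set_option Elab.async false

namespace CfsgLib.Recog.CoOneType

theorem sylow_invol : sect.all (fun v => (List.range 64).all fun i =>
    (comp (rho v) (midAt i) == one) || (!(comp (comp (rho v) (midAt i)) (comp (rho v) (midAt i)) == one)) ||
      invol.any fun r => r.1 == v && r.2.1 == i) = true := by decide +kernel

end CfsgLib.Recog.CoOneType
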