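import Cfsg.Agent.Lib.Recog.CoOneType.Create
import Cfsg.Agent.Lib.Recog.CoOneType.Form
import Cfsg.Agent.Lib.Recog.CoOneType.SylowFacts

/-!
A Sylow 2-subgroup of the centralizer of `z`, cosets of `Q` containing involutions, frames
(owner: helper12; after the Suzuki-type files of helper20).
-/

set_option autoImplicit false
set_option linter.unusedSectionVars false
set_option linter.unusedVariables false
set_option linter.style.haveILetI false
set_option quotPrecheck false

namespace CfsgLib.Recog.CoOneType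

open CfsgLib.ThreeTrans

variable {G : Type*} [Group G] [Finite G] {z : G} {Q : Subgroup G} {p : G → Nat} {k : G}

theorem inv_of_sq {t : G} (ht : t * t = 1) : t⁻¹ = t := inv_eq_of_mul_eq_one_left ht

theorem conj_sq_one {t : G} (ht : t * t = 1) (c : G) : c * t * c⁻¹ * (c * t * c⁻¹) = 1 := by
  calc c * t * c⁻¹ * (c * t * c⁻¹) = c * (t * t) * c⁻¹ := by group
    _ = 1 := by rw [ht, mul_one, mul_inv_cancel]

/-- Inducing a member of the chosen subgroup. -/
def InT (z : G) (Q : Subgroup G) (p : G → Nat) (c : G) : Prop :=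
  ∃ v ∈ sect, ∃ a ∈ midSylow, Acts z Q p c (comp (rho v) a.1)

namespace Sys

variable (h : Sys z Q p)
include h

theorem app_inj {c : G} {A : List Nat} (hc : Acts z Q p c A) {m n : Nat} (hm : m < 256) (hn : n < 256)
    (e : app A m = app A n) : m = n := by
  obtain ⟨a, ha, rfl⟩ := h.surj m hm
  obtain ⟨b, hb, rfl⟩ := h.surj n hn
  rw [← hc.2 a ha, ← hc.2 b hb] at e
  obtain ⟨i, e'⟩ := h.eq_of_p (h.large.conj_mem hc.1 ha) (h.large.conj_mem hc.1 hb) e
  have hb' : b = a * sg z i := by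
    calc b = c⁻¹ * (c * b * c⁻¹) * c := by group
      _ = a * (c⁻¹ * (sg z i * c)) := by rw [e']; group
      _ = a * sg z i := by rw [← (h.sg_comm hc.1 i).eq]; group
  rw [hb', h.map_mul a ha _ (h.sg_mem i), h.p_sg, Nat.xor_zero]

theorem acts_z : Acts z Q p z one := h.acts_of_mem h.large.z_mem

theorem not_mem_of_acts {c : G} {A : List Nat} (hA : A.length = 8) (hc : Acts z Q p c A) (hne : A ≠ one) :
    c ∉ Q := fun hm => hne (h.acts_unique hA (by rfl) hc (h.acts_of_mem hm))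

/-- An involution in the coset of another one. -/
theorem coset {t t' : G} {A : List Nat} (ht : t * t = 1) (ht' : t' * t' = 1) (htA : Acts z Q p t A)
    (htA' : Acts z Q p t' A) : ∃ q ∈ Q, t' = t * q ∧ app A (p q) = p q ∧
      t * q * t⁻¹ = q * sg z (qb (p q)) := by
  have hq : t⁻¹ * t' ∈ Q := h.inv_mul_mem htA htA'
  have e : t * (t⁻¹ * t') * t⁻¹ = (t⁻¹ * t') * sg z (qb (p (t⁻¹ * t'))) := by
    rw [← h.inv_eq hq, inv_of_sq ht, mul_inv_rev, inv_of_sq ht, inv_of_sq ht']
    simp only [← mul_assoc, ht, one_mul]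
  refine ⟨_, hq, (mul_inv_cancel_left t t').symm, ?_, e⟩
  rw [← htA.2 _ hq, e, h.map_mul _ hq _ (h.sg_mem _), h.p_sg, Nat.xor_zero]

/-- An image vector gives a `Q`-conjugate. -/
theorem conj_of_im {t q : G} {A : List Nat} (ht : t * t = 1) (htA : Acts z Q p t A) (hq : q ∈ Q)
    (him : imB A (p q) = true) : ∃ β ∈ Q, β * t * β⁻¹ = t * q ∨ β * t * β⁻¹ = t * q * z := by
  simp only [imB, List.any_eq_true, beq_iff_eq, List.mem_range] at him
  obtain ⟨b, hb, e⟩ := him
  obtain ⟨β, hβ, rfl⟩ := h.surj b hb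
  have hd : t * β * t⁻¹ * β⁻¹ ∈ Q := Q.mul_mem (h.large.conj_mem htA.1 hβ) (Q.inv_mem hβ)
  have hpd : p (t * β * t⁻¹ * β⁻¹) = p q := by
    rw [h.map_mul _ (h.large.conj_mem htA.1 hβ) _ (Q.inv_mem hβ), h.p_inv hβ, htA.2 β hβ, e, Nat.xor_comm]
  have hc : β * t * β⁻¹ = t * (t * β * t⁻¹ * β⁻¹) := by
    rw [inv_of_sq ht]
    simp only [← mul_assoc, ht, one_mul]
  obtain ⟨i, e'⟩ := h.eq_of_p hq hd hpd.symm
  rw [e'] at hc
  refine ⟨β, hβ, ?_⟩
  cases i
  · exact Or.inl (by rwa [show sg z false = 1 from rfl, mul_one] at hc)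
  · exact Or.inr (by rwa [show sg z true = z from rfl, ← mul_assoc] at hc)

/-- A singular vector can be moved to the first one. -/
theorem to_one {y : G} (hy : y ∈ Q) (hyy : y * y = 1) (h1 : y ≠ 1) (hz : y ≠ z) :
    ∃ c : G, Commute c z ∧ p (c * y * c⁻¹) = 1 := by
  have hq : qb (p y) = false := h.sg_inj ((h.sq y hy).symm.trans (hyy.trans rfl))
  have h0 : p y ≠ 0 := fun e => (h.ker y hy e).elim h1 hz
  have hm := List.all_eq_true.1 toOne_ok (p y) (List.mem_range.2 (h.lt y hy))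
  simp only [hq, Bool.or_eq_true, beq_iff_eq, h0, Bool.false_eq_true, or_false, false_or,
    List.any_eq_true, Bool.and_eq_true] at hm
  obtain ⟨w, -, hwn, hw1⟩ := hm
  obtain ⟨hl, c, hc⟩ := h.acts_word w.2
  exact ⟨c, hc.1, by rw [hc.2 y hy, hw1]⟩

theorem mid_len {a : List Nat × List Nat} (ha : a ∈ midSylow) : a.1.length = 8 := by
  rw [beq_iff_eq.1 (List.all_eq_true.1 mid_words a ha)]
  exact (h.acts_word a.2).1

theorem mid_lift {a : List Nat × List Nat} (ha : a ∈ midSylow) : ∃ c, Acts z Q p c a.1 := by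
  rw [beq_iff_eq.1 (List.all_eq_true.1 mid_words a ha)]
  exact (h.acts_word a.2).2

theorem len_pair {a : List Nat × List Nat} (ha : a ∈ midSylow) (v : Nat) : (comp (rho v) a.1).length = 8 := by
  rw [length_comp, h.mid_len ha]

theorem inT_mul {c d : G} (hc : InT z Q p c) (hd : InT z Q p d) : InT z Q p (c * d) := by
  obtain ⟨v, hv, a, ha, hca⟩ := hc
  obtain ⟨w, hw, b, hb, hdb⟩ := hd
  have h1 := List.all_eq_true.1 (List.all_eq_true.1 mid_rho a ha) w hw
  simp only [Bool.and_eq_true, List.contains_iff_mem, beq_iff_eq] at h1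
  have h2 := List.all_eq_true.1 (List.all_eq_true.1 mid_closed a ha) b hb
  rw [List.contains_iff_mem, List.mem_map] at h2
  obtain ⟨r, hr, e⟩ := h2
  have h3 := List.all_eq_true.1 (List.all_eq_true.1 rho_comp v hv) _ h1.1
  rw [beq_iff_eq] at h3
  refine ⟨v ^^^ app a.1 w, List.contains_iff_mem.1 (List.all_eq_true.1 (List.all_eq_true.1 sect_xor v hv) _ h1.1),
    r, hr, ?_⟩
  have := h.acts_mul (h.len_pair hb w) hca hdb
  rwa [← comp_assoc (h.mid_len ha), comp_assoc (length_rho w), h1.2, ← comp_assoc (h.mid_len ha), ← e,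
    comp_assoc (length_rho _), h3] at this

theorem inT_of_mem {c : G} (hc : c ∈ Q) : InT z Q p c := by
  refine ⟨0, by decide +kernel, ([1, 2, 4, 8, 16, 32, 64, 128], []), List.mem_cons_self, ?_⟩
  rw [show comp (rho 0) [1, 2, 4, 8, 16, 32, 64, 128] = one by decide +kernel]
  exact h.acts_of_mem hc

theorem inT_unique {c : G} {v w : Nat} {a b : List Nat × List Nat} (hv : v ∈ sect) (hw : w ∈ sect)
    (ha : a ∈ midSylow) (hb : b ∈ midSylow) (h1 : Acts z Q p c (comp (rho v) a.1))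
    (h2 : Acts z Q p c (comp (rho w) b.1)) : v = w ∧ a.1 = b.1 := by
  have e := h.acts_unique (h.len_pair ha v) (h.len_pair hb w) h1 h2
  have ka := List.all_eq_true.1 mid_basic a ha
  have kb := List.all_eq_true.1 mid_basic b hb
  simp only [Bool.and_eq_true, beq_iff_eq] at ka kb
  have e2 := congrArg (fun A => app A 2) e
  simp only [app_comp (h.mid_len ha), app_comp (h.mid_len hb), ka.1.1.1.2, kb.1.1.1.2] at e2
  have i1 := List.all_eq_true.1 rho_inj v hv
  have i2 := List.all_eq_true.1 rho_inj w hw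
  rw [beq_iff_eq] at i1 i2
  obtain rfl : v = w := by rw [← i1, e2, i2]
  refine ⟨rfl, ?_⟩
  have e3 := congrArg (comp (rho v)) e
  have h3 := List.all_eq_true.1 (List.all_eq_true.1 rho_comp v hv) v hv
  rw [beq_iff_eq, Nat.xor_self, rho_zero] at h3
  rwa [comp_assoc (length_rho v), comp_assoc (length_rho v), h3, ka.1.2, kb.1.2] at e3

/-- An involution inducing a standard map centralizes half the lifts of its fixed vectors. -/
theorem sixteen_le {t : G} {i : Nat} (hi : i < 5) (hA : Acts z Q p t (rep i)) (htt : t * t = 1) :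
    16 ≤ Nat.card (Q ⊓ Subgroup.centralizer ({t} : Set G) : Subgroup G) := by
  classical
  haveI := Fintype.ofFinite (Q ⊓ Subgroup.centralizer ({t} : Set G) : Subgroup G)
  choose r hr hpr using h.surj
  set l := (List.range 256).filter (fixB (rep i)) with hl
  have hlen : 16 ≤ l.length := rep_fix i hi
  have hnd : l.Nodup := List.nodup_range.filter _
  have hmem : ∀ j : Fin 16, l[(j : ℕ)]'(lt_of_lt_of_le j.2 hlen) < 256 ∧
      app (rep i) (l[(j : ℕ)]'(lt_of_lt_of_le j.2 hlen)) = l[(j : ℕ)]'(lt_of_lt_of_le j.2 hlen) := fun j => by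
    have := List.getElem_mem (lt_of_lt_of_le j.2 hlen)
    simp only [hl, List.mem_filter, List.mem_range, fixB, beq_iff_eq] at this
    exact this
  let a : Fin 16 × Bool → G := fun x => r _ (hmem x.1).1 * sg z x.2
  have haQ : ∀ x, a x ∈ Q := fun x => Q.mul_mem (hr _ _) (h.sg_mem _)
  have hpa : ∀ x, p (a x) = l[(x.1 : ℕ)]'(lt_of_lt_of_le x.1.2 hlen) := fun x => by
    rw [h.map_mul _ (hr _ _) _ (h.sg_mem _), h.p_sg, Nat.xor_zero, hpr]
  have hinj : Function.Injective a := by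
    rintro ⟨x, b⟩ ⟨y, c⟩ e
    have ep := congrArg p e
    rw [hpa, hpa] at ep
    obtain rfl : x = y := Fin.ext ((List.Nodup.getElem_inj_iff hnd).1 ep)
    exact Prod.ext rfl (h.sg_inj (mul_left_cancel e))
  have hmu : ∀ x, ∃ m, t * a x * t⁻¹ = a x * sg z m := fun x => by
    obtain ⟨m, e⟩ := h.eq_of_p (haQ x) (h.large.conj_mem hA.1 (haQ x)) (by rw [hA.2 _ (haQ x), hpa, (hmem x.1).2])
    exact ⟨m, e⟩
  choose mu hmu using hmu
  have hin : ∀ g ∈ Q, t * g * t⁻¹ = g → g ∈ Q ⊓ Subgroup.centralizer ({t} : Set G) := fun g hg e =>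
    ⟨hg, mem_centralizer_singleton_iff'.2 (mul_inv_eq_iff_eq_mul.1 e).symm⟩
  by_cases hall : ∀ x, mu x = false
  · have hf := Nat.card_le_card_of_injective (fun x => (⟨a x, hin _ (haQ x) (by
      rw [hmu, hall, show sg z false = 1 from rfl, mul_one])⟩ :
        (Q ⊓ Subgroup.centralizer ({t} : Set G) : Subgroup G))) fun x y e => hinj (congrArg Subtype.val e)
    simp only [Nat.card_prod, Nat.card_fin, Nat.card_eq_fintype_card (α := Bool), Fintype.card_bool] at hf
    omega
  · push Not at hall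
    obtain ⟨x0, hx0⟩ := hall
    replace hx0 : mu x0 = true := by simpa using hx0
    let g : Fin 16 × Bool → (Q ⊓ Subgroup.centralizer ({t} : Set G) : Subgroup G) × Bool := fun x =>
      (⟨a x * (bif mu x then a x0 else 1), hin _ (Q.mul_mem (haQ x) (by
          cases mu x
          exacts [Q.one_mem, haQ x0])) (by
        cases hm : mu x
        · show t * (a x * 1) * t⁻¹ = a x * 1
          rw [mul_one, hmu, hm]
          exact mul_one _
        · show t * (a x * a x0) * t⁻¹ = a x * a x0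
          rw [show t * (a x * a x0) * t⁻¹ = t * a x * t⁻¹ * (t * a x0 * t⁻¹) by group, hmu, hmu, hm, hx0,
            mul_assoc (a x), ← mul_assoc (sg z true), ← (h.sg_comm (h.large.commute_z (haQ x0)) true).eq,
            mul_assoc (a x0), h.sg_mul, Bool.xor_self]
          exact congrArg (a x * ·) (mul_one _))⟩, mu x)
    have hg : Function.Injective g := by
      intro x y e
      have e1 : mu x = mu y := congrArg Prod.snd e
      have e2 := congrArg (fun u => (u.1 : G)) e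
      simp only [g, e1] at e2
      exact hinj (mul_right_cancel e2)
    have := Nat.card_le_card_of_injective g hg
    simp only [Nat.card_prod, Nat.card_fin, Nat.card_eq_fintype_card (α := Bool), Fintype.card_bool] at this
    omega

end Sys

namespace Frame

variable (F : Frame z Q p k)
include F

local notation "X" => k * z * k⁻¹

theorem exists_s' {v : Nat} (hv : v ∈ sect) : ∃ c, Acts z Q p c (rho v) := by
  obtain ⟨s, -, -, hs⟩ := F.exists_s hv
  exact ⟨s, hs⟩

/-- The elements inducing members of the chosen Sylow subgroup. -/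
theorem exists_sylow : ∃ T : Subgroup G, Nat.card T = 2 ^ 21 ∧ Q ≤ T ∧ ∀ c, c ∈ T ↔ InT z Q p c := by
  classical
  let M : Submonoid G :=
    { carrier := {c | InT z Q p c}
      one_mem' := F.sys.inT_of_mem Q.one_mem
      mul_mem' := fun ha hb => F.sys.inT_mul ha hb }
  let T : Subgroup G :=
    { M with
      inv_mem' := fun {c} hc => by
        have h1 : c⁻¹ ∈ Submonoid.powers c :=
          (isOfFinOrder_of_finite c).mem_powers_iff_mem_zpowers.2 (inv_mem (Subgroup.mem_zpowers c))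
        exact (Submonoid.powers_le.2 hc : Submonoid.powers c ≤ M) h1 }
  have hT : ∀ c, c ∈ T ↔ InT z Q p c := fun c => Iff.rfl
  have hsl : sect.length = 64 := by decide +kernel
  have hsn : sect.Nodup := by decide +kernel
  have hlift : ∀ x : Fin sect.length × Fin midSylow.length, ∃ c,
      Acts z Q p c (comp (rho (sect[(x.1 : ℕ)]'x.1.2)) (midSylow[(x.2 : ℕ)]'x.2.2).1) := fun x => by
    obtain ⟨c, hc⟩ := F.sys.mid_lift (List.getElem_mem x.2.2)
    obtain ⟨d, hd⟩ := F.exists_s' (List.getElem_mem x.1.2)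
    exact ⟨d * c, F.sys.acts_mul (F.sys.mid_len (List.getElem_mem x.2.2)) hd hc⟩
  choose cl hcl using hlift
  have hmem : ∀ x (q : Q), Acts z Q p (cl x * q)
      (comp (rho (sect[(x.1 : ℕ)]'x.1.2)) (midSylow[(x.2 : ℕ)]'x.2.2).1) := fun x q => by
    have := F.sys.acts_mul (show one.length = 8 from rfl) (hcl x) (F.sys.acts_of_mem q.2)
    have k1 := List.all_eq_true.1 mid_basic _ (List.getElem_mem x.2.2)
    simp only [Bool.and_eq_true, beq_iff_eq] at k1
    rwa [← comp_assoc (F.sys.mid_len (List.getElem_mem x.2.2)), k1.2] at this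
  let f : (Fin sect.length × Fin midSylow.length) × Q → T := fun x =>
    ⟨cl x.1 * x.2, _, List.getElem_mem x.1.1.2, _, List.getElem_mem x.1.2.2, hmem x.1 x.2⟩
  have hf : Function.Bijective f := by
    constructor
    · rintro ⟨⟨i, i'⟩, q⟩ ⟨⟨j, j'⟩, r⟩ e
      have e' : cl (i, i') * q = cl (j, j') * r := congrArg Subtype.val e
      obtain ⟨hij, hij'⟩ := F.sys.inT_unique (List.getElem_mem i.2) (List.getElem_mem j.2) (List.getElem_mem i'.2)
        (List.getElem_mem j'.2) (hmem (i, i') q) (e' ▸ hmem (j, j') r)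
      obtain rfl : i = j := Fin.ext ((List.Nodup.getElem_inj_iff hsn).1 hij)
      obtain rfl : i' = j' := Fin.ext ((List.Nodup.getElem_inj_iff mid_nodup
        (hi := by simp) (hj := by simp)).1 (by simpa using hij'))
      exact Prod.ext rfl (Subtype.ext (mul_left_cancel e'))
    · rintro ⟨c, v, hv, a, ha, hc⟩
      obtain ⟨i, hi, rfl⟩ := List.getElem_of_mem hv
      obtain ⟨j, hj, rfl⟩ := List.getElem_of_mem ha
      exact ⟨⟨(⟨i, hi⟩, ⟨j, hj⟩), ⟨(cl (⟨i, hi⟩, ⟨j, hj⟩))⁻¹ * c, F.sys.inv_mul_mem (hcl _) hc⟩⟩,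
        Subtype.ext (mul_inv_cancel_left _ _)⟩
  refine ⟨T, ?_, fun c hc => F.sys.inT_of_mem hc, hT⟩
  rw [← Nat.card_eq_of_bijective f hf, Nat.card_prod, Nat.card_prod, Nat.card_fin, Nat.card_fin, hsl, mid_card,
    F.sys.card]
  norm_num

/-- Every involution is conjugate into the centralizer of `z`, and there into the chosen subgroup. -/
theorem exists_inv_reps : ∃ T : Subgroup G, Q ≤ T ∧ (∀ c ∈ T, InT z Q p c) ∧
    (∀ x : G, x * x = 1 → ∃ g : G, Commute (g * x * g⁻¹) z) ∧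
    ∀ x : G, x * x = 1 → Commute x z → ∃ c : G, Commute c z ∧ c * x * c⁻¹ ∈ T := by
  haveI : Fact (Nat.Prime 2) := ⟨Nat.prime_two⟩
  obtain ⟨T, hcard, hQT, hT'⟩ := F.exists_sylow
  have hT : ∀ c ∈ T, InT z Q p c := fun c hc => (hT' c).1 hc
  have hTC : T ≤ Subgroup.centralizer ({z} : Set G) := fun c hc => by
    obtain ⟨v, -, r, -, hr⟩ := hT c hc
    exact mem_centralizer_singleton_iff'.2 hr.1.eq
  have hinv : ∀ {K : Type _} [Group K] (x : K), x * x = 1 → IsPGroup 2 (Subgroup.zpowers x) := by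
    intro K _ x hx y
    obtain ⟨n, hn⟩ := y.2
    refine ⟨1, Subtype.ext ?_⟩
    rw [SubgroupClass.coe_pow, pow_one, OneMemClass.coe_one, ← hn]
    show (x ^ n) ^ 2 = 1
    rw [← zpow_natCast (x ^ n), ← zpow_mul, mul_comm, zpow_mul, zpow_natCast, pow_two x, hx, one_zpow]
  refine ⟨T, hQT, hT, ?_, ?_⟩
  · obtain ⟨P, hTP⟩ := (show IsPGroup 2 T from IsPGroup.of_card hcard).exists_le_sylow
    have hzP : z ∈ (P : Subgroup G) := hTP (hQT F.sys.large.z_mem)
    have hPC : (P : Subgroup G) ≤ Subgroup.centralizer ({z} : Set G) := by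
      haveI : Nontrivial (P : Subgroup G) :=
        ⟨⟨⟨z, hzP⟩, 1, fun e => F.sys.large.z_ne_one (congrArg Subtype.val e)⟩⟩
      haveI := P.isPGroup'.center_nontrivial
      obtain ⟨⟨⟨w, hw⟩, hwc⟩, hne⟩ := exists_ne (1 : Subgroup.center (↥(P : Subgroup G)))
      have hcomm : ∀ q ∈ (P : Subgroup G), q * w = w * q := fun q hq =>
        congrArg Subtype.val (Subgroup.mem_center_iff.1 hwc ⟨q, hq⟩)
      have hwz : w ∈ Subgroup.zpowers z := by
        rw [← F.sys.large.hcent, Subgroup.mem_centralizer_iff]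
        exact fun q hq => hcomm q (hTP (hQT hq))
      rcases F.sys.large.eq_or hwz with e | e
      · exact absurd (Subtype.ext (Subtype.ext e)) hne
      · intro q hq
        exact mem_centralizer_singleton_iff'.2 (e ▸ hcomm q hq)
    intro x hx
    obtain ⟨R, hR⟩ := (hinv x hx).exists_le_sylow
    obtain ⟨g, hg⟩ := MulAction.exists_smul_eq G R P
    exact ⟨g, mem_centralizer_singleton_iff'.1
      (hPC (by rw [← hg, Sylow.coe_subgroup_smul]; exact ⟨x, hR (Subgroup.mem_zpowers x), rfl⟩))⟩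
  · intro x hx hxz
    set C := Subgroup.centralizer ({z} : Set G) with hC
    have hfac : (Nat.card C).factorization 2 = 21 := by
      rw [F.sys.cardC, show (2 : ℕ) ^ 9 * 174182400 = 2 ^ 21 * 42525 by norm_num,
        Nat.factorization_def _ Nat.prime_two, padicValNat.mul (by norm_num) (by norm_num),
        padicValNat.prime_pow, padicValNat.eq_zero_of_not_dvd (by norm_num)]
    let S : Sylow 2 C := Sylow.ofCard (T.subgroupOf C)
      (by rw [hfac, Nat.card_congr (Subgroup.subgroupOfEquivOfLe hTC).toEquiv, hcard])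
    obtain ⟨R, hR⟩ := (hinv (⟨x, mem_centralizer_singleton_iff'.2 hxz.eq⟩ : C) (Subtype.ext hx)).exists_le_sylow
    obtain ⟨g, hg⟩ := MulAction.exists_smul_eq C R S
    refine ⟨g, mem_centralizer_singleton_iff'.1 g.2, ?_⟩
    have : g * ⟨x, mem_centralizer_singleton_iff'.2 hxz.eq⟩ * g⁻¹ ∈ (S : Subgroup C) := by
      rw [← hg, Sylow.coe_subgroup_smul]
      exact ⟨_, hR (Subgroup.mem_zpowers _), rfl⟩
    exact Subgroup.mem_subgroupOf.1 this

/-- An involution outside `Q` is conjugate in the centralizer of `z` to one inducing a standard map. -/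
theorem cases_invol {t : G} (htz : Commute t z) (htt : t * t = 1) (htQ : t ∉ Q) :
    ∃ c : G, Commute c z ∧ ∃ i < 5, Acts z Q p (c * t * c⁻¹) (rep i) := by
  obtain ⟨T, -, hT, -, hloc⟩ := F.exists_inv_reps
  obtain ⟨c1, hc1, hmem⟩ := hloc t htt htz
  obtain ⟨v, hv, a, ha, hact⟩ := hT _ hmem
  have hl := F.sys.len_pair ha v
  have hne : comp (rho v) a.1 ≠ one := by
    intro e
    rw [e] at hact
    have hq := F.sys.large.conj_mem hc1.inv_left (F.sys.mem_of_acts_one hact)
    rw [show c1⁻¹ * (c1 * t * c1⁻¹) * c1⁻¹⁻¹ = t by group] at hq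
    exact htQ hq
  have hsq : comp (comp (rho v) a.1) (comp (rho v) a.1) = one := by
    refine F.sys.acts_unique (by rw [length_comp, hl]) rfl ?_ F.sys.acts_one
    have := F.sys.acts_mul hl hact hact
    rwa [conj_sq_one htt] at this
  obtain ⟨i, hi, rfl⟩ := List.getElem_of_mem ha
  have hi' : i < 64 := mid_card ▸ hi
  have hat : midAt i = (midSylow[i]).1 := congrArg Prod.fst (List.getD_eq_getElem _ _ hi)
  have hm := List.all_eq_true.1 (List.all_eq_true.1 sylow_invol v hv) i (List.mem_range.2 hi')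
  simp only [hat, Bool.or_eq_true, beq_iff_eq, Bool.not_eq_true', beq_eq_false_iff_ne, ne_eq,
    List.any_eq_true, Bool.and_eq_true] at hm
  rcases hm with (e | e) | ⟨⟨v', i', j, w⟩, hr, e, e'⟩
  · exact absurd e hne
  · exact absurd hsq e
  obtain rfl : v' = v := e
  obtain rfl : i' = i := e'
  have hok := List.all_eq_true.1 invol_ok _ hr
  simp only [Bool.and_eq_true, decide_eq_true_eq, beq_iff_eq, hat] at hok
  obtain ⟨hlw, c2, hc2⟩ := F.sys.acts_word w
  have := F.sys.acts_conj hlw hl (rep_len j hok.1).1 hc2 hact hok.2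
  refine ⟨c2 * c1, hc2.1.mul_left hc1, j, hok.1, ?_⟩
  rwa [show c2 * c1 * t * (c2 * c1)⁻¹ = c2 * (c1 * t * c1⁻¹) * c2⁻¹ by group]

/-- An involution outside `Q` has centralizer of order at least 16 in `Q`. -/
theorem card_ge {t : G} (htz : Commute t z) (htt : t * t = 1) (htQ : t ∉ Q) :
    16 ≤ Nat.card (Q ⊓ Subgroup.centralizer ({t} : Set G) : Subgroup G) := by
  obtain ⟨c, hc, i, hi, hA⟩ := F.cases_invol htz htt htQ
  have hle : Nat.card (Q ⊓ Subgroup.centralizer ({c * t * c⁻¹} : Set G) : Subgroup G) ≤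
      Nat.card (Q ⊓ Subgroup.centralizer ({t} : Set G) : Subgroup G) := by
    refine Nat.card_le_card_of_injective (fun a => ⟨c⁻¹ * a * c, ?_, ?_⟩) fun a b e => ?_
    · have := F.sys.large.conj_mem hc.inv_left a.2.1
      rwa [inv_inv] at this
    · refine mem_centralizer_singleton_iff'.2 ?_
      have := mem_centralizer_singleton_iff'.1 a.2.2
      refine (LargeData.commute_conj_iff' (g := c)).1 ?_
      rwa [show c * (c⁻¹ * (a : G) * c) * c⁻¹ = (a : G) by group]
    · exact Subtype.ext (mul_left_cancel (mul_right_cancel (congrArg Subtype.val e)))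
  exact le_trans (F.sys.sixteen_le hi hA (conj_sq_one htt c)) hle

/-- Noncentral involutions of `Q` are conjugate to `z`. -/
theorem inner {a : G} (ha : a ∈ Q) (haa : a * a = 1) (h1 : a ≠ 1) (hz : a ≠ z) : IsConj z a := by
  have hq : qb (p a) = false := F.sys.sg_inj ((F.sys.sq a ha).symm.trans (haa.trans rfl))
  have h0 : p a ≠ 0 := fun e => (F.sys.ker a ha e).elim h1 hz
  have hm := List.all_eq_true.1 toOne_ok (p a) (List.mem_range.2 (F.sys.lt a ha))
  simp only [hq, Bool.or_eq_true, beq_iff_eq, h0, Bool.false_eq_true, or_false, false_or,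
    List.any_eq_true, Bool.and_eq_true] at hm
  obtain ⟨w, -, hwn, hw1⟩ := hm
  obtain ⟨hl, c, hc⟩ := F.sys.acts_word w.2
  have hca : c * a * c⁻¹ ∈ Q := F.sys.large.conj_mem hc.1 ha
  have hpc : p (c * a * c⁻¹) = p X := by rw [hc.2 a ha, hw1, F.px]
  have hzx : IsConj z X := isConj_iff.2 ⟨k, rfl⟩
  obtain ⟨i, e⟩ := F.sys.eq_of_p hca F.memQ hpc
  have hx : IsConj z (c * a * c⁻¹) := by
    cases i
    · rw [show sg z false = 1 from rfl, mul_one] at e
      rwa [← e]
    · obtain ⟨q, hq1, hq2⟩ := F.sys.surj 2 (by norm_num)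
      have e2 := F.sys.conj_eq F.memQ hq1
      rw [hq2, F.px, show bb 2 1 = true by decide +kernel] at e2
      have e3 : c * a * c⁻¹ = q * X * q⁻¹ := by
        rw [e2, e, mul_assoc (c * a * c⁻¹), F.sys.sg_mul, Bool.xor_self]
        exact (mul_one _).symm
      rw [e3]
      exact hzx.trans (isConj_iff.2 ⟨q, rfl⟩)
  exact hx.trans (isConj_iff.2 ⟨c, rfl⟩ : IsConj a (c * a * c⁻¹)).symm

/-- Transport of a frame. -/
theorem move (h : G) :
    Frame (h * z * h⁻¹) (Q.map (MulAut.conj h).toMonoidHom) (fun a => p (h⁻¹ * a * h)) (h * k * h⁻¹) := by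
  refine ⟨F.sys.conj h, ?_, ?_, ?_, ?_⟩
  · rw [mem_conjMap, show h⁻¹ * (h * k * h⁻¹ * (h * z * h⁻¹) * (h * k * h⁻¹)⁻¹) * h = k * z * k⁻¹ by group]
    exact F.memQ
  · rw [mem_conjMap, show h⁻¹ * ((h * k * h⁻¹)⁻¹ * (h * z * h⁻¹) * (h * k * h⁻¹)) * h = k⁻¹ * z * k by group]
    exact F.memP
  · show p _ = 1
    rw [show h⁻¹ * (h * k * h⁻¹ * (h * z * h⁻¹) * (h * k * h⁻¹)⁻¹) * h = k * z * k⁻¹ by group]
    exact F.px
  · show p _ = 1
    rw [show h⁻¹ * ((h * k * h⁻¹)⁻¹ * (h * z * h⁻¹) * (h * k * h⁻¹)) * h = k⁻¹ * z * k by group]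
    exact F.pz

end Frame

/-- Some frame exists. -/
theorem Hyp.exists_frame (h : Hyp z Q) (hn : ∃ g : G, g * z * g⁻¹ ∈ Q ∧ g * z * g⁻¹ ≠ z) :
    ∃ p k, Frame z Q p k := by
  obtain ⟨p, hs⟩ := h.exists_sys
  obtain ⟨g, hgQ, hgz⟩ := hn
  have hzz := hs.large.mul_self_z
  obtain ⟨c, hc, hpc⟩ := hs.to_one hgQ (conj_sq_one hzz g)
    (fun e => hs.large.z_ne_one (conj_eq_one_iff.1 e)) hgz
  set k1 := c * g with hk1
  have e1 : c * (g * z * g⁻¹) * c⁻¹ = k1 * z * k1⁻¹ := by rw [hk1]; group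
  rw [e1] at hpc
  have hx : k1 * z * k1⁻¹ ∈ Q := e1 ▸ hs.large.conj_mem hc hgQ
  have hy : k1⁻¹ * z * k1 ∈ Q := mem_conjMap.1 (hs.large.mem_conj (by rw [h.card]; norm_num) hx)
  obtain ⟨d, hd, hpd⟩ := hs.to_one hy
    (by
      have := conj_sq_one hzz k1⁻¹
      rwa [inv_inv] at this)
    (fun e => hs.large.z_ne_one (by
      calc z = k1 * (k1⁻¹ * z * k1) * k1⁻¹ := by group
        _ = 1 := by rw [e]; group))
    (fun e => zero_ne_one (α := ℕ) (by
      rw [← hpc, show k1 * z * k1⁻¹ = k1 * (k1⁻¹ * z * k1) * k1⁻¹ by rw [e],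
        show k1 * (k1⁻¹ * z * k1) * k1⁻¹ = z by group, hs.z0]))
  have e2 : k1 * d⁻¹ * z * (k1 * d⁻¹)⁻¹ = k1 * z * k1⁻¹ := by
    rw [show k1 * d⁻¹ * z * (k1 * d⁻¹)⁻¹ = k1 * (d⁻¹ * z * d) * k1⁻¹ by group,
      hd.inv_left.eq, inv_mul_cancel_right]
  have e3 : (k1 * d⁻¹)⁻¹ * z * (k1 * d⁻¹) = d * (k1⁻¹ * z * k1) * d⁻¹ := by group
  refine ⟨p, k1 * d⁻¹, hs, ?_, ?_, ?_, ?_⟩
  · rw [e2]; exact hx
  · rw [e3]; exact hs.large.conj_mem hd hy
  · rw [e2]; exact hpc
  · rw [e3]; exact hpd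

end CfsgLib.Recog.CoOneType
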