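import Cfsg.Agent.Lib.Recog.CoOneType.Facts
import Cfsg.Agent.Lib.ThreeTrans.LargeExtra

/-!
Coordinates on an extraspecial group of order `2 ^ 9` normal in the centralizer of its central involution,
with the generators of the isometry group induced (owner: helper12; after the Suzuki-type file of helper20).
-/

set_option autoImplicit false
set_option linter.unusedSectionVars false
set_option linter.unusedVariables false

namespace CfsgLib.Recog.CoOneType

open CfsgLib.ThreeTrans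

variable {G : Type*} [Group G]

/-- `z` or `1`. -/
def sg (z : G) (b : Bool) : G := bif b then z else 1

/-- `c` induces `A`. -/
def Acts (z : G) (Q : Subgroup G) (p : G → Nat) (c : G) (A : List Nat) : Prop :=
  Commute c z ∧ ∀ a ∈ Q, p (c * a * c⁻¹) = app A (p a)

/-- The coordinates. -/
structure Sys (z : G) (Q : Subgroup G) (p : G → Nat) : Prop where
  large : LargeData z Q
  card : Nat.card Q = 512
  cardC : Nat.card (Subgroup.centralizer ({z} : Set G)) = 2 ^ 9 * 174182400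
  lt : ∀ a ∈ Q, p a < 256
  surj : ∀ n < 256, ∃ a ∈ Q, p a = n
  map_mul : ∀ a ∈ Q, ∀ b ∈ Q, p (a * b) = p a ^^^ p b
  ker : ∀ a ∈ Q, p a = 0 → a = 1 ∨ a = z
  z0 : p z = 0
  sq : ∀ a ∈ Q, a * a = sg z (qb (p a))
  gen : ∀ d e : Nat, d < 256 → e < 256 → qb d = true → qb e = true → bb d e = true →
    ∃ c, Acts z Q p c (comp (refl d) (refl e))

namespace Sys

variable {z : G} {Q : Subgroup G} {p : G → Nat} (h : Sys z Q p)
include h

theorem sg_mul (a b : Bool) : sg z a * sg z b = sg z (a ^^ b) := by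
  cases a <;> cases b <;> simp [sg, h.large.mul_self_z]

theorem sg_inv (a : Bool) : (sg z a)⁻¹ = sg z a := by
  cases a <;> simp [sg, h.large.inv_z]

theorem sg_inj {a b : Bool} (e : sg z a = sg z b) : a = b := by
  have := h.large.z_ne_one
  cases a <;> cases b <;> simp_all [sg]

theorem sg_mem (a : Bool) : sg z a ∈ Q := by
  cases a
  · exact Q.one_mem
  · exact h.large.z_mem

theorem sg_comm {c : G} (hc : Commute c z) (a : Bool) : Commute c (sg z a) := by
  cases a
  · exact Commute.one_right c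
  · exact hc

theorem p_one : p 1 = 0 := by
  have := h.map_mul 1 Q.one_mem 1 Q.one_mem
  rwa [one_mul, Nat.xor_self] at this

theorem p_inv {a : G} (ha : a ∈ Q) : p a⁻¹ = p a := by
  have := h.map_mul _ (Q.inv_mem ha) _ ha
  rw [inv_mul_cancel, h.p_one] at this
  exact Nat.xor_eq_zero_iff.1 this.symm

theorem p_sg (a : Bool) : p (sg z a) = 0 := by
  cases a
  · exact h.p_one
  · exact h.z0

theorem eq_of_p {a b : G} (ha : a ∈ Q) (hb : b ∈ Q) (e : p a = p b) : ∃ i, b = a * sg z i := by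
  have h0 : p (a⁻¹ * b) = 0 := by rw [h.map_mul _ (Q.inv_mem ha) _ hb, h.p_inv ha, e, Nat.xor_self]
  rcases h.ker _ (Q.mul_mem (Q.inv_mem ha) hb) h0 with e1 | e1
  · exact ⟨false, by rw [show sg z false = 1 from rfl, mul_one, ← inv_mul_eq_one.1 e1]⟩
  · exact ⟨true, by rw [show sg z true = z from rfl, ← e1, mul_inv_cancel_left]⟩

theorem p_conj_q {a b : G} (ha : a ∈ Q) (hb : b ∈ Q) : p (b * a * b⁻¹) = p a := by
  rw [h.map_mul _ (Q.mul_mem hb ha) _ (Q.inv_mem hb), h.map_mul _ hb _ ha, h.p_inv hb,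
    Nat.xor_comm (p b) (p a), Nat.xor_assoc, Nat.xor_self, Nat.xor_zero]

theorem inv_eq {a : G} (ha : a ∈ Q) : a⁻¹ = a * sg z (qb (p a)) := by
  refine inv_eq_of_mul_eq_one_right ?_
  rw [← mul_assoc, h.sq a ha, h.sg_mul, Bool.xor_self]
  rfl

/-- The commutator is given by the polar form. -/
theorem comm {a b : G} (ha : a ∈ Q) (hb : b ∈ Q) : a * b * a⁻¹ * b⁻¹ = sg z (bb (p a) (p b)) := by
  have h1 := h.sq _ (Q.mul_mem ha hb)
  rw [h.map_mul a ha b hb] at h1
  rw [h.inv_eq ha, h.inv_eq hb]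
  calc a * b * (a * sg z (qb (p a))) * (b * sg z (qb (p b)))
      = a * b * a * (sg z (qb (p a)) * b) * sg z (qb (p b)) := by simp only [mul_assoc]
    _ = a * b * a * (b * sg z (qb (p a))) * sg z (qb (p b)) := by
        rw [(h.sg_comm (h.large.commute_z hb) _).eq]
    _ = a * b * (a * b) * (sg z (qb (p a)) * sg z (qb (p b))) := by simp only [mul_assoc]
    _ = _ := by rw [h1, h.sg_mul, h.sg_mul]; rfl

theorem commute_iff {a b : G} (ha : a ∈ Q) (hb : b ∈ Q) : Commute a b ↔ bb (p a) (p b) = false := by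
  have e := h.comm ha hb
  constructor
  · intro hc
    have h1 : a * b * a⁻¹ * b⁻¹ = 1 := by rw [hc.eq, mul_inv_cancel_right, mul_inv_cancel]
    exact h.sg_inj (e.symm.trans (h1.trans rfl))
  · intro hf
    rw [hf, show sg z false = 1 from rfl] at e
    exact mul_inv_eq_iff_eq_mul.1 (mul_inv_eq_one.1 e)

theorem conj_eq {a b : G} (ha : a ∈ Q) (hb : b ∈ Q) : b * a * b⁻¹ = a * sg z (bb (p b) (p a)) := by
  have e := h.comm hb ha
  rw [mul_inv_eq_iff_eq_mul] at e
  rw [e, (h.sg_comm (h.large.commute_z ha) _).eq]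

/-! ### Induced maps -/

theorem acts_mul {c d : G} {A B : List Nat} (hB : B.length = 8) (hc : Acts z Q p c A) (hd : Acts z Q p d B) :
    Acts z Q p (c * d) (comp A B) := by
  refine ⟨hc.1.mul_left hd.1, fun a ha => ?_⟩
  rw [app_comp hB, ← hd.2 a ha, ← hc.2 _ (h.large.conj_mem hd.1 ha)]
  congr 1
  group

theorem acts_of_mem {b : G} (hb : b ∈ Q) : Acts z Q p b one :=
  ⟨h.large.commute_z hb, fun a ha => by rw [app_one _ (h.lt a ha), h.p_conj_q ha hb]⟩

theorem acts_one : Acts z Q p 1 one := h.acts_of_mem Q.one_mem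

theorem acts_gen {g : List Nat} (hg : g ∈ CoOneType.gens) : ∃ c, Acts z Q p c g := by
  obtain ⟨⟨d, e⟩, hde, rfl⟩ := List.mem_map.1 hg
  have := List.all_eq_true.1 genPairs_ok _ hde
  simp only [Bool.and_eq_true, decide_eq_true_eq] at this
  obtain ⟨⟨⟨⟨h1, h2⟩, h3⟩, h4⟩, h5⟩ := this
  exact h.gen d e h1 h2 h3 h4 h5

theorem acts_word (w : List Nat) : (wmap w).length = 8 ∧ ∃ c, Acts z Q p c (wmap w) := by
  induction w with
  | nil => exact ⟨rfl, 1, h.acts_one⟩
  | cons i w ih =>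
    obtain ⟨hl, d, hd⟩ := ih
    have e : wmap (i :: w) = comp (CoOneType.gens.getD i one) (wmap w) := rfl
    refine ⟨by rw [e, length_comp, hl], ?_⟩
    obtain ⟨c, hc⟩ : ∃ c, Acts z Q p c (CoOneType.gens.getD i one) := by
      by_cases hi : i < CoOneType.gens.length
      · rw [List.getD_eq_getElem _ _ hi]
        exact h.acts_gen (List.getElem_mem hi)
      · rw [List.getD_eq_default _ _ (not_lt.1 hi)]
        exact ⟨1, h.acts_one⟩
    exact ⟨c * d, e ▸ h.acts_mul hl hc hd⟩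

theorem acts_unique {c : G} {A B : List Nat} (hA : A.length = 8) (hB : B.length = 8)
    (h1 : Acts z Q p c A) (h2 : Acts z Q p c B) : A = B := by
  refine eq_of_app hA hB fun n hn => ?_
  have hnlt : n < 256 := by revert n; decide
  obtain ⟨a, ha, rfl⟩ := h.surj n hnlt
  rw [← h1.2 a ha, ← h2.2 a ha]

/-- Every element of the centralizer induces an isometry. -/
theorem exists_acts {c : G} (hc : Commute c z) : ∃ A, Iso A ∧ Acts z Q p c A := by
  choose r hr hpr using h.surj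
  let f : Nat → Nat := fun n => if hn : n < 256 then p (c * r n hn * c⁻¹) else 0
  have hf : ∀ a ∈ Q, f (p a) = p (c * a * c⁻¹) := by
    intro a ha
    simp only [f, dif_pos (h.lt a ha)]
    obtain ⟨i, e⟩ := h.eq_of_p (hr _ (h.lt a ha)) ha (hpr _ _)
    conv_rhs => rw [e]
    rw [show c * (r (p a) (h.lt a ha) * sg z i) * c⁻¹
        = c * r (p a) (h.lt a ha) * c⁻¹ * (c * sg z i * c⁻¹) by group,
      (h.sg_comm hc i).eq, mul_inv_cancel_right,
      h.map_mul _ (h.large.conj_mem hc (hr _ _)) _ (h.sg_mem i), h.p_sg, Nat.xor_zero]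
  have hadd : ∀ a < 256, ∀ b < 256, f (a ^^^ b) = f a ^^^ f b := by
    intro a ha b hb
    obtain ⟨x, hx, rfl⟩ := h.surj a ha
    obtain ⟨y, hy, rfl⟩ := h.surj b hb
    rw [← h.map_mul x hx y hy, hf _ (Q.mul_mem hx hy), hf x hx, hf y hy,
      ← h.map_mul _ (h.large.conj_mem hc hx) _ (h.large.conj_mem hc hy)]
    congr 1
    group
  have hA : ∀ a ∈ Q, p (c * a * c⁻¹) = app [f 1, f 2, f 4, f 8, f 16, f 32, f 64, f 128] (p a) := fun a ha =>
    (hf a ha).symm.trans (additive_eq f hadd _ (h.lt a ha))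
  refine ⟨_, ⟨rfl, fun n hn => ?_⟩, hc, hA⟩
  obtain ⟨a, ha, rfl⟩ := h.surj n hn
  rw [← hA a ha]
  refine ⟨h.lt _ (h.large.conj_mem hc ha), h.sg_inj ?_⟩
  rw [← h.sq _ (h.large.conj_mem hc ha),
    show c * a * c⁻¹ * (c * a * c⁻¹) = c * (a * a) * c⁻¹ by group, h.sq a ha, (h.sg_comm hc _).eq,
    mul_inv_cancel_right]

theorem mem_of_acts_one {c : G} [Finite G] (hc : Acts z Q p c one) : c ∈ Q := by
  refine h.large.mem_of_trivial hc.1 fun a ha => ?_
  obtain ⟨i, e⟩ := h.eq_of_p ha (h.large.conj_mem hc.1 ha) (by rw [hc.2 a ha, app_one _ (h.lt a ha)])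
  rw [e, show a * sg z i * a⁻¹ = a * (sg z i * a⁻¹) by group,
    ← (h.sg_comm (h.large.commute_z ha).inv_left i).eq, mul_inv_cancel_left]
  cases i
  · exact one_mem _
  · exact Subgroup.mem_zpowers z

/-- An induced map is determined up to `Q`. -/
theorem inv_mul_mem [Finite G] {c d : G} {A : List Nat} (hc : Acts z Q p c A) (hd : Acts z Q p d A) :
    c⁻¹ * d ∈ Q := by
  obtain ⟨B, hB, hBc⟩ := h.exists_acts hc.1.inv_left
  refine h.mem_of_acts_one ⟨hc.1.inv_left.mul_left hd.1, fun a ha => ?_⟩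
  rw [app_one _ (h.lt a ha)]
  have h1 := hBc.2 _ (h.large.conj_mem hd.1 ha)
  have h2 := hBc.2 _ (h.large.conj_mem hc.1 ha)
  rw [hd.2 a ha] at h1
  rw [hc.2 a ha, inv_inv, show c⁻¹ * (c * a * c⁻¹) * c = a by group] at h2
  rw [show c⁻¹ * d * a * (c⁻¹ * d)⁻¹ = c⁻¹ * (d * a * d⁻¹) * c⁻¹⁻¹ by group, h1, ← h2]

/-- A map induced by `c` is injective. -/
theorem app_surj {c : G} {A : List Nat} (hc : Acts z Q p c A) (n : Nat) (hn : n < 256) :
    ∃ m < 256, app A m = n := by
  obtain ⟨a, ha, rfl⟩ := h.surj n hn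
  refine ⟨p (c⁻¹ * a * c⁻¹⁻¹), h.lt _ (h.large.conj_mem hc.1.inv_left ha), ?_⟩
  rw [← hc.2 _ (h.large.conj_mem hc.1.inv_left ha)]
  congr 1
  group

/-- Conjugates of induced maps. -/
theorem acts_conj {c d : G} {A B B' : List Nat} (hA : A.length = 8) (hB : B.length = 8) (hB' : B'.length = 8)
    (hc : Acts z Q p c A) (hd : Acts z Q p d B) (hcomm : comp A B = comp B' A) :
    Acts z Q p (c * d * c⁻¹) B' := by
  refine ⟨(hc.1.mul_left hd.1).mul_left hc.1.inv_left, fun a ha => ?_⟩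
  obtain ⟨B2, hB2, hBc⟩ := h.exists_acts ((hc.1.mul_left hd.1).mul_left hc.1.inv_left)
  rw [hBc.2 a ha]
  have e : comp B2 A = comp B' A := by
    rw [← hcomm]
    refine h.acts_unique (by rw [length_comp, hA]) (by rw [length_comp, hB]) ?_ (h.acts_mul hB hc hd)
    have := h.acts_mul hA hBc hc
    rwa [inv_mul_cancel_right] at this
  obtain ⟨m, hm, hm'⟩ := h.app_surj hc (p a) (h.lt a ha)
  rw [← hm', ← app_comp hA, e, app_comp hA]

end Sys

/-- Transport of the coordinates. -/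
theorem Sys.conj [Finite G] {z : G} {Q : Subgroup G} {p : G → Nat} (h : Sys z Q p) (k : G) :
    Sys (k * z * k⁻¹) (Q.map (MulAut.conj k).toMonoidHom) (fun a => p (k⁻¹ * a * k)) := by
  have hm : ∀ a, a ∈ Q.map (MulAut.conj k).toMonoidHom ↔ k⁻¹ * a * k ∈ Q := by
    intro a
    constructor
    · rintro ⟨b, hb, rfl⟩
      simpa [mul_assoc] using hb
    · intro ha
      exact ⟨_, ha, by simp [mul_assoc]⟩
  refine ⟨h.large.conj k, ?_, ?_, fun a ha => h.lt _ ((hm a).1 ha), fun n hn => ?_, fun a ha b hb => ?_,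
    fun a ha ha0 => ?_, ?_, fun a ha => ?_, fun d e h1 h2 h3 h4 h5 => ?_⟩
  · rw [← Nat.card_congr ((Q.equivMapOfInjective _ (MulAut.conj k).injective).toEquiv), h.card]
  · rw [show Subgroup.centralizer ({k * z * k⁻¹} : Set G) =
        (Subgroup.centralizer ({z} : Set G)).map (MulAut.conj k).toMonoidHom from ?_,
      ← Nat.card_congr ((Subgroup.equivMapOfInjective _ _ (MulAut.conj k).injective).toEquiv), h.cardC]
    ext c
    rw [Subgroup.mem_map_equiv, Subgroup.mem_centralizer_singleton_iff, Subgroup.mem_centralizer_singleton_iff]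
    show _ ↔ k⁻¹ * c * k * z = z * (k⁻¹ * c * k)
    rw [← mul_left_cancel_iff (a := k⁻¹), ← mul_right_cancel_iff (a := k)]
    simp only [mul_assoc, inv_mul_cancel_left, inv_mul_cancel, mul_one]
  · obtain ⟨a, ha, rfl⟩ := h.surj n hn
    exact ⟨k * a * k⁻¹, ⟨a, ha, rfl⟩, by simp [mul_assoc]⟩
  · rw [← h.map_mul _ ((hm a).1 ha) _ ((hm b).1 hb)]
    congr 1
    group
  · rcases h.ker _ ((hm a).1 ha) ha0 with e | e
    · left
      calc a = k * (k⁻¹ * a * k) * k⁻¹ := by group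
        _ = 1 := by rw [e]; group
    · right
      rw [← e]
      group
  · simpa [mul_assoc] using h.z0
  · have e := h.sq _ ((hm a).1 ha)
    calc a * a = k * (k⁻¹ * a * k * (k⁻¹ * a * k)) * k⁻¹ := by group
      _ = _ := by
        rw [e]
        cases qb (p (k⁻¹ * a * k)) <;> simp [sg]
  · obtain ⟨c, hc, hca⟩ := h.gen d e h1 h2 h3 h4 h5
    refine ⟨k * c * k⁻¹, CfsgLib.ThreeTrans.LargeData.commute_conj_iff'.2 hc, fun a ha => ?_⟩
    rw [← hca _ ((hm a).1 ha)]
    show p _ = p _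
    congr 1
    group

end CfsgLib.Recog.CoOneType
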